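import Cfsg.Agent.ChevalleyStructure.NineField
import Cfsg.Agent.LieClassical.GUOrder
import Cfsg.Agent.LieClassical.SUBasic
import Cfsg.Agent.Lib.FinFast
import Cfsg.Agent.H876.SingMax
import Cfsg.Agent.LieClassical.FieldTransfer
import Cfsg.Agent.H906.Cover_m3
import Cfsg.Agent.H912.CrossList_m3
import Cfsg.Agent.Lib.MatDec
import Cfsg.Agent.FastGrp
import Cfsg.Agent.Prune
set_option linter.all false

section
prune_inst 0x7fbca8f9abb8bddfffff7e7fa69acffc39919fffe6dff94bffe061ff0bdf130009c56b858de010fe1ef6e21410b87813fdfffeffea6bf87ffffd1ff45ffbee1fe5f7bd08519688340fbc2fffe3f0778e7f3fffffffffffffffffffffffffffbeffbfffffffff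

-- part: H918/U43/TCoord
section
prune_inst 0x435506544742200000818059453001c66a60001920068400038a00d420ccfff40a0478121feb01c10809ebed4683c002000100140406000000e000800011e018000084200864803042c0000000080000000000000000000000000000000041004000000000
set_option linter.all false
open scoped Cfsg.Agent.FastGrp

-- part: H918/U43/TMat
section
/-!
# The parabolic `3⁴ : A₆` of `PSU₄(3)`, matrices over the field with nine elements (helper918)
-/

set_option autoImplicit false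
set_option maxRecDepth 20000

namespace Cfsg.Agent.H918.U43

open Cfsg Matrix Cfsg.Agent.ChevalleyStructure.NineField

/-- conjugation -/
def cj : F9 →+* F9 where
  toFun x := ⟨x.re, -x.im⟩
  map_one' := by decide +kernel
  map_mul' := by decide +kernel
  map_zero' := by decide +kernel
  map_add' := by decide +kernel

theorem cj_cj (x : F9) : cj (cj x) = x := by revert x; decide +kernel

theorem pow_three (x : F9) : x ^ 3 = cj x := by revert x; decide +kernel

/-- conjugate transpose -/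
def st {m n : ℕ} (A : Matrix (Fin m) (Fin n) F9) : Matrix (Fin n) (Fin m) F9 := (A.map cj)ᵀ

theorem st_apply {m n : ℕ} (A : Matrix (Fin m) (Fin n) F9) (i : Fin n) (j : Fin m) : st A i j = cj (A j i) := rfl

theorem st_st {m n : ℕ} (A : Matrix (Fin m) (Fin n) F9) : st (st A) = A := by
  refine Matrix.ext fun i j => ?_
  rw [st_apply, st_apply, cj_cj]

theorem st_mul {m n k : ℕ} (A : Matrix (Fin m) (Fin n) F9) (B : Matrix (Fin n) (Fin k) F9) :
    st (A * B) = st B * st A := by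
  unfold st
  rw [Matrix.map_mul, Matrix.transpose_mul]

theorem st_add {m n : ℕ} (A B : Matrix (Fin m) (Fin n) F9) : st (A + B) = st A + st B := by
  refine Matrix.ext fun i j => ?_
  rw [st_apply, Matrix.add_apply, map_add, Matrix.add_apply, st_apply, st_apply]

theorem st_neg {m n : ℕ} (A : Matrix (Fin m) (Fin n) F9) : st (-A) = -st A := by
  refine Matrix.ext fun i j => ?_
  rw [st_apply, Matrix.neg_apply, map_neg, Matrix.neg_apply, st_apply]

theorem st_one {n : ℕ} : st (1 : Matrix (Fin n) (Fin n) F9) = 1 := by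
  refine Matrix.ext fun i j => ?_
  rw [st_apply, Matrix.one_apply, Matrix.one_apply]
  by_cases h : i = j
  · rw [if_pos h, if_pos h.symm, map_one]
  · rw [if_neg h, if_neg (fun h' => h h'.symm), map_zero]

theorem st_smul {m n : ℕ} (c : F9) (A : Matrix (Fin m) (Fin n) F9) : st (c • A) = cj c • st A := by
  refine Matrix.ext fun i j => ?_
  rw [st_apply, Matrix.smul_apply, smul_eq_mul, map_mul, Matrix.smul_apply, st_apply, smul_eq_mul]

/-! ### the hyperbolic frame -/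

def U : Matrix (Fin 4) (Fin 2) F9 := !![⟨1, 0⟩, ⟨0, 0⟩; ⟨1, 1⟩, ⟨0, 0⟩; ⟨0, 0⟩, ⟨1, 0⟩; ⟨0, 0⟩, ⟨1, 1⟩]

def V : Matrix (Fin 4) (Fin 2) F9 := !![⟨2, 0⟩, ⟨0, 0⟩; ⟨1, 1⟩, ⟨0, 0⟩; ⟨0, 0⟩, ⟨2, 0⟩; ⟨0, 0⟩, ⟨1, 1⟩]

theorem UU : st U * U = 0 := by decide +kernel
theorem VV : st V * V = 0 := by decide +kernel
theorem VU : st V * U = 1 := by decide +kernel
theorem UV : st U * V = 1 := by decide +kernel
theorem UVVU : U * st V + V * st U = 1 := by decide +kernel

/-- the matrices of the radical -/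
def xm (C : Matrix (Fin 2) (Fin 2) F9) : Matrix (Fin 4) (Fin 4) F9 := 1 + U * C * st U

/-- the matrices of the Levi complement; `Ai` is the inverse of `A` -/
def lm (A Ai : Matrix (Fin 2) (Fin 2) F9) : Matrix (Fin 4) (Fin 4) F9 := U * A * st V + V * st Ai * st U

theorem xm_U (C : Matrix (Fin 2) (Fin 2) F9) : xm C * U = U := by
  unfold xm
  rw [Matrix.add_mul, Matrix.one_mul, Matrix.mul_assoc (U * C), UU, Matrix.mul_zero, add_zero]

theorem xm_V (C : Matrix (Fin 2) (Fin 2) F9) : xm C * V = V + U * C := by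
  unfold xm
  rw [Matrix.add_mul, Matrix.one_mul, Matrix.mul_assoc (U * C), UV, Matrix.mul_one]

theorem lm_U (A Ai : Matrix (Fin 2) (Fin 2) F9) : lm A Ai * U = U * A := by
  unfold lm
  rw [Matrix.add_mul, Matrix.mul_assoc (U * A), VU, Matrix.mul_one, Matrix.mul_assoc (V * st Ai), UU, Matrix.mul_zero, add_zero]

theorem lm_V (A Ai : Matrix (Fin 2) (Fin 2) F9) : lm A Ai * V = V * st Ai := by
  unfold lm
  rw [Matrix.add_mul, Matrix.mul_assoc (U * A), VV, Matrix.mul_zero, Matrix.mul_assoc (V * st Ai), UV, Matrix.mul_one, zero_add]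

/-- a matrix is determined by its action on the frame -/
theorem ext_UV {n : ℕ} {X Y : Matrix (Fin n) (Fin 4) F9} (h1 : X * U = Y * U) (h2 : X * V = Y * V) : X = Y := by
  have h : ∀ Z : Matrix (Fin n) (Fin 4) F9, Z = Z * U * st V + Z * V * st U := by
    intro Z
    rw [Matrix.mul_assoc, Matrix.mul_assoc, ← Matrix.mul_add, UVVU, Matrix.mul_one]
  rw [h X, h Y, h1, h2]

theorem xm_mul (C D : Matrix (Fin 2) (Fin 2) F9) : xm C * xm D = xm (C + D) := by
  apply ext_UV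
  · rw [Matrix.mul_assoc, xm_U, xm_U, xm_U]
  · rw [Matrix.mul_assoc, xm_V, Matrix.mul_add, xm_V, ← Matrix.mul_assoc, xm_U, xm_V, Matrix.mul_add, add_assoc]

theorem xm_zero : xm 0 = 1 := by
  unfold xm
  rw [Matrix.mul_zero, Matrix.zero_mul, add_zero]

theorem xm_inj {C D : Matrix (Fin 2) (Fin 2) F9} (h : xm C = xm D) : C = D := by
  have h1 : st V * (xm C * V) = st V * (xm D * V) := by rw [h]
  rw [xm_V, xm_V, Matrix.mul_add, Matrix.mul_add, ← Matrix.mul_assoc, ← Matrix.mul_assoc, VU, Matrix.one_mul,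
    Matrix.one_mul] at h1
  exact add_left_cancel h1

theorem lm_mul (A Ai B Bi : Matrix (Fin 2) (Fin 2) F9) : lm A Ai * lm B Bi = lm (A * B) (Bi * Ai) := by
  apply ext_UV
  · rw [Matrix.mul_assoc, lm_U, ← Matrix.mul_assoc, lm_U, lm_U, Matrix.mul_assoc]
  · rw [Matrix.mul_assoc, lm_V, ← Matrix.mul_assoc, lm_V, lm_V, st_mul, Matrix.mul_assoc]

theorem lm_one : lm 1 1 = 1 := by
  unfold lm
  rw [Matrix.mul_one, st_one, Matrix.mul_one, UVVU]

/-- the action on the radical -/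
theorem lm_xm {A Ai : Matrix (Fin 2) (Fin 2) F9} (h : A * Ai = 1) (C : Matrix (Fin 2) (Fin 2) F9) :
    lm A Ai * xm C = xm (A * C * st A) * lm A Ai := by
  have h' : Ai * A = 1 := mul_eq_one_comm.1 h
  have h2 : st A * st Ai = 1 := by rw [← st_mul, h', st_one]
  apply ext_UV
  · rw [Matrix.mul_assoc, xm_U, lm_U, Matrix.mul_assoc, lm_U, ← Matrix.mul_assoc, xm_U]
  · rw [Matrix.mul_assoc, xm_V, Matrix.mul_add, lm_V, ← Matrix.mul_assoc, lm_U,
      Matrix.mul_assoc (xm (A * C * st A)) (lm A Ai) V, lm_V,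
      ← Matrix.mul_assoc, xm_V, Matrix.add_mul, Matrix.mul_assoc U (A * C * st A), Matrix.mul_assoc (A * C), h2,
      Matrix.mul_one, Matrix.mul_assoc U A]

/-! ### unitary matrices -/

/-- unitary -/
def Un (s : Matrix (Fin 4) (Fin 4) F9) : Prop := st s * s = 1

instance (s : Matrix (Fin 4) (Fin 4) F9) : Decidable (Un s) := inferInstanceAs (Decidable (_ = _))

theorem Un.mul {s t : Matrix (Fin 4) (Fin 4) F9} (hs : Un s) (ht : Un t) : Un (s * t) := by
  unfold Un at *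
  rw [st_mul, Matrix.mul_assoc, ← Matrix.mul_assoc (st s), hs, Matrix.one_mul, ht]

theorem Un.mul' {s : Matrix (Fin 4) (Fin 4) F9} (hs : Un s) : s * st s = 1 := mul_eq_one_comm.1 hs

theorem Un.st {s : Matrix (Fin 4) (Fin 4) F9} (hs : Un s) : Un (st s) := by
  unfold Un
  rw [st_st]
  exact hs.mul'

theorem un_xm {C : Matrix (Fin 2) (Fin 2) F9} (hC : U43.st C = -C) : Un (xm C) := by
  have h : U43.st (xm C) = xm (-C) := by
    unfold xm
    rw [st_add, st_one, st_mul, st_mul, st_st, hC, Matrix.mul_assoc]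
  unfold Un
  rw [h, xm_mul, neg_add_cancel, xm_zero]

theorem un_lm {A Ai : Matrix (Fin 2) (Fin 2) F9} (h : A * Ai = 1) : Un (lm A Ai) := by
  have h' : Ai * A = 1 := mul_eq_one_comm.1 h
  have h1 : U43.st (lm A Ai) = lm Ai A := by
    unfold lm
    rw [st_add, st_mul, st_mul, st_mul, st_mul, st_st, st_st, st_st, add_comm, Matrix.mul_assoc, Matrix.mul_assoc]
  unfold Un
  rw [h1, lm_mul, h', lm_one]

theorem det_xm (C : Matrix (Fin 2) (Fin 2) F9) : (xm C).det = 1 := by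
  unfold xm
  rw [Matrix.mul_assoc, Matrix.det_one_add_mul_comm, Matrix.mul_assoc, UU, Matrix.mul_zero, add_zero, Matrix.det_one]

/-- **Decomposition** of the unitary matrices stabilising `⟨U⟩`. -/
theorem decomp {s : Matrix (Fin 4) (Fin 4) F9} (hs : Un s) {A : Matrix (Fin 2) (Fin 2) F9} (hA : s * U = U * A) :
    ∃ Ai C, A * Ai = 1 ∧ U43.st C = -C ∧ s = xm C * lm A Ai := by
  -- `A` is invertible
  have h1 : A * (U43.st V * U43.st s * U) = 1 := by
    have h2 : U43.st V * s * U = A := by rw [Matrix.mul_assoc, hA, ← Matrix.mul_assoc, VU, Matrix.one_mul]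
    have h3 : (U43.st V * U43.st s * U) * A = 1 := by
      rw [Matrix.mul_assoc, ← hA, ← Matrix.mul_assoc, Matrix.mul_assoc (U43.st V), hs, Matrix.mul_one, VU]
    exact mul_eq_one_comm.1 h3
  set Ai := U43.st V * U43.st s * U with hAi
  have h1' : Ai * A = 1 := mul_eq_one_comm.1 h1
  set t := s * lm Ai A with ht
  have htu : Un t := hs.mul (un_lm h1')
  have htU : t * U = U := by
    rw [ht, Matrix.mul_assoc, lm_U, ← Matrix.mul_assoc, hA, Matrix.mul_assoc, h1, Matrix.mul_one]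
  have hst : U43.st U * U43.st t = U43.st U := by rw [← st_mul, htU]
  -- coordinates of `t V`
  have hdec : t * V = U * (U43.st V * t * V) + V := by
    have h2 : t * V = U * (U43.st V * (t * V)) + V * (U43.st U * (t * V)) := by
      rw [← Matrix.mul_assoc, ← Matrix.mul_assoc V, ← Matrix.add_mul, UVVU, Matrix.one_mul]
    have h3 : U43.st U * (t * V) = 1 := by
      have h4 : U43.st U * (t * V) = U43.st U * U43.st t * (t * V) := by rw [hst]
      rw [h4, Matrix.mul_assoc, ← Matrix.mul_assoc (U43.st t), htu, Matrix.one_mul, UV]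
    rw [h3, Matrix.mul_one, ← Matrix.mul_assoc (U43.st V)] at h2
    exact h2
  set C := U43.st V * t * V with hC
  refine ⟨Ai, C, h1, ?_, ?_⟩
  · have h2 : U43.st (t * V) * (t * V) = 0 := by
      rw [st_mul, Matrix.mul_assoc, ← Matrix.mul_assoc (U43.st t), htu, Matrix.one_mul, VV]
    rw [hdec, st_add, st_mul, Matrix.add_mul, Matrix.mul_add, Matrix.mul_add, Matrix.mul_assoc (U43.st C),
      ← Matrix.mul_assoc (U43.st U) U, UU, Matrix.zero_mul, Matrix.mul_zero, zero_add, Matrix.mul_assoc (U43.st C), UV,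
      Matrix.mul_one, ← Matrix.mul_assoc, VU, Matrix.one_mul, VV, add_zero] at h2
    exact eq_neg_of_add_eq_zero_left h2
  · have h2 : t = xm C := by
      apply ext_UV
      · rw [htU, xm_U]
      · rw [hdec, xm_V, add_comm]
    rw [← h2, ht, Matrix.mul_assoc, lm_mul, h1', lm_one, Matrix.mul_one]

end Cfsg.Agent.H918.U43
end

-- part: H918/U43/TCoord
section
/-!
# Coordinates of the radical `3⁴` and the action matrices (helper918)
-/

set_option autoImplicit false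
set_option maxRecDepth 20000

namespace Cfsg.Agent.H918.U43

open Cfsg Matrix Cfsg.Agent.ChevalleyStructure.NineField

/-- the radical -/
abbrev A4 := Fin 4 → ZMod 3

def RU (a b : ZMod 3) : Matrix (Fin 4) (Fin 4) (ZMod 3) :=
  !![1, -a, -b, a * a + b * b; 0, 1, 0, a; 0, 0, 1, b; 0, 0, 0, 1]

def RL (a b : ZMod 3) : Matrix (Fin 4) (Fin 4) (ZMod 3) :=
  !![1, 0, 0, 0; a, 1, 0, 0; -b, 0, 1, 0; a * a + b * b, -a, b, 1]

def RH : Matrix (Fin 4) (Fin 4) (ZMod 3) := !![-1, 0, 0, 0; 0, 0, -1, 0; 0, 1, 0, 0; 0, 0, 0, -1]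

/-- the four letters -/
def Rm : Fin 4 → Matrix (Fin 4) (Fin 4) (ZMod 3) := ![RU 1 0, RU 0 1, RL 1 0, RL 0 1]

/-- skew-hermitian matrices -/
def Cm (v : A4) : Matrix (Fin 2) (Fin 2) F9 := !![⟨0, v 0⟩, ⟨-v 2, v 1⟩; ⟨v 2, v 1⟩, ⟨0, v 3⟩]

theorem Cm_add (v w : A4) : Cm (v + w) = Cm v + Cm w := by
  refine Matrix.ext fun i j => ?_
  fin_cases i <;> fin_cases j
  · exact F9.ext (by decide : (0 : Fin 3) = 0 + 0) rfl
  · exact F9.ext (neg_add (v 2 : ZMod 3) (w 2)) rfl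
  · exact F9.ext rfl rfl
  · exact F9.ext (by decide : (0 : Fin 3) = 0 + 0) rfl

theorem Cm_inj : Function.Injective Cm := by
  intro v w h
  have h00 := congrFun (congrFun h 0) 0
  have h10 := congrFun (congrFun h 1) 0
  have h11 := congrFun (congrFun h 1) 1
  refine funext fun i => ?_
  fin_cases i
  · exact congrArg F9.im h00
  · exact congrArg F9.im h10
  · exact congrArg F9.re h10
  · exact congrArg F9.im h11

theorem Cm_skew (v : A4) : st (Cm v) = - Cm v := by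
  refine Matrix.ext fun i j => ?_
  rw [st_apply]
  have k1 : ∀ x : ZMod 3, cj (⟨0, x⟩ : F9) = -⟨0, x⟩ := by decide +kernel
  have k2 : ∀ x y : ZMod 3, cj (⟨x, y⟩ : F9) = -(⟨-x, y⟩ : F9) := by decide +kernel
  have k3 : ∀ x y : ZMod 3, cj (⟨-x, y⟩ : F9) = -(⟨x, y⟩ : F9) := by decide +kernel
  fin_cases i <;> fin_cases j
  · exact k1 (v 0)
  · exact k2 (v 2) (v 1)
  · exact k3 (v 2) (v 1)
  · exact k1 (v 3)

theorem exists_Cm {C : Matrix (Fin 2) (Fin 2) F9} (hC : st C = -C) : ∃ v, C = Cm v := by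
  have k1 : ∀ x : F9, cj x = -x → x = ⟨0, x.im⟩ := by decide +kernel
  have k2 : ∀ x y : F9, cj x = - y → y = ⟨-x.re, x.im⟩ := by decide +kernel
  have e00 := congrFun (congrFun hC 0) 0
  have e01 := congrFun (congrFun hC 0) 1
  have e11 := congrFun (congrFun hC 1) 1
  rw [st_apply, Matrix.neg_apply] at e00 e01 e11
  refine ⟨![(C 0 0).im, (C 1 0).im, (C 1 0).re, (C 1 1).im], Matrix.ext fun i j => ?_⟩
  fin_cases i <;> fin_cases j
  · exact k1 _ e00
  · exact k2 _ _ e01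
  · exact F9.ext rfl rfl
  · exact k1 _ e11

theorem skew_conj {A C : Matrix (Fin 2) (Fin 2) F9} (hC : st C = -C) : st (A * C * st A) = -(A * C * st A) := by
  rw [st_mul, st_mul, st_st, hC, Matrix.neg_mul, Matrix.mul_neg, Matrix.mul_assoc]

/-! ### the four letters and `h` -/

def uM (a : F9) : Matrix (Fin 2) (Fin 2) F9 := !![1, a; 0, 1]
def lM (a : F9) : Matrix (Fin 2) (Fin 2) F9 := !![1, 0; a, 1]
def hM (a b : F9) : Matrix (Fin 2) (Fin 2) F9 := !![a, 0; 0, b]

theorem vec4 (v : A4) : v = ![v 0, v 1, v 2, v 3] := by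
  refine funext fun i => ?_
  fin_cases i <;> rfl

private noncomputable def _root_.Cfsg.Agent.LsF.f315e1d_0 : {f // @Cfsg.Agent.ChevalleyStructure.NineField.F9.instMul = f} := ⟨_, by first | (delta Cfsg.Agent.ChevalleyStructure.NineField.F9.instMul; rewrite [Cfsg.Agent.LsF.fadd_pat, Cfsg.Agent.LsF.fmul_pat]; exact rfl) | exact rfl⟩
private noncomputable def _root_.Cfsg.Agent.LsF.f315e1d_4 : {f // @Cfsg.Agent.H918.U43.uM = f} := ⟨_, by first | (delta Cfsg.Agent.H918.U43.uM; rewrite [Cfsg.Agent.LsF.mof_pat, Cfsg.Agent.LsF.vecCons_eq]; exact rfl) | exact rfl⟩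
private noncomputable def _root_.Cfsg.Agent.LsF.f315e1d_5 : {f // @Cfsg.Agent.H918.U43.Cm = f} := ⟨_, by first | (delta Cfsg.Agent.H918.U43.Cm; rewrite [Cfsg.Agent.LsF.mof_pat, Cfsg.Agent.LsF.zneg_pat, Cfsg.Agent.LsF.vecCons_eq]; exact rfl) | exact rfl⟩
private noncomputable def _root_.Cfsg.Agent.LsF.f315e1d_6 : {f // @Cfsg.Agent.H918.U43.st = f} := ⟨_, by first | (delta Cfsg.Agent.H918.U43.st; rewrite [Cfsg.Agent.LsF.transpose_eq, Cfsg.Agent.LsF.mmap_eq]; exact rfl) | exact rfl⟩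
private noncomputable def _root_.Cfsg.Agent.LsF.f315e1d_7 : {f // @Cfsg.Agent.H918.U43.RU = f} := ⟨_, by first | (delta Cfsg.Agent.H918.U43.RU; rewrite [Cfsg.Agent.LsF.mof_pat, Cfsg.Agent.LsF.zadd_pat, Cfsg.Agent.LsF.zmul_pat, Cfsg.Agent.LsF.zneg_pat, Cfsg.Agent.LsF.vecCons_eq]; exact rfl) | exact rfl⟩
private noncomputable def _root_.Cfsg.Agent.LsF.f315e1d_8 : {f // @Cfsg.Agent.ChevalleyStructure.NineField.F9.decEq = f} := ⟨_, by first | (delta Cfsg.Agent.ChevalleyStructure.NineField.F9.decEq; rewrite [Cfsg.Agent.LsF.dAnd_eq, Cfsg.Agent.LsF.dFinEq_eq, Cfsg.Agent.LsF.dite_eq]; (try delta Cfsg.Agent.ChevalleyStructure.NineField.F9.decEq.match_1); (try delta Cfsg.Agent.ChevalleyStructure.NineField.F9.casesOn); exact rfl) | exact rfl⟩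
private noncomputable def _root_.Cfsg.Agent.LsF.f315e1d_9 : {f // @Cfsg.Agent.ChevalleyStructure.NineField.F9.instDecEq = f} := ⟨_, by first | (delta Cfsg.Agent.ChevalleyStructure.NineField.F9.instDecEq; rewrite [Cfsg.Agent.LsF.f315e1d_8.2]; exact rfl) | exact rfl⟩
theorem act_u0 (v : A4) : uM ⟨1, 0⟩ * Cm v * st (uM ⟨1, 0⟩) = Cm (RU 1 0 *ᵥ v) := by
  have h : ∀ a b c d : ZMod 3, uM ⟨1, 0⟩ * Cm ![a, b, c, d] * st (uM ⟨1, 0⟩) = Cm (RU 1 0 *ᵥ ![a, b, c, d]) := by
    (refine of_decide_eq_true ?_; (try (rewrite [Cfsg.Agent.LsF.mmulF_pat, Cfsg.Agent.LsF.mulVecF_pat, Cfsg.Agent.LsF.f315e1d_0.2, Cfsg.Agent.LsF.f315e1d_4.2, Cfsg.Agent.LsF.f315e1d_5.2, Cfsg.Agent.LsF.f315e1d_6.2, Cfsg.Agent.LsF.f315e1d_7.2, Cfsg.Agent.LsF.f315e1d_9.2, Cfsg.Agent.LsF.zadd_pat, Cfsg.Agent.LsF.zmul_pat, Cfsg.Agent.LsF.vecCons_eq, Cfsg.Agent.LsF.finFintype_eq, Cfsg.Agent.LsF.zFintype_eq, Cfsg.Agent.LsF.dForall_eq, Cfsg.Agent.LsF.dMat_eq, Cfsg.Agent.LsF.decide_eq]));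 decide +kernel)
  rw [vec4 v]
  exact h _ _ _ _

theorem act_u1 (v : A4) : uM ⟨0, 1⟩ * Cm v * st (uM ⟨0, 1⟩) = Cm (RU 0 1 *ᵥ v) := by
  have h : ∀ a b c d : ZMod 3, uM ⟨0, 1⟩ * Cm ![a, b, c, d] * st (uM ⟨0, 1⟩) = Cm (RU 0 1 *ᵥ ![a, b, c, d]) := by
    (refine of_decide_eq_true ?_; (try (rewrite [Cfsg.Agent.LsF.mmulF_pat, Cfsg.Agent.LsF.mulVecF_pat, Cfsg.Agent.LsF.f315e1d_0.2, Cfsg.Agent.LsF.f315e1d_4.2, Cfsg.Agent.LsF.f315e1d_5.2, Cfsg.Agent.LsF.f315e1d_6.2, Cfsg.Agent.LsF.f315e1d_7.2, Cfsg.Agent.LsF.f315e1d_9.2, Cfsg.Agent.LsF.zadd_pat, Cfsg.Agent.LsF.zmul_pat, Cfsg.Agent.LsF.vecCons_eq, Cfsg.Agent.LsF.finFintype_eq, Cfsg.Agent.LsF.zFintype_eq, Cfsg.Agent.LsF.dForall_eq, Cfsg.Agent.LsF.dMat_eq, Cfsg.Agent.LsF.decide_eq])); decide +kernel)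
  rw [vec4 v]
  exact h _ _ _ _

private noncomputable def _root_.Cfsg.Agent.LsF.f315e1d_10 : {f // @Cfsg.Agent.H918.U43.lM = f} := ⟨_, by first | (delta Cfsg.Agent.H918.U43.lM; rewrite [Cfsg.Agent.LsF.mof_pat, Cfsg.Agent.LsF.vecCons_eq]; exact rfl) | exact rfl⟩
private noncomputable def _root_.Cfsg.Agent.LsF.f315e1d_11 : {f // @Cfsg.Agent.H918.U43.RL = f} := ⟨_, by first | (delta Cfsg.Agent.H918.U43.RL; rewrite [Cfsg.Agent.LsF.mof_pat, Cfsg.Agent.LsF.zadd_pat, Cfsg.Agent.LsF.zmul_pat, Cfsg.Agent.LsF.zneg_pat, Cfsg.Agent.LsF.vecCons_eq]; exact rfl) | exact rfl⟩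
theorem act_l0 (v : A4) : lM ⟨1, 0⟩ * Cm v * st (lM ⟨1, 0⟩) = Cm (RL 1 0 *ᵥ v) := by
  have h : ∀ a b c d : ZMod 3, lM ⟨1, 0⟩ * Cm ![a, b, c, d] * st (lM ⟨1, 0⟩) = Cm (RL 1 0 *ᵥ ![a, b, c, d]) := by
    (refine of_decide_eq_true ?_; (try (rewrite [Cfsg.Agent.LsF.mmulF_pat, Cfsg.Agent.LsF.mulVecF_pat, Cfsg.Agent.LsF.f315e1d_0.2, Cfsg.Agent.LsF.f315e1d_10.2, Cfsg.Agent.LsF.f315e1d_5.2, Cfsg.Agent.LsF.f315e1d_6.2, Cfsg.Agent.LsF.f315e1d_11.2, Cfsg.Agent.LsF.f315e1d_9.2, Cfsg.Agent.LsF.zadd_pat, Cfsg.Agent.LsF.zmul_pat, Cfsg.Agent.LsF.vecCons_eq, Cfsg.Agent.LsF.finFintype_eq, Cfsg.Agent.LsF.zFintype_eq, Cfsg.Agent.LsF.dForall_eq, Cfsg.Agent.LsF.dMat_eq, Cfsg.Agent.LsF.decide_eq])); decide +kernel)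
  rw [vec4 v]
  exact h _ _ _ _

theorem act_l1 (v : A4) : lM ⟨0, 1⟩ * Cm v * st (lM ⟨0, 1⟩) = Cm (RL 0 1 *ᵥ v) := by
  have h : ∀ a b c d : ZMod 3, lM ⟨0, 1⟩ * Cm ![a, b, c, d] * st (lM ⟨0, 1⟩) = Cm (RL 0 1 *ᵥ ![a, b, c, d]) := by
    (refine of_decide_eq_true ?_; (try (rewrite [Cfsg.Agent.LsF.mmulF_pat, Cfsg.Agent.LsF.mulVecF_pat, Cfsg.Agent.LsF.f315e1d_0.2, Cfsg.Agent.LsF.f315e1d_10.2, Cfsg.Agent.LsF.f315e1d_5.2, Cfsg.Agent.LsF.f315e1d_6.2, Cfsg.Agent.LsF.f315e1d_11.2, Cfsg.Agent.LsF.f315e1d_9.2, Cfsg.Agent.LsF.zadd_pat, Cfsg.Agent.LsF.zmul_pat, Cfsg.Agent.LsF.vecCons_eq, Cfsg.Agent.LsF.finFintype_eq, Cfsg.Agent.LsF.zFintype_eq, Cfsg.Agent.LsF.dForall_eq, Cfsg.Agent.LsF.dMat_eq, Cfsg.Agent.LsF.decide_eq])); decide +kernel)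
  rw [vec4 v]
  exact h _ _ _ _

private noncomputable def _root_.Cfsg.Agent.LsF.f315e1d_12 : {f // @Cfsg.Agent.H918.U43.hM = f} := ⟨_, by first | (delta Cfsg.Agent.H918.U43.hM; rewrite [Cfsg.Agent.LsF.mof_pat, Cfsg.Agent.LsF.vecCons_eq]; exact rfl) | exact rfl⟩
private noncomputable def _root_.Cfsg.Agent.LsF.f315e1d_13 : {f // @Cfsg.Agent.H918.U43.RH = f} := ⟨_, by first | (delta Cfsg.Agent.H918.U43.RH; rewrite [Cfsg.Agent.LsF.mof_pat, Cfsg.Agent.LsF.zneg_pat, Cfsg.Agent.LsF.vecCons_eq]; exact rfl) | exact rfl⟩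
theorem act_hM (v : A4) : hM ⟨1, 1⟩ ⟨2, 1⟩ * Cm v * st (hM ⟨1, 1⟩ ⟨2, 1⟩) = Cm (RH *ᵥ v) := by
  have h : ∀ a b c d : ZMod 3, hM ⟨1, 1⟩ ⟨2, 1⟩ * Cm ![a, b, c, d] * st (hM ⟨1, 1⟩ ⟨2, 1⟩) =
      Cm (RH *ᵥ ![a, b, c, d]) := by
    (refine of_decide_eq_true ?_; (try (rewrite [Cfsg.Agent.LsF.mmulF_pat, Cfsg.Agent.LsF.mulVecF_pat, Cfsg.Agent.LsF.f315e1d_0.2, Cfsg.Agent.LsF.f315e1d_12.2, Cfsg.Agent.LsF.f315e1d_5.2, Cfsg.Agent.LsF.f315e1d_6.2, Cfsg.Agent.LsF.f315e1d_13.2, Cfsg.Agent.LsF.f315e1d_9.2, Cfsg.Agent.LsF.zadd_pat, Cfsg.Agent.LsF.zmul_pat, Cfsg.Agent.LsF.vecCons_eq, Cfsg.Agent.LsF.finFintype_eq, Cfsg.Agent.LsF.zFintype_eq, Cfsg.Agent.LsF.dForall_eq, Cfsg.Agent.LsF.dMat_eq, Cfsg.Agent.LsF.decide_eq])); decide +kernel)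
  rw [vec4 v]
  exact h _ _ _ _

private noncomputable def _root_.Cfsg.Agent.LsF.f315e1d_1 : {f // @Cfsg.Agent.ChevalleyStructure.NineField.F9.instAdd = f} := ⟨_, by first | (delta Cfsg.Agent.ChevalleyStructure.NineField.F9.instAdd; rewrite [Cfsg.Agent.LsF.fadd_pat]; exact rfl) | exact rfl⟩
theorem uM_mul (a b : F9) : uM a * uM b = uM (a + b) := by revert a b; (refine of_decide_eq_true ?_; (try (rewrite [Cfsg.Agent.LsF.mmulF_pat, Cfsg.Agent.LsF.f315e1d_0.2, Cfsg.Agent.LsF.f315e1d_4.2, Cfsg.Agent.LsF.f315e1d_1.2, Cfsg.Agent.LsF.f315e1d_9.2, Cfsg.Agent.LsF.finFintype_eq, Cfsg.Agent.LsF.dForall_eq, Cfsg.Agent.LsF.dMat_eq, Cfsg.Agent.LsF.decide_eq])); decide +kernel)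
theorem lM_mul (a b : F9) : lM a * lM b = lM (a + b) := by revert a b; (refine of_decide_eq_true ?_; (try (rewrite [Cfsg.Agent.LsF.mmulF_pat, Cfsg.Agent.LsF.f315e1d_0.2, Cfsg.Agent.LsF.f315e1d_10.2, Cfsg.Agent.LsF.f315e1d_1.2, Cfsg.Agent.LsF.f315e1d_9.2, Cfsg.Agent.LsF.finFintype_eq, Cfsg.Agent.LsF.dForall_eq, Cfsg.Agent.LsF.dMat_eq, Cfsg.Agent.LsF.decide_eq])); decide +kernel)
theorem uM_zero : uM 0 = 1 := by decide +kernel
theorem lM_zero : lM 0 = 1 := by decide +kernel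

theorem uM_inv (a : F9) : uM a * uM (-a) = 1 := by rw [uM_mul, add_neg_cancel, uM_zero]
theorem lM_inv (a : F9) : lM a * lM (-a) = 1 := by rw [lM_mul, add_neg_cancel, lM_zero]

theorem add_three (a : F9) : a + a + a = 0 := by revert a; decide +kernel

private theorem key15 {F : Type} [Field F] (a b c d : F) (h : a * d - b * c = 1) (hc : c ≠ 0) :
    !![a, b; c, d] = !![1, (a - 1) * c⁻¹; 0, 1] * !![1, 0; c, 1] * !![1, (d - 1) * c⁻¹; 0, 1] := by
  have hi : c⁻¹ * c = 1 := inv_mul_cancel₀ hc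
  generalize c⁻¹ = x at hi ⊢
  have e0 : (1 * 1 + (a - 1) * x * c) * 1 + (1 * 0 + (a - 1) * x * 1) * 0 = a := by
    linear_combination (a - 1) * hi
  have e1 : (1 * 1 + (a - 1) * x * c) * ((d - 1) * x) + (1 * 0 + (a - 1) * x * 1) * 1 = b := by
    linear_combination x * h + (b + (a - 1) * (d - 1) * x) * hi
  have e2 : (0 * 1 + 1 * c) * 1 + (0 * 0 + 1 * 1) * 0 = c := by ring
  have e3 : (0 * 1 + 1 * c) * ((d - 1) * x) + (0 * 0 + 1 * 1) * 1 = d := by
    linear_combination (d - 1) * hi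
  rw [Matrix.mul_fin_two, Matrix.mul_fin_two, e0, e1, e2, e3]

/-- `SL_2` is generated by elementary matrices -/
theorem sl_gen (S : Set (Matrix (Fin 2) (Fin 2) F9)) (hu : ∀ a, uM a ∈ S) (hl : ∀ a, lM a ∈ S)
    (hmul : ∀ A B, A ∈ S → B ∈ S → A * B ∈ S) (A : Matrix (Fin 2) (Fin 2) F9) (hA : A.det = 1) : A ∈ S := by
  have key : ∀ a b c d : F9, a * d - b * c = 1 → c ≠ 0 →
      !![a, b; c, d] = uM ((a - 1) * c⁻¹) * lM c * uM ((d - 1) * c⁻¹) := fun a b c d h hc => key15 a b c d h hc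
  have h1 : ∀ A : Matrix (Fin 2) (Fin 2) F9, A.det = 1 → A 1 0 ≠ 0 → A ∈ S := by
    intro A hA hc
    rw [Matrix.det_fin_two] at hA
    rw [Matrix.eta_fin_two A, key _ _ _ _ hA hc]
    exact hmul _ _ (hmul _ _ (hu _) (hl _)) (hu _)
  by_cases hc : A 1 0 = 0
  · have h2 : A * lM 1 ∈ S := by
      apply h1
      · rw [Matrix.det_mul, hA, one_mul]; decide +kernel
      · have h3 : (A * lM 1) 1 0 = A 1 0 + A 1 1 := by
          rw [Matrix.mul_apply, Fin.sum_univ_two]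
          change A 1 0 * 1 + A 1 1 * 1 = _
          rw [mul_one, mul_one]
        rw [h3, hc, zero_add]
        intro h4
        rw [Matrix.det_fin_two, hc, h4, mul_zero, mul_zero, sub_zero] at hA
        exact absurd hA (by decide +kernel)
    have h3 : A = A * lM 1 * lM (-1) := by rw [Matrix.mul_assoc, lM_inv, Matrix.mul_one]
    rw [h3]
    exact hmul _ _ h2 (hl _)
  · exact h1 A hA hc

/-- the pointwise stabiliser of the radical in `SL_2` -/
theorem sl_cent {A : Matrix (Fin 2) (Fin 2) F9} (hA : A.det = 1) (h : ∀ v, A * Cm v * st A = Cm v) :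
    A = 1 ∨ A = -1 := by
  have e : ∀ (C : Matrix (Fin 2) (Fin 2) F9) (i j : Fin 2), (A * C * st A) i j =
      (A i 0 * C 0 0 + A i 1 * C 1 0) * cj (A j 0) + (A i 0 * C 0 1 + A i 1 * C 1 1) * cj (A j 1) := by
    intro C i j
    rw [Matrix.mul_apply, Fin.sum_univ_two, Matrix.mul_apply, Matrix.mul_apply, Fin.sum_univ_two, Fin.sum_univ_two,
      st_apply, st_apply]
  have k1 : ∀ x y : F9, (x * ⟨0, 1⟩ + y * ⟨0, 0⟩) * cj x + (x * ⟨0, 0⟩ + y * ⟨0, 0⟩) * cj y = ⟨0, 0⟩ → x = 0 := by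
    decide +kernel
  have k2 : ∀ x y : F9, (x * ⟨0, 0⟩ + y * ⟨0, 0⟩) * cj x + (x * ⟨0, 0⟩ + y * ⟨0, 1⟩) * cj y = ⟨0, 0⟩ → y = 0 := by
    decide +kernel
  have k : ∀ a d : F9, a * d - 0 * 0 = 1 →
      (!![a, 0; 0, d] * Cm ![1, 0, 0, 0] * st !![a, 0; 0, d] = Cm ![1, 0, 0, 0]) →
      (!![a, 0; 0, d] * Cm ![0, 0, 1, 0] * st !![a, 0; 0, d] = Cm ![0, 0, 1, 0]) →
      !![a, 0; 0, d] = 1 ∨ !![a, 0; 0, d] = -1 := by
    decide +kernel
  have hc : A 1 0 = 0 := k1 _ (A 1 1) ((e (Cm ![1, 0, 0, 0]) 1 1).symm.trans (congrFun (congrFun (h ![1, 0, 0, 0]) 1) 1))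
  have hb : A 0 1 = 0 := k2 (A 0 0) _ ((e (Cm ![0, 0, 0, 1]) 0 0).symm.trans (congrFun (congrFun (h ![0, 0, 0, 1]) 0) 0))
  rw [Matrix.det_fin_two, hb, hc] at hA
  have e := Matrix.eta_fin_two A
  rw [hb, hc] at e
  rw [e] at h ⊢
  exact k _ _ hA (h _) (h _)

end Cfsg.Agent.H918.U43
end
end

-- part: H918/U43/Main
section
set_option linter.all false
open scoped Cfsg.Agent.FastGrp

-- part: H918/U43/TGrp
section
/-!
# The parabolic `3⁴ : A₆` of `PSU₄(3)`: the group facts (helper918)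

`TD T` : the facts on `T ≅ PSU₄(3)` used by the representation side; `TD.map`; `tdPSU : TD (PSU 4 F9 3)`.
-/

set_option autoImplicit false
set_option maxRecDepth 20000

namespace Cfsg.Agent.H918.U43

open Cfsg Matrix Cfsg.Agent.ChevalleyStructure.NineField

universe u v

/-- The facts on `T ≅ PSU₄(3)`. -/
structure TD (T : Type u) [Group T] where
  x : A4 → T
  x_add : ∀ v w, x (v + w) = x v * x w
  x_inj : Function.Injective x
  gens : Set T
  gens_pow : ∀ s ∈ gens, s ^ 3 = 1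
  x_mem : ∀ v, x v ∈ Subgroup.closure gens
  norm : ∀ m ∈ Subgroup.closure gens, ∀ v, ∃ w, m * x v * m⁻¹ = x w
  a : Fin 4 → T
  a_mem : ∀ i, a i ∈ Subgroup.closure gens
  act_a : ∀ i v, a i * x v * (a i)⁻¹ = x (Rm i *ᵥ v)
  h : T
  h_mem : h ∈ Subgroup.closure gens
  act_h : ∀ v, h * x v * h⁻¹ = x (RH *ᵥ v)
  cent : ∀ m ∈ Subgroup.closure gens, (∀ v, m * x v * m⁻¹ = x v) → ∃ v, m = x v
  g : T
  top : Subgroup.closure ((Subgroup.closure gens : Set T) ∪ {g}) = ⊤
  gx : ∀ v : A4, v 3 = 0 → g⁻¹ * x v * g ∈ Subgroup.closure gens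
  gh : g⁻¹ * h * g ∈ Subgroup.closure gens
  ga0 : g⁻¹ * a 0 * g = x ![0, 1, 0, 0]
  ga1 : g⁻¹ * a 1 * g = x ![0, 0, 1, 0]

/-- transfer along an isomorphism -/
def TD.map {T : Type u} [Group T] {T' : Type v} [Group T'] (D : TD T) (e : T ≃* T') : TD T' := by
  have hcl : Subgroup.closure (e '' D.gens) = (Subgroup.closure D.gens).map e.toMonoidHom := by
    rw [MonoidHom.map_closure]; rfl
  have hmem : ∀ t, t ∈ Subgroup.closure D.gens → e t ∈ Subgroup.closure (e '' D.gens) := by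
    intro t ht
    rw [hcl]
    exact ⟨t, ht, rfl⟩
  have hmem' : ∀ t', t' ∈ Subgroup.closure (e '' D.gens) → ∃ t ∈ Subgroup.closure D.gens, e t = t' := by
    intro t' ht
    rw [hcl] at ht
    exact ht
  exact
  { x := fun v => e (D.x v)
    x_add := fun v w => by rw [D.x_add, map_mul]
    x_inj := e.injective.comp D.x_inj
    gens := e '' D.gens
    gens_pow := by
      rintro _ ⟨s, hs, rfl⟩
      rw [← map_pow, D.gens_pow s hs, map_one]
    x_mem := fun v => hmem _ (D.x_mem v)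
    norm := by
      intro m hm v
      obtain ⟨t, ht, rfl⟩ := hmem' m hm
      obtain ⟨w, hw⟩ := D.norm t ht v
      exact ⟨w, by rw [← hw, map_mul, map_mul, map_inv]⟩
    a := fun i => e (D.a i)
    a_mem := fun i => hmem _ (D.a_mem i)
    act_a := fun i v => by rw [← D.act_a, map_mul, map_mul, map_inv]
    h := e D.h
    h_mem := hmem _ D.h_mem
    act_h := fun v => by rw [← D.act_h, map_mul, map_mul, map_inv]
    cent := by
      intro m hm h
      obtain ⟨t, ht, rfl⟩ := hmem' m hm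
      obtain ⟨v, hv⟩ := D.cent t ht (fun v => by
        apply e.injective
        rw [map_mul, map_mul, map_inv]
        exact h v)
      exact ⟨v, by rw [hv]⟩
    g := e D.g
    top := by
      rw [hcl]
      have h1 : ((((Subgroup.closure D.gens).map e.toMonoidHom : Subgroup T') : Set T') ∪ {e D.g}) =
          e.toMonoidHom '' ((Subgroup.closure D.gens : Set T) ∪ {D.g}) := by
        rw [Set.image_union, Set.image_singleton]; rfl
      rw [h1, ← MonoidHom.map_closure, D.top]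
      exact Subgroup.map_top_of_surjective _ e.surjective
    gx := fun v hv => by
      have := hmem _ (D.gx v hv)
      rwa [map_mul, map_mul, map_inv] at this
    gh := by
      have := hmem _ D.gh
      rwa [map_mul, map_mul, map_inv] at this
    ga0 := by rw [← D.ga0, map_mul, map_mul, map_inv]
    ga1 := by rw [← D.ga1, map_mul, map_mul, map_inv] }


open Cfsg.Agent.LieClassical.GUOrder Cfsg.Agent.LieClassical.SUBasic

/-! ### elements of `SU 4 F9 3` -/

theorem hF9 : Fintype.card F9 = 3 ^ 2 := by rw [F9.card_F9]; norm_num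

theorem isom_iff (A : Matrix (Fin 4) (Fin 4) F9) :
    (∀ u v : Fin 4 → F9, hermForm 4 F9 3 (A *ᵥ u) (A *ᵥ v) = hermForm 4 F9 3 u v) ↔ Un A := by
  rw [mul_map_eq_one_iff hF9]
  have h1 : A.map (frob hF9) = A.map cj := by
    refine Matrix.ext fun i j => ?_
    rw [Matrix.map_apply, Matrix.map_apply, frob_apply, pow_three]
  rw [h1]
  have h2 : Aᵀ * A.map cj = (st A * A)ᵀ := by
    rw [Matrix.transpose_mul]; rfl
  rw [h2]
  unfold Un
  constructor
  · intro h
    rw [← Matrix.transpose_transpose (st A * A), h, Matrix.transpose_one]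
  · intro h
    rw [h, Matrix.transpose_one]

abbrev SU4 := Cfsg.SU 4 F9 3

/-- the matrix of an element of `SU` -/
def mat (s : SU4) : Matrix (Fin 4) (Fin 4) F9 := ((s : Matrix.SpecialLinearGroup (Fin 4) F9) : Matrix (Fin 4) (Fin 4) F9)

/-- an element of `SU` -/
def su (A : Matrix (Fin 4) (Fin 4) F9) (hd : A.det = 1) (hu : Un A) : SU4 :=
  ⟨⟨A, hd⟩, (mem_SU_iff _).2 ((isom_iff A).2 hu)⟩

theorem mat_su (A : Matrix (Fin 4) (Fin 4) F9) (hd : A.det = 1) (hu : Un A) : mat (su A hd hu) = A := rfl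

theorem mat_mul (s t : SU4) : mat (s * t) = mat s * mat t := rfl

theorem mat_one : mat 1 = 1 := rfl

theorem mat_inj {s t : SU4} (h : mat s = mat t) : s = t := Subtype.ext (Subtype.ext h)

theorem mat_det (s : SU4) : (mat s).det = 1 := (s : Matrix.SpecialLinearGroup (Fin 4) F9).2

theorem mat_un (s : SU4) : Un (mat s) := (isom_iff _).1 ((mem_SU_iff _).1 s.2)

theorem mat_inv (s : SU4) : mat s⁻¹ = st (mat s) := by
  have h1 : mat s⁻¹ * mat s = 1 := by rw [← mat_mul, inv_mul_cancel, mat_one]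
  have h2 : st (mat s) * mat s = 1 := mat_un s
  have h3 := (mat_un s).mul'
  calc mat s⁻¹ = mat s⁻¹ * (mat s * st (mat s)) := by rw [h3, Matrix.mul_one]
    _ = st (mat s) := by rw [← Matrix.mul_assoc, h1, Matrix.one_mul]

abbrev TT := Cfsg.PSU 4 F9 3

/-- the image in `PSU` -/
def tt : SU4 →* TT := QuotientGroup.mk' _

theorem tt_surj : Function.Surjective tt := QuotientGroup.mk'_surjective _

theorem tt_conj (a b : SU4) : tt a * tt b * (tt a)⁻¹ = tt (a * b * a⁻¹) := by rw [map_mul, map_mul, map_inv]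

theorem tt_conj' (a b : SU4) : (tt a)⁻¹ * tt b * tt a = tt (a⁻¹ * b * a) := by rw [map_mul, map_mul, map_inv]

theorem tt_congr {a b : SU4} (h : mat a = mat b) : tt a = tt b := congrArg (fun s => tt s) (mat_inj h)

theorem conj_xs_aux (a b c d : SU4) (hcd : b * c * b⁻¹ = d) : a * b * c * (a * b)⁻¹ = a * d * a⁻¹ := by
  rw [← hcd]; group

theorem tt_eq_of_smul {s t : SU4} {c : F9} (h : mat t = c • mat s) : tt s = tt t := by
  refine (QuotientGroup.eq (s := Subgroup.center SU4)).2 ?_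
  rw [Subgroup.mem_center_iff]
  intro b
  apply mat_inj
  have h1 : mat (s⁻¹ * t) = c • 1 := by rw [mat_mul, mat_inv, h, Matrix.mul_smul, mat_un s]
  rw [mat_mul b, mat_mul _ b, h1, Matrix.mul_smul, Matrix.smul_mul, Matrix.mul_one, Matrix.one_mul]

theorem exists_smul_of_tt_eq {s t : SU4} (h : tt s = tt t) : ∃ c : F9, mat t = c • mat s := by
  have h1 := (QuotientGroup.eq (s := Subgroup.center SU4)).1 h
  obtain ⟨c, hc, hc', he⟩ := (mem_center_SU_iff hF9 (by norm_num) _).1 h1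
  refine ⟨c, ?_⟩
  have h2 : mat (s⁻¹ * t) = Matrix.diagonal fun _ => c := by rw [he]; rfl
  have h3 : t = s * (s⁻¹ * t) := by group
  rw [h3, mat_mul, h2, ← Matrix.smul_one_eq_diagonal, Matrix.mul_smul, Matrix.mul_one]

/-! ### radical, Levi complement, `g` -/

theorem det_lm (A Ai : Matrix (Fin 2) (Fin 2) F9) : (lm A Ai).det = A.det * cj Ai.det := by
  have h1 : Matrix.fromRows (st V) (st U) * Matrix.fromCols U V = 1 := by
    rw [Matrix.fromRows_mul_fromCols, VU, VV, UU, UV, Matrix.fromBlocks_one]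
  have h2 : Matrix.fromCols U V * Matrix.fromRows (st V) (st U) = 1 := by
    rw [Matrix.fromCols_mul_fromRows, UVVU]
  have h3 : lm A Ai = Matrix.fromCols U V * Matrix.fromBlocks A 0 0 (st Ai) * Matrix.fromRows (st V) (st U) := by
    rw [Matrix.fromCols_mul_fromBlocks, Matrix.fromCols_mul_fromRows]
    simp only [Matrix.mul_zero, add_zero, zero_add]
    rfl
  rw [h3, Matrix.det_conj_of_mul_eq_one h2 h1, Matrix.det_fromBlocks_zero₂₁]
  congr 1
  rw [RingHom.map_det]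
  exact Matrix.det_transpose _

def xs (v : A4) : SU4 := su (xm (Cm v)) (det_xm _) (un_xm (Cm_skew v))

def ls (A Ai : Matrix (Fin 2) (Fin 2) F9) (h : A * Ai = 1) (hd : A.det = 1) : SU4 :=
  su (lm A Ai) (by
    rw [det_lm, hd, one_mul]
    have h1 : A.det * Ai.det = 1 := by rw [← Matrix.det_mul, h, Matrix.det_one]
    rw [hd, one_mul] at h1
    rw [h1, map_one]) (un_lm h)

theorem mat_xs (v : A4) : mat (xs v) = xm (Cm v) := rfl

theorem mat_ls (A Ai : Matrix (Fin 2) (Fin 2) F9) (h : A * Ai = 1) (hd : A.det = 1) : mat (ls A Ai h hd) = lm A Ai := rfl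

theorem uM_det (a : F9) : (uM a).det = 1 := by
  rw [Matrix.det_fin_two]
  revert a
  decide +kernel

theorem lM_det (a : F9) : (lM a).det = 1 := by
  rw [Matrix.det_fin_two]
  revert a
  decide +kernel

def us (a : F9) : SU4 := ls (uM a) (uM (-a)) (uM_inv a) (uM_det a)
def vs (a : F9) : SU4 := ls (lM a) (lM (-a)) (lM_inv a) (lM_det a)
def hs : SU4 := ls (hM ⟨1, 1⟩ ⟨2, 1⟩) (hM ⟨2, 1⟩ ⟨1, 1⟩) (by decide +kernel) (by decide +kernel)

def gM : Matrix (Fin 4) (Fin 4) F9 := Matrix.diagonal ![1, 1, ⟨0, 2⟩, ⟨0, 1⟩]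

def gs : SU4 := su gM (by
  unfold gM
  rw [Matrix.det_diagonal]
  decide +kernel) (by decide +kernel)

theorem xs_add (v w : A4) : xs (v + w) = xs v * xs w := by
  apply mat_inj
  rw [mat_mul, mat_xs, mat_xs, mat_xs, xm_mul, Cm_add]

theorem xs_zero : xs 0 = 1 := by
  have h := xs_add 0 0
  rw [add_zero] at h
  exact (mul_eq_left.1 h.symm)

theorem xs_inj {v w : A4} (h : tt (xs v) = tt (xs w)) : v = w := by
  obtain ⟨c, hc⟩ := exists_smul_of_tt_eq h
  have h1 : xm (Cm w) * U = c • (xm (Cm v) * U) := by rw [← mat_xs, ← mat_xs, hc, Matrix.smul_mul]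
  rw [xm_U, xm_U] at h1
  have h2 := congrFun (congrFun h1 0) 0
  have h3 : c = 1 := by
    change (1 : F9) = c * 1 at h2
    rw [mul_one] at h2
    exact h2.symm
  rw [h3, one_smul] at hc
  exact Cm_inj (xm_inj hc.symm)

theorem ls_mul (A Ai B Bi : Matrix (Fin 2) (Fin 2) F9) (h hd h' hd') :
    ls A Ai h hd * ls B Bi h' hd' = ls (A * B) (Bi * Ai) (by
      rw [Matrix.mul_assoc, ← Matrix.mul_assoc B, h', Matrix.one_mul, h]) (by
      rw [Matrix.det_mul, hd, hd', one_mul]) := by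
  apply mat_inj
  rw [mat_mul, mat_ls, mat_ls, mat_ls, lm_mul]

theorem ls_congr {A Ai B Bi : Matrix (Fin 2) (Fin 2) F9} {h hd h' hd'} (e : A = B) (e' : Ai = Bi) :
    ls A Ai h hd = ls B Bi h' hd' := by
  apply mat_inj
  rw [mat_ls, mat_ls, e, e']

/-- the action -/
theorem ls_xs {A Ai : Matrix (Fin 2) (Fin 2) F9} {h hd} {v w : A4} (e : A * Cm v * st A = Cm w) :
    ls A Ai h hd * xs v * (ls A Ai h hd)⁻¹ = xs w := by
  rw [mul_inv_eq_iff_eq_mul]
  apply mat_inj
  rw [mat_mul, mat_mul, mat_ls, mat_xs, mat_xs, lm_xm h, e]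

/-- the generators -/
def gn : Set SU4 := Set.range xs ∪ (Set.range us ∪ Set.range vs)

abbrev MS : Subgroup SU4 := Subgroup.closure gn

theorem xs_mem (v : A4) : xs v ∈ MS := Subgroup.subset_closure (Or.inl ⟨v, rfl⟩)
theorem us_mem (a : F9) : us a ∈ MS := Subgroup.subset_closure (Or.inr (Or.inl ⟨a, rfl⟩))
theorem vs_mem (a : F9) : vs a ∈ MS := Subgroup.subset_closure (Or.inr (Or.inr ⟨a, rfl⟩))

theorem gn_pow {s : SU4} (hs : s ∈ gn) : s ^ 3 = 1 := by
  rw [pow_succ, pow_two]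
  rcases hs with ⟨v, rfl⟩ | ⟨a, rfl⟩ | ⟨a, rfl⟩
  · rw [← xs_add, ← xs_add]
    have h : v + v + v = 0 := by
      refine funext fun i => ?_
      have : ∀ a : ZMod 3, a + a + a = 0 := by decide
      exact this (v i)
    rw [h, xs_zero]
  · unfold us
    rw [ls_mul, ls_mul]
    apply mat_inj
    rw [mat_ls, uM_mul, uM_mul, uM_mul, uM_mul, add_three, ← add_assoc, add_three, uM_zero, lm_one]
    rfl
  · unfold vs
    rw [ls_mul, ls_mul]
    apply mat_inj
    rw [mat_ls, lM_mul, lM_mul, lM_mul, lM_mul, add_three, ← add_assoc, add_three, lM_zero, lm_one]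
    rfl

/-- all of `SL_2` is in `MS` -/
theorem ls_mem (A Ai : Matrix (Fin 2) (Fin 2) F9) (h : A * Ai = 1) (hd : A.det = 1) : ls A Ai h hd ∈ MS := by
  have key1 : ∀ (a : F9) (Bi : Matrix (Fin 2) (Fin 2) F9) (h : uM a * Bi = 1) (hd : (uM a).det = 1),
      ls (uM a) Bi h hd ∈ MS := by
    intro a Bi h hd
    have e : Bi = uM (-a) := by
      calc Bi = (uM (-a) * uM a) * Bi := by rw [uM_mul, neg_add_cancel, uM_zero, Matrix.one_mul]
        _ = uM (-a) := by rw [Matrix.mul_assoc, h, Matrix.mul_one]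
    rw [ls_congr (h' := uM_inv a) (hd' := uM_det a) rfl e]
    exact us_mem a
  have key2 : ∀ (a : F9) (Bi : Matrix (Fin 2) (Fin 2) F9) (h : lM a * Bi = 1) (hd : (lM a).det = 1),
      ls (lM a) Bi h hd ∈ MS := by
    intro a Bi h hd
    have e : Bi = lM (-a) := by
      calc Bi = (lM (-a) * lM a) * Bi := by rw [lM_mul, neg_add_cancel, lM_zero, Matrix.one_mul]
        _ = lM (-a) := by rw [Matrix.mul_assoc, h, Matrix.mul_one]
    rw [ls_congr (h' := lM_inv a) (hd' := lM_det a) rfl e]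
    exact vs_mem a
  have key3 : ∀ (B C : Matrix (Fin 2) (Fin 2) F9)
      (_ : B.det = 1 ∧ ∀ (Bi : Matrix (Fin 2) (Fin 2) F9) (h : B * Bi = 1) (hd : B.det = 1), ls B Bi h hd ∈ MS)
      (_ : C.det = 1 ∧ ∀ (Ci : Matrix (Fin 2) (Fin 2) F9) (h : C * Ci = 1) (hd : C.det = 1), ls C Ci h hd ∈ MS)
      (Bi : Matrix (Fin 2) (Fin 2) F9) (h : (B * C) * Bi = 1) (hd : (B * C).det = 1), ls (B * C) Bi h hd ∈ MS := by
    intro B C hB hC Bi h hd
    have hB1 : B * B.adjugate = 1 := by rw [Matrix.mul_adjugate, hB.1, one_smul]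
    have hC1 : C * C.adjugate = 1 := by rw [Matrix.mul_adjugate, hC.1, one_smul]
    have e : Bi = C.adjugate * B.adjugate := by
      have h1 : (C.adjugate * B.adjugate) * (B * C) = 1 := by
        rw [Matrix.mul_assoc, ← Matrix.mul_assoc B.adjugate, Matrix.adjugate_mul, hB.1, one_smul, Matrix.one_mul,
          Matrix.adjugate_mul, hC.1, one_smul]
      calc Bi = (C.adjugate * B.adjugate) * (B * C) * Bi := by rw [h1, Matrix.one_mul]
        _ = C.adjugate * B.adjugate := by rw [Matrix.mul_assoc, h, Matrix.mul_one]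
    have h2 := MS.mul_mem (hB.2 _ hB1 hB.1) (hC.2 _ hC1 hC.1)
    rw [ls_mul] at h2
    rw [ls_congr rfl e]
    exact h2
  have key : A ∈ {B : Matrix (Fin 2) (Fin 2) F9 | B.det = 1 ∧ ∀ (Bi : Matrix (Fin 2) (Fin 2) F9) (h : B * Bi = 1)
      (hd : B.det = 1), ls B Bi h hd ∈ MS} := by
    apply sl_gen _ _ _ _ A hd
    · intro a
      refine ⟨uM_det a, fun Bi h hd => ?_⟩
      exact key1 a Bi h hd
    · intro a
      refine ⟨lM_det a, fun Bi h hd => ?_⟩
      exact key2 a Bi h hd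
    · intro B C hB hC
      refine ⟨by rw [Matrix.det_mul, hB.1, hC.1, one_mul], fun Bi h hd => ?_⟩
      exact key3 B C hB hC Bi h hd
  exact key.2 Ai h hd

/-- the elements of `MS` -/
theorem form_of_mem {s : SU4} (hs : s ∈ MS) :
    ∃ (w : A4) (A Ai : Matrix (Fin 2) (Fin 2) F9) (h : A * Ai = 1) (hd : A.det = 1), s = xs w * ls A Ai h hd := by
  induction hs using Subgroup.closure_induction with
  | mem s hs =>
    rcases hs with ⟨v, rfl⟩ | ⟨a, rfl⟩ | ⟨a, rfl⟩
    · refine ⟨v, 1, 1, Matrix.mul_one _, Matrix.det_one, ?_⟩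
      apply mat_inj
      rw [mat_mul, mat_ls, lm_one, Matrix.mul_one]
    · exact ⟨0, _, _, uM_inv a, uM_det a, by rw [xs_zero, one_mul]; rfl⟩
    · exact ⟨0, _, _, lM_inv a, lM_det a, by rw [xs_zero, one_mul]; rfl⟩
  | one =>
    refine ⟨0, 1, 1, Matrix.mul_one _, Matrix.det_one, ?_⟩
    apply mat_inj
    rw [mat_mul, mat_ls, lm_one, Matrix.mul_one, xs_zero]
  | mul s t hs ht ihs iht =>
    obtain ⟨w, A, Ai, h, hd, rfl⟩ := ihs
    obtain ⟨w', B, Bi, h', hd', rfl⟩ := iht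
    obtain ⟨w2, hw2⟩ := exists_Cm (skew_conj (A := A) (Cm_skew w'))
    refine ⟨w + w2, A * B, Bi * Ai, ?_, ?_, ?_⟩
    · rw [Matrix.mul_assoc, ← Matrix.mul_assoc B, h', Matrix.one_mul, h]
    · rw [Matrix.det_mul, hd, hd', one_mul]
    · rw [← ls_mul A Ai B Bi h hd h' hd', xs_add]
      have h3 := ls_xs (Ai := Ai) (h := h) (hd := hd) hw2
      rw [mul_inv_eq_iff_eq_mul] at h3
      rw [mul_assoc, ← mul_assoc (ls A Ai h hd), h3, mul_assoc, mul_assoc]
  | inv s hs ihs =>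
    obtain ⟨w, A, Ai, h, hd, rfl⟩ := ihs
    have h' : Ai * A = 1 := mul_eq_one_comm.1 h
    have hd' : Ai.det = 1 := by
      have h1 : A.det * Ai.det = 1 := by rw [← Matrix.det_mul, h, Matrix.det_one]
      rwa [hd, one_mul] at h1
    obtain ⟨w2, hw2⟩ := exists_Cm (skew_conj (A := Ai) (Cm_skew (-w)))
    refine ⟨w2, Ai, A, h', hd', ?_⟩
    have e1 : (ls A Ai h hd)⁻¹ = ls Ai A h' hd' := by
      rw [inv_eq_iff_mul_eq_one, ls_mul]
      apply mat_inj
      rw [mat_ls, h, lm_one]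
      rfl
    have e2 : (xs w)⁻¹ = xs (-w) := by
      rw [inv_eq_iff_mul_eq_one, ← xs_add, add_neg_cancel, xs_zero]
    have h3 := ls_xs (Ai := A) (h := h') (hd := hd') hw2
    rw [mul_inv_eq_iff_eq_mul] at h3
    rw [_root_.mul_inv_rev, e1, e2, h3]

/-- the stabiliser of `⟨U⟩` -/
theorem mem_of_stab {s : SU4} {A : Matrix (Fin 2) (Fin 2) F9} (hA : mat s * U = U * A) :
    tt s ∈ MS.map tt := by
  obtain ⟨Ai, C, h, hC, hs⟩ := decomp (mat_un s) hA
  obtain ⟨w, rfl⟩ := exists_Cm hC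
  have hd1 : A.det * Ai.det = 1 := by rw [← Matrix.det_mul, h, Matrix.det_one]
  have hd2 : A.det * cj Ai.det = 1 := by
    have h1 := mat_det s
    rwa [hs, Matrix.det_mul, det_xm, one_mul, det_lm] at h1
  have key : ∀ d e : F9, d * e = 1 → d * cj e = 1 → d = 1 ∨ d = -1 := by decide +kernel
  rcases key _ _ hd1 hd2 with hd | hd
  · exact ⟨xs w * ls A Ai h hd, MS.mul_mem (xs_mem w) (ls_mem _ _ _ _), tt_congr hs.symm⟩
  · have h' : ((⟨0, 1⟩ : F9) • A) * ((⟨0, 2⟩ : F9) • Ai) = 1 := by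
      rw [Matrix.smul_mul, Matrix.mul_smul, h, smul_smul]
      have : (⟨0, 1⟩ : F9) * ⟨0, 2⟩ = 1 := by decide +kernel
      rw [this, one_smul]
    have hd' : ((⟨0, 1⟩ : F9) • A).det = 1 := by
      rw [Matrix.det_smul, hd, Fintype.card_fin]
      decide +kernel
    refine ⟨xs w * ls _ _ h' hd', MS.mul_mem (xs_mem w) (ls_mem _ _ _ _), ?_⟩
    refine (tt_eq_of_smul (c := ⟨0, 1⟩) ?_).symm
    rw [mat_mul, mat_xs, mat_ls, hs, ← Matrix.mul_smul]
    congr 1
    unfold lm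
    rw [st_smul, smul_add, Matrix.mul_smul, Matrix.smul_mul, Matrix.mul_smul, Matrix.smul_mul]
    rfl

/-- the centraliser of the radical -/
theorem cent_MS {s : SU4} (hs : s ∈ MS) (h : ∀ v, tt s * tt (xs v) * (tt s)⁻¹ = tt (xs v)) : ∃ v, tt s = tt (xs v) := by
  obtain ⟨w, A, Ai, hA, hd, rfl⟩ := form_of_mem hs
  have h1 : ∀ v, A * Cm v * st A = Cm v := by
    intro v
    obtain ⟨w2, hw2⟩ := exists_Cm (skew_conj (A := A) (Cm_skew v))
    have h3 := ls_xs (Ai := Ai) (h := hA) (hd := hd) hw2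
    have h4 : tt (xs w * ls A Ai hA hd) * tt (xs v) * (tt (xs w * ls A Ai hA hd))⁻¹ = tt (xs w2) := by
      rw [tt_conj, conj_xs_aux _ _ _ _ h3, ← xs_add, add_comm w w2, xs_add, mul_inv_cancel_right]
    rw [h v] at h4
    rw [hw2, xs_inj h4]
  rcases sl_cent hd h1 with rfl | rfl
  · refine ⟨w, tt_congr ?_⟩
    have e : Ai = 1 := by rwa [Matrix.one_mul] at hA
    rw [mat_mul, mat_ls, e, lm_one, Matrix.mul_one]
  · refine ⟨w, (tt_eq_of_smul (c := -1) ?_).symm⟩
    have e : Ai = -1 := by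
      rw [Matrix.neg_mul, Matrix.one_mul] at hA
      rw [← neg_neg Ai, hA]
    have e2 : lm (-1) (-1) = -1 := by
      unfold lm
      rw [st_neg, st_one, Matrix.mul_neg, Matrix.mul_neg, Matrix.mul_one, Matrix.mul_one, Matrix.neg_mul,
        Matrix.neg_mul, ← neg_add, UVVU]
    rw [mat_mul, mat_ls, e, e2, Matrix.mul_neg, Matrix.mul_one, neg_smul, one_smul]

theorem gs_inv_mat : mat gs⁻¹ = Matrix.diagonal ![1, 1, ⟨0, 1⟩, ⟨0, 2⟩] := by
  rw [mat_inv]
  unfold gs
  rw [mat_su]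
  decide +kernel

theorem mat_gs : mat gs = gM := rfl

theorem gs_conj (s : SU4) (X : Matrix (Fin 4) (Fin 4) F9) (h : mat s = X) (A : Matrix (Fin 2) (Fin 2) F9)
    (e : (Matrix.diagonal ![1, 1, ⟨0, 1⟩, ⟨0, 2⟩] * X * gM) * U = U * A) : (tt gs)⁻¹ * tt s * tt gs ∈ MS.map tt := by
  rw [tt_conj']
  refine mem_of_stab (A := A) ?_
  rw [mat_mul, mat_mul, gs_inv_mat, h, mat_gs, e]

theorem gs_hs : (tt gs)⁻¹ * tt hs * tt gs ∈ MS.map tt :=
  gs_conj hs (lm (hM ⟨1, 1⟩ ⟨2, 1⟩) (hM ⟨2, 1⟩ ⟨1, 1⟩)) rfl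
    (st V * (Matrix.diagonal ![1, 1, ⟨0, 1⟩, ⟨0, 2⟩] * lm (hM ⟨1, 1⟩ ⟨2, 1⟩) (hM ⟨2, 1⟩ ⟨1, 1⟩) * gM) * U)
    (by decide +kernel)

private noncomputable def _root_.Cfsg.Agent.LsF.f930b80_0 : {f // @Cfsg.Agent.ChevalleyStructure.NineField.F9.instMul = f} := ⟨_, by first | (delta Cfsg.Agent.ChevalleyStructure.NineField.F9.instMul; rewrite [Cfsg.Agent.LsF.fadd_pat, Cfsg.Agent.LsF.fmul_pat]; exact rfl) | exact rfl⟩
private noncomputable def _root_.Cfsg.Agent.LsF.f930b80_4 : {f // @Cfsg.Agent.H918.U43.U = f} := ⟨_, by first | (delta Cfsg.Agent.H918.U43.U; rewrite [Cfsg.Agent.LsF.mof_pat, Cfsg.Agent.LsF.vecCons_eq]; exact rfl) | exact rfl⟩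
private noncomputable def _root_.Cfsg.Agent.LsF.f930b80_5 : {f // @Cfsg.Agent.H918.U43.Cm = f} := ⟨_, by first | (delta Cfsg.Agent.H918.U43.Cm; rewrite [Cfsg.Agent.LsF.mof_pat, Cfsg.Agent.LsF.zneg_pat, Cfsg.Agent.LsF.vecCons_eq]; exact rfl) | exact rfl⟩
private noncomputable def _root_.Cfsg.Agent.LsF.f930b80_6 : {f // @Cfsg.Agent.H918.U43.st = f} := ⟨_, by first | (delta Cfsg.Agent.H918.U43.st; rewrite [Cfsg.Agent.LsF.transpose_eq, Cfsg.Agent.LsF.mmap_eq]; exact rfl) | exact rfl⟩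
private noncomputable def _root_.Cfsg.Agent.LsF.f930b80_7 : {f // @Cfsg.Agent.H918.U43.gM = f} := ⟨_, by first | (delta Cfsg.Agent.H918.U43.gM; rewrite [Cfsg.Agent.LsF.vecCons_eq, Cfsg.Agent.LsF.diagonal_eq, Cfsg.Agent.LsF.dFinEq_eq]; exact rfl) | exact rfl⟩
private noncomputable def _root_.Cfsg.Agent.LsF.f930b80_8 : {f // @Cfsg.Agent.H918.U43.V = f} := ⟨_, by first | (delta Cfsg.Agent.H918.U43.V; rewrite [Cfsg.Agent.LsF.mof_pat, Cfsg.Agent.LsF.vecCons_eq]; exact rfl) | exact rfl⟩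
private noncomputable def _root_.Cfsg.Agent.LsF.f930b80_9 : {f // @Cfsg.Agent.ChevalleyStructure.NineField.F9.decEq = f} := ⟨_, by first | (delta Cfsg.Agent.ChevalleyStructure.NineField.F9.decEq; rewrite [Cfsg.Agent.LsF.dAnd_eq, Cfsg.Agent.LsF.dFinEq_eq, Cfsg.Agent.LsF.dite_eq]; (try delta Cfsg.Agent.ChevalleyStructure.NineField.F9.decEq.match_1); (try delta Cfsg.Agent.ChevalleyStructure.NineField.F9.casesOn); exact rfl) | exact rfl⟩
private noncomputable def _root_.Cfsg.Agent.LsF.f930b80_10 : {f // @Cfsg.Agent.ChevalleyStructure.NineField.F9.instDecEq = f} := ⟨_, by first | (delta Cfsg.Agent.ChevalleyStructure.NineField.F9.instDecEq; rewrite [Cfsg.Agent.LsF.f930b80_9.2]; exact rfl) | exact rfl⟩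
theorem gs_xs {v : A4} (hv : v 3 = 0) : (tt gs)⁻¹ * tt (xs v) * tt gs ∈ MS.map tt := by
  have k : ∀ a b c : ZMod 3, ((Matrix.diagonal ![1, 1, ⟨0, 1⟩, ⟨0, 2⟩] : Matrix (Fin 4) (Fin 4) F9) * U) *
      (Cm ![a, b, c, 0] * (st U * (gM * U))) =
      U * ((st V * ((Matrix.diagonal ![1, 1, ⟨0, 1⟩, ⟨0, 2⟩] : Matrix (Fin 4) (Fin 4) F9) * U)) *
        (Cm ![a, b, c, 0] * (st U * (gM * U)))) := by (refine of_decide_eq_true ?_; (try (rewrite [Cfsg.Agent.LsF.mmulF_pat, Cfsg.Agent.LsF.mmulF_pat, Cfsg.Agent.LsF.mmulF_pat, Cfsg.Agent.LsF.mmulF_pat, Cfsg.Agent.LsF.f930b80_0.2, Cfsg.Agent.LsF.f930b80_4.2, Cfsg.Agent.LsF.f930b80_5.2, Cfsg.Agent.LsF.f930b80_6.2, Cfsg.Agent.LsF.f930b80_7.2, Cfsg.Agent.LsF.f930b80_8.2, Cfsg.Agent.LsF.f930b80_10.2, Cfsg.Agent.LsF.vecCons_eq, Cfsg.Agent.LsF.finFintype_eq, Cfsg.Agent.LsF.zFintype_eq, Cfsg.Agent.LsF.dForall_eq, Cfsg.Agent.LsF.dMat_eq, Cfsg.Agent.LsF.diagonal_eq, Cfsg.Agent.LsF.dFinEq_eq, Cfsg.Agent.LsF.decide_eq]));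 decide +kernel)
  have k2 : (Matrix.diagonal ![1, 1, ⟨0, 1⟩, ⟨0, 2⟩] : Matrix (Fin 4) (Fin 4) F9) * (gM * U) = U := by decide +kernel
  refine gs_conj (xs v) (xm (Cm ![v 0, v 1, v 2, 0])) ?_
    (1 + (st V * ((Matrix.diagonal ![1, 1, ⟨0, 1⟩, ⟨0, 2⟩] : Matrix (Fin 4) (Fin 4) F9) * U)) *
      (Cm ![v 0, v 1, v 2, 0] * (st U * (gM * U)))) ?_
  · rw [mat_xs]
    congr 2
    rw [← hv]
    exact vec4 v
  · unfold xm
    rw [Matrix.mul_add U, Matrix.mul_one, ← k, Matrix.mul_add, Matrix.mul_one, Matrix.add_mul, Matrix.add_mul,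
      Matrix.mul_assoc _ gM U, k2]
    simp only [Matrix.mul_assoc]

theorem gs_us {a : F9} {w : A4} (e : Matrix.diagonal ![1, 1, ⟨0, 1⟩, ⟨0, 2⟩] * lm (uM a) (uM (-a)) * gM = xm (Cm w)) :
    (tt gs)⁻¹ * tt (us a) * tt gs = tt (xs w) := by
  rw [tt_conj']
  apply tt_congr
  rw [mat_mul, mat_mul, gs_inv_mat, mat_gs, mat_xs]
  exact e

/-! ### generation -/

/-- `⟨U⟩` -/
noncomputable def WU : Submodule F9 (Fin 4 → F9) := LinearMap.range (Matrix.mulVecLin U)

theorem WU_ne : WU ≠ ⊥ := by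
  intro h
  have h1 : U *ᵥ (Pi.single 0 1) ∈ WU := ⟨_, rfl⟩
  rw [h, Submodule.mem_bot, Matrix.mulVec_single_one] at h1
  have h2 := congrFun h1 0
  exact absurd h2 (by decide +kernel)

theorem WU_sing : Geo.IsTotallySingularFor (hermForm 4 F9 3) WU := by
  rintro _ ⟨x, rfl⟩ _ ⟨y, rfl⟩
  have h1 : hermForm 4 F9 3 (U *ᵥ x) (U *ᵥ y) = (U *ᵥ x) ⬝ᵥ (fun i => cj ((U *ᵥ y) i)) := by
    unfold hermForm dotProduct
    refine Finset.sum_congr rfl fun i _ => ?_
    rw [pow_three]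
  have h2 : (fun i => cj ((U *ᵥ y) i)) = (U.map cj) *ᵥ (fun i => cj (y i)) := by
    funext i
    simp only [Matrix.mulVec, dotProduct, map_sum, map_mul, Matrix.map_apply]
  have h3 : Uᵀ * U.map cj = 0 := by decide +kernel
  change hermForm 4 F9 3 (U *ᵥ x) (U *ᵥ y) = 0
  rw [h1, h2, Matrix.dotProduct_mulVec, ← Matrix.vecMul_transpose, Matrix.vecMul_vecMul, h3, Matrix.vecMul_zero,
    zero_dotProduct]

theorem tt_top : Subgroup.closure (((MS.map tt : Subgroup TT) : Set TT) ∪ {tt gs}) = ⊤ := by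
  have hmax := H876.Sing.sing_maximal 4 3 hF9 (by norm_num) (by omega) WU WU_ne WU_sing
  set N := Subgroup.closure (((MS.map tt : Subgroup TT) : Set TT) ∪ {tt gs}) with hN
  -- the preimage in `GL`
  set N' := (N.comap tt).map (H876.suGL 4 F9 3) with hN'
  have hle : N' ≤ Cfsg.GU 4 F9 3 ⊓ Geo.specialLinear (Fin 4) F9 := by
    rintro _ ⟨s, _, rfl⟩
    exact H876.suGL_mem s
  have hge : Geo.subspaceStabilizer WU ⊓ (Cfsg.GU 4 F9 3 ⊓ Geo.specialLinear (Fin 4) F9) ≤ N' := by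
    rintro k ⟨hk1, hk2⟩
    obtain ⟨s, rfl⟩ := H876.exists_suGL_eq hk2
    refine ⟨s, ?_, rfl⟩
    rw [SetLike.mem_coe, Subgroup.mem_comap]
    -- a matrix `A` with `s U = U A`
    have h1 : ∀ j, ∃ z, U *ᵥ z = mat s *ᵥ (U *ᵥ (Pi.single j 1)) := by
      intro j
      have h2 := (H876.mem_stab_iff.1 hk1 (U *ᵥ (Pi.single j 1))).1 ⟨_, rfl⟩
      exact h2
    choose z hz using h1
    have h3 : mat s * U = U * Matrix.of (fun i j => z j i) := by
      refine Matrix.ext fun i j => ?_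
      have h4 := congrFun (hz j) i
      rw [Matrix.mulVec_mulVec, Matrix.mulVec_single_one] at h4
      rw [← Matrix.col_apply (mat s * U), ← h4]
      rfl
    exact Subgroup.subset_closure (Or.inl (mem_of_stab h3))
  rcases hmax.2 N' hge hle with h | h
  · exfalso
    have h1 : H876.suGL 4 F9 3 gs ∈ N' := ⟨gs, Subgroup.subset_closure (Or.inr rfl), rfl⟩
    rw [h] at h1
    have h2 := (H876.mem_stab_iff.1 h1.1 (U *ᵥ (Pi.single 1 1))).1 ⟨_, rfl⟩
    obtain ⟨z, hz⟩ := h2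
    have h3 : st U *ᵥ (U *ᵥ z) = 0 := by rw [Matrix.mulVec_mulVec, UU, Matrix.zero_mulVec]
    have h4 : U *ᵥ z = gM *ᵥ (U *ᵥ (Pi.single 1 1)) := hz
    rw [h4, Matrix.mulVec_mulVec, Matrix.mulVec_mulVec, Matrix.mulVec_single_one] at h3
    have h5 := congrFun h3 1
    revert h5
    decide +kernel
  · rw [eq_top_iff]
    intro t _
    obtain ⟨s, rfl⟩ := tt_surj t
    have h1 : H876.suGL 4 F9 3 s ∈ N' := by rw [h]; exact H876.suGL_mem s
    obtain ⟨s', hs', he⟩ := h1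
    have h2 : s' = s := by
      apply mat_inj
      exact congrArg Units.val he
    rw [← h2]
    exact hs'

theorem map_conj_aux {a b c : SU4} (h : a * b * a⁻¹ = c) : tt a * tt b * (tt a)⁻¹ = tt c := by
  rw [tt_conj, h]

/-- **The facts for `PSU₄(3)`.** -/
noncomputable def tdPSU : TD TT := by
  have hcl : Subgroup.closure (tt '' gn) = MS.map tt := by rw [MonoidHom.map_closure]
  have hmem : ∀ s, s ∈ MS → tt s ∈ Subgroup.closure (tt '' gn) := by
    intro s hs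
    rw [hcl]
    exact ⟨s, hs, rfl⟩
  exact
  { x := fun v => tt (xs v)
    x_add := fun v w => by rw [xs_add, map_mul]
    x_inj := fun v w h => xs_inj h
    gens := tt '' gn
    gens_pow := by
      rintro _ ⟨s, hs, rfl⟩
      rw [← map_pow, gn_pow hs, map_one]
    x_mem := fun v => hmem _ (xs_mem v)
    norm := by
      intro m hm v
      rw [hcl] at hm
      obtain ⟨s, hs, rfl⟩ := hm
      obtain ⟨w, A, Ai, hA, hd, rfl⟩ := form_of_mem hs
      obtain ⟨w2, hw2⟩ := exists_Cm (skew_conj (A := A) (Cm_skew v))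
      have h3 := ls_xs (Ai := Ai) (h := hA) (hd := hd) hw2
      refine ⟨w2, ?_⟩
      rw [tt_conj, conj_xs_aux _ _ _ _ h3, ← xs_add, add_comm w w2, xs_add, mul_inv_cancel_right]
    a := ![tt (us ⟨1, 0⟩), tt (us ⟨0, 1⟩), tt (vs ⟨1, 0⟩), tt (vs ⟨0, 1⟩)]
    a_mem := by
      intro i
      fin_cases i
      · exact hmem _ (us_mem _)
      · exact hmem _ (us_mem _)
      · exact hmem _ (vs_mem _)
      · exact hmem _ (vs_mem _)
    act_a := by
      intro i v
      fin_cases i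
      · exact (map_conj_aux (ls_xs (act_u0 v)))
      · exact (map_conj_aux (ls_xs (act_u1 v)))
      · exact (map_conj_aux (ls_xs (act_l0 v)))
      · exact (map_conj_aux (ls_xs (act_l1 v)))
    h := tt hs
    h_mem := hmem _ (ls_mem _ _ _ _)
    act_h := fun v => map_conj_aux (ls_xs (act_hM v))
    cent := by
      intro m hm h
      rw [hcl] at hm
      obtain ⟨s, hs, rfl⟩ := hm
      exact cent_MS hs h
    g := tt gs
    top := by
      rw [hcl]
      exact tt_top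
    gx := fun v hv => by
      rw [hcl]
      exact gs_xs hv
    gh := by
      rw [hcl]
      exact gs_hs
    ga0 := gs_us (by decide +kernel)
    ga1 := gs_us (by decide +kernel) }

/-- The facts for a group isomorphic to `PSU₄(3)`. -/
theorem exists_TD {T : Type u} [Group T] {K : Type v} [Field K] [Fintype K] (hK : Fintype.card K = 9)
    (e : T ≃* Cfsg.PSU 4 K 3) : Nonempty (TD T) := by
  have h1 : Fintype.card F9 = Fintype.card K := by rw [F9.card_F9, hK]
  have e2 : TT ≃* Cfsg.PSU 4 K 3 := LieClassical.FieldTransfer.psuCongr 4 3 (FiniteField.ringEquivOfCardEq h1)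
  exact ⟨tdPSU.map (e2.trans e.symm)⟩

end Cfsg.Agent.H918.U43
end

-- part: H918/U43/Lift
section
/-!
# Lifting the radical `3⁴` to a central extension (helper918)
-/

set_option autoImplicit false
set_option maxRecDepth 20000

namespace Cfsg.Agent.H918.U43

open Matrix
open scoped commutatorElement IsMulCommutative

universe u v

section bilin

variable {C : Type v} [AddCommGroup C]

theorem hom_eq_zero {f : A4 →+ C} (h : ∀ i, f (Pi.single i 1) = 0) : f = 0 := by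
  refine AddMonoidHom.ext fun v => ?_
  have h1 : v = ∑ i, (v i).val • (Pi.single i (1 : ZMod 3) : A4) := by
    funext j
    rw [Finset.sum_apply, Finset.sum_eq_single j]
    · rw [Pi.smul_apply, Pi.single_eq_same, nsmul_eq_mul, mul_one, ZMod.natCast_val, ZMod.cast_id', id]
    · intro i _ hij
      rw [Pi.smul_apply, Pi.single_eq_of_ne hij.symm, smul_zero]
    · intro h; exact absurd (Finset.mem_univ _) h
  rw [h1, map_sum]
  refine Finset.sum_eq_zero fun i _ => ?_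
  rw [map_nsmul, h i, smul_zero]

theorem three_torsion (f : A4 →+ C) (v : A4) : f v + f v + f v = 0 := by
  rw [← map_add, ← map_add]
  have h : v + v + v = 0 := by
    refine funext fun i => ?_
    have : ∀ a : ZMod 3, a + a + a = 0 := by decide
    exact this (v i)
  rw [h, map_zero]

/-- An alternating form invariant under `RH` and `Rm 0` is zero. -/
theorem form_eq_zero (B : A4 →+ A4 →+ C) (halt : ∀ v, B v v = 0) (hH : ∀ v w, B (RH *ᵥ v) (RH *ᵥ w) = B v w)
    (hR : ∀ v w, B (Rm 0 *ᵥ v) (Rm 0 *ᵥ w) = B v w) : B = 0 := by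
  have hsk : ∀ v w, B v w = - B w v := by
    intro v w
    have h1 := halt (v + w)
    simp only [map_add, AddMonoidHom.add_apply] at h1
    rw [halt, halt, zero_add, add_zero, add_comm] at h1
    exact eq_neg_of_add_eq_zero_left h1
  have two : ∀ v w, B v w = - B v w → B v w = 0 := by
    intro v w h
    have h1 := three_torsion (B v) w
    have h2 : B v w + B v w = 0 := by nth_rw 2 [h]; rw [add_neg_cancel]
    rwa [h2, zero_add] at h1
  set e0 : A4 := Pi.single 0 1 with he0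
  set e1 : A4 := Pi.single 1 1 with he1
  set e2 : A4 := Pi.single 2 1 with he2
  set e3 : A4 := Pi.single 3 1 with he3
  have H0 : RH *ᵥ e0 = -e0 := by rw [he0]; decide +kernel
  have H1 : RH *ᵥ e1 = e2 := by rw [he1, he2]; decide +kernel
  have H2 : RH *ᵥ e2 = -e1 := by rw [he1, he2]; decide +kernel
  have H3 : RH *ᵥ e3 = -e3 := by rw [he3]; decide +kernel
  have R1 : Rm 0 *ᵥ e1 = -e0 + e1 := by rw [he0, he1]; decide +kernel
  have R2 : Rm 0 *ᵥ e2 = e2 := by rw [he2]; decide +kernel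
  have R3 : Rm 0 *ᵥ e3 = e0 + e1 + e3 := by rw [he0, he1, he3]; decide +kernel
  have b01' : B e0 e1 = - B e0 e2 := by
    have h := hH e0 e1
    rw [H0, H1, map_neg, AddMonoidHom.neg_apply] at h
    exact h.symm
  have b02' : B e0 e2 = B e0 e1 := by
    have h := hH e0 e2
    rw [H0, H2] at h
    simp only [map_neg, AddMonoidHom.neg_apply, neg_neg] at h
    exact h.symm
  have b01 : B e0 e1 = 0 := two _ _ (by nth_rw 1 [b01']; rw [b02'])
  have b02 : B e0 e2 = 0 := by rw [b02', b01]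
  have b13' : B e1 e3 = - B e2 e3 := by
    have h := hH e1 e3
    rw [H1, H3, map_neg] at h
    exact h.symm
  have b23' : B e2 e3 = B e1 e3 := by
    have h := hH e2 e3
    rw [H2, H3] at h
    simp only [map_neg, AddMonoidHom.neg_apply, neg_neg] at h
    exact h.symm
  have b13 : B e1 e3 = 0 := two _ _ (by nth_rw 1 [b13']; rw [b23'])
  have b23 : B e2 e3 = 0 := by rw [b23', b13]
  have b03 : B e0 e3 = 0 := by
    have h := hR e1 e3
    rw [R1, R3] at h
    simp only [map_add, map_neg, AddMonoidHom.add_apply, AddMonoidHom.neg_apply] at h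
    rw [halt, halt, b01, hsk e1 e0, b01, b13] at h
    simp only [neg_zero, add_zero, zero_add, neg_eq_zero] at h
    exact h
  have b12 : B e1 e2 = 0 := by
    have h := hR e2 e3
    rw [R2, R3] at h
    simp only [map_add] at h
    rw [hsk e2 e0, b02, b23, neg_zero, zero_add, add_zero] at h
    rw [hsk, h, neg_zero]
  apply hom_eq_zero
  intro i
  apply hom_eq_zero
  intro j
  fin_cases i <;> fin_cases j
  · exact halt _
  · exact b01
  · exact b02
  · exact b03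
  · exact (hsk _ _).trans (by rw [show B (Pi.single (⟨0, _⟩ : Fin 4) 1) (Pi.single (⟨1, _⟩ : Fin 4) 1) = 0 from b01, neg_zero])
  · exact halt _
  · exact b12
  · exact b13
  · exact (hsk _ _).trans (by rw [show B (Pi.single (⟨0, _⟩ : Fin 4) 1) (Pi.single (⟨2, _⟩ : Fin 4) 1) = 0 from b02, neg_zero])
  · exact (hsk _ _).trans (by rw [show B (Pi.single (⟨1, _⟩ : Fin 4) 1) (Pi.single (⟨2, _⟩ : Fin 4) 1) = 0 from b12, neg_zero])
  · exact halt _
  · exact b23
  · exact (hsk _ _).trans (by rw [show B (Pi.single (⟨0, _⟩ : Fin 4) 1) (Pi.single (⟨3, _⟩ : Fin 4) 1) = 0 from b03, neg_zero])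
  · exact (hsk _ _).trans (by rw [show B (Pi.single (⟨1, _⟩ : Fin 4) 1) (Pi.single (⟨3, _⟩ : Fin 4) 1) = 0 from b13, neg_zero])
  · exact (hsk _ _).trans (by rw [show B (Pi.single (⟨2, _⟩ : Fin 4) 1) (Pi.single (⟨3, _⟩ : Fin 4) 1) = 0 from b23, neg_zero])
  · exact halt _

theorem form_eq_one {C : Type v} [CommGroup C] (b : A4 → A4 → C) (h1 : ∀ v v' w, b (v + v') w = b v w * b v' w)
    (h2 : ∀ v w w', b v (w + w') = b v w * b v w') (halt : ∀ v, b v v = 1)
    (hH : ∀ v w, b (RH *ᵥ v) (RH *ᵥ w) = b v w) (hR : ∀ v w, b (Rm 0 *ᵥ v) (Rm 0 *ᵥ w) = b v w) (v w : A4) :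
    b v w = 1 := by
  let B : A4 →+ A4 →+ Additive C :=
    AddMonoidHom.mk' (fun v => AddMonoidHom.mk' (fun w => Additive.ofMul (b v w)) (fun w w' => h2 v w w'))
      (fun v v' => AddMonoidHom.ext fun w => h1 v v' w)
  have hB : B = 0 := form_eq_zero B (fun v => halt v) (fun v w => hH v w) (fun v w => hR v w)
  have h1 : B v w = 0 := by rw [hB]; rfl
  exact h1

end bilin

/-! ### commutators modulo the centre -/

section central

variable {P : Type u} [Group P] {T : Type v} [Group T] {π : P →* T}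

theorem comm_congr (hc : π.ker ≤ Subgroup.center P) {a a' b b' : P} (ha : π a = π a') (hb : π b = π b') :
    ⁅a, b⁆ = ⁅a', b'⁆ := by
  have h1 : a'⁻¹ * a ∈ Subgroup.center P := hc (by rw [MonoidHom.mem_ker, map_mul, map_inv, ha, inv_mul_cancel])
  have h2 : b'⁻¹ * b ∈ Subgroup.center P := hc (by rw [MonoidHom.mem_ker, map_mul, map_inv, hb, inv_mul_cancel])
  obtain ⟨z, hz, rfl⟩ : ∃ z ∈ Subgroup.center P, a = a' * z := ⟨_, h1, by group⟩
  obtain ⟨w, hw, rfl⟩ : ∃ z ∈ Subgroup.center P, b = b' * z := ⟨_, h2, by group⟩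
  rw [Subgroup.mem_center_iff] at hz hw
  rw [commutatorElement_def, commutatorElement_def]
  have e1 : (a' * z) * (b' * w) * (a' * z)⁻¹ * (b' * w)⁻¹ = a' * b' * (z * w * z⁻¹ * w⁻¹) * a'⁻¹ * b'⁻¹ := by
    have k1 : z * b' = b' * z := (hz b').symm
    have k2 : (a' * z)⁻¹ = z⁻¹ * a'⁻¹ := by group
    have k3 : (b' * w)⁻¹ = w⁻¹ * b'⁻¹ := by group
    have k4 : a'⁻¹ * w⁻¹ = w⁻¹ * a'⁻¹ := by
      have := hw a'
      rw [← _root_.mul_inv_rev, ← _root_.mul_inv_rev, this]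
    rw [k2, k3]
    calc a' * z * (b' * w) * (z⁻¹ * a'⁻¹) * (w⁻¹ * b'⁻¹) = a' * (z * b') * w * z⁻¹ * (a'⁻¹ * w⁻¹) * b'⁻¹ := by group
      _ = a' * b' * (z * w * z⁻¹ * w⁻¹) * a'⁻¹ * b'⁻¹ := by rw [k1, k4]; group
  have e2 : z * w * z⁻¹ * w⁻¹ = 1 := by rw [hw z]; group
  rw [e1, e2, mul_one]

theorem comm_mem_center (hc : π.ker ≤ Subgroup.center P) {a b : P} (h : π a * π b = π b * π a) :
    ⁅a, b⁆ ∈ Subgroup.center P := by
  apply hc
  rw [MonoidHom.mem_ker, map_commutatorElement, commutatorElement_eq_one_iff_mul_comm, h]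

theorem comm_mul_left {a b c : P} (h : ⁅b, c⁆ ∈ Subgroup.center P) : ⁅a * b, c⁆ = ⁅a, c⁆ * ⁅b, c⁆ := by
  rw [Subgroup.mem_center_iff] at h
  have e : ⁅a * b, c⁆ = a * ⁅b, c⁆ * a⁻¹ * ⁅a, c⁆ := by
    rw [commutatorElement_def, commutatorElement_def, commutatorElement_def]; group
  rw [e, h a]
  rw [mul_inv_cancel_right]
  exact (h _).symm

theorem comm_mul_right {a b c : P} (h : ⁅a, c⁆ * b = b * ⁅a, c⁆) : ⁅a, b * c⁆ = ⁅a, b⁆ * ⁅a, c⁆ := by
  have e : ⁅a, b * c⁆ = ⁅a, b⁆ * (b * ⁅a, c⁆ * b⁻¹) := by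
    rw [commutatorElement_def, commutatorElement_def, commutatorElement_def]; group
  rw [e, ← h, mul_inv_cancel_right]

/-- `(RH - 1)⁻¹` -/
def SH : Matrix (Fin 4) (Fin 4) (ZMod 3) := !![1, 0, 0, 0; 0, 1, 2, 0; 0, 1, 1, 0; 0, 0, 0, 1]

theorem SH_spec (v : A4) : RH *ᵥ (SH *ᵥ v) - SH *ᵥ v = v := by
  have h : RH * SH - SH = 1 := by decide +kernel
  rw [Matrix.mulVec_mulVec, ← Matrix.sub_mulVec, h, Matrix.one_mulVec]

/-- **The radical lifts.** -/
theorem exists_lift (D : TD T) (hs : Function.Surjective π) (hc : π.ker ≤ Subgroup.center P) :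
    ∃ X : A4 → P, (∀ v w, X (v + w) = X v * X w) ∧ ∀ v, π (X v) = D.x v := by
  choose Y hY using fun v => hs (D.x v)
  obtain ⟨h, hh⟩ := hs D.h
  obtain ⟨a, ha⟩ := hs (D.a 0)
  have hcomm : ∀ v w, π (Y v) * π (Y w) = π (Y w) * π (Y v) := fun v w => by
    rw [hY, hY, ← D.x_add, ← D.x_add, add_comm]
  have hcen : ∀ v w, ⁅Y v, Y w⁆ ∈ Subgroup.center P := fun v w => comm_mem_center hc (hcomm v w)
  have hadd : ∀ v v' w, ⁅Y (v + v'), Y w⁆ = ⁅Y v, Y w⁆ * ⁅Y v', Y w⁆ := by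
    intro v v' w
    rw [← comm_mul_left (hcen v' w)]
    apply comm_congr hc _ rfl
    rw [hY, map_mul, hY, hY, D.x_add]
  have hadd' : ∀ v w w', ⁅Y v, Y (w + w')⁆ = ⁅Y v, Y w⁆ * ⁅Y v, Y w'⁆ := by
    intro v w w'
    rw [← comm_mul_right ((Subgroup.mem_center_iff.1 (hcen v w') (Y w)).symm)]
    apply comm_congr hc rfl
    rw [hY, map_mul, hY, hY, D.x_add]
  have hinv : ∀ (m : P) (R : A4 → A4), (∀ v, π m * D.x v * (π m)⁻¹ = D.x (R v)) →
      ∀ v w, ⁅Y (R v), Y (R w)⁆ = ⁅Y v, Y w⁆ := by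
    intro m R hR v w
    have h1 : ⁅Y (R v), Y (R w)⁆ = ⁅m * Y v * m⁻¹, m * Y w * m⁻¹⁆ := by
      apply comm_congr hc
      · rw [hY, map_mul, map_mul, map_inv, hY, hR]
      · rw [hY, map_mul, map_mul, map_inv, hY, hR]
    have h2 : ⁅m * Y v * m⁻¹, m * Y w * m⁻¹⁆ = m * ⁅Y v, Y w⁆ * m⁻¹ := by
      rw [commutatorElement_def, commutatorElement_def]; group
    rw [h1, h2, Subgroup.mem_center_iff.1 (hcen v w) m, mul_inv_cancel_right]
  -- the form
  have key : ∀ v w, ⁅Y v, Y w⁆ = 1 := by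
    intro v w
    have h1 := form_eq_one (C := Subgroup.center P) (fun v w => ⟨⁅Y v, Y w⁆, hcen v w⟩)
      (fun v v' w => Subtype.ext (hadd v v' w)) (fun v w w' => Subtype.ext (hadd' v w w'))
      (fun v => Subtype.ext (commutatorElement_self _))
      (fun v w => Subtype.ext (hinv h _ (fun v => by rw [hh]; exact D.act_h v) v w))
      (fun v w => Subtype.ext (hinv a _ (fun v => by rw [ha]; exact D.act_a 0 v) v w)) v w
    exact congrArg Subtype.val h1
  have hcomm' : ∀ (p q : P) (v w : A4), π p = D.x v → π q = D.x w → p * q = q * p := by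
    intro p q v w hp hq
    rw [← commutatorElement_eq_one_iff_mul_comm, ← key v w]
    exact comm_congr hc (by rw [hp, hY]) (by rw [hq, hY])
  have hX : ∀ v, π ⁅h, Y (SH *ᵥ v)⁆ = D.x v := by
    intro v
    rw [map_commutatorElement, commutatorElement_def, hh, hY, D.act_h]
    have h1 : D.x (RH *ᵥ (SH *ᵥ v)) = D.x v * D.x (SH *ᵥ v) := by
      rw [← D.x_add]
      congr 1
      rw [← sub_eq_iff_eq_add, SH_spec]
    rw [h1, mul_inv_cancel_right]
  refine ⟨fun v => ⁅h, Y (SH *ᵥ v)⁆, fun v w => ?_, hX⟩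
  change ⁅h, Y (SH *ᵥ (v + w))⁆ = ⁅h, Y (SH *ᵥ v)⁆ * ⁅h, Y (SH *ᵥ w)⁆
  rw [← comm_mul_right (hcomm' _ _ w (SH *ᵥ v) (hX w) (hY _))]
  apply comm_congr hc rfl
  rw [hY, map_mul, hY, hY, Matrix.mulVec_add, D.x_add]

end central

end Cfsg.Agent.H918.U43
end

-- part: H918/U43/Comb
section
/-!
# Combinatorics of the weights (helper918)

`Ω ⊆ F₃⁴` with at most 12 elements, invariant under four affine maps with linear parts the letters `Rm i`:
`Ω` is a point or has 6 elements, and the differences of pairs are the vectors with `q f = c`, each once.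
-/

set_option autoImplicit false
set_option maxRecDepth 20000

namespace Cfsg.Agent.H918.U43

open Matrix

/-- the dual quadratic form -/
def qd (f : A4) : ZMod 3 := f 0 * f 3 - f 1 * f 1 - f 2 * f 2

def tab : List ℕ :=
  [4,4,0,2,0,2,0,0,1,1,1,3,2,0,1,0,0,0,1,1,1,0,0,1,2,3,0,3,4,1,0,0,2,0,0,2,1,1,1,0,0,2,1,0,2,1,1,3,2,0,3,2,0,2,2,4,
    0,2,0,1,2,0,1,3,1,0,3,0,0,2,0,2,3,1,0,1,0,0,2,0,2]

def nxt (f : A4) : ℕ := tab.getD ((f 0).val + 3 * (f 1).val + 9 * (f 2).val + 27 * (f 3).val) 4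

def stp (f : A4) : A4 := if h : nxt f < 4 then f ᵥ* Rm ⟨nxt f, h⟩ else f

def bas (c : ZMod 3) : A4 := ![1, 0, 0, c]

theorem forall_A4 {p : A4 → Prop} (h : ∀ a b c d : ZMod 3, p ![a, b, c, d]) (f : A4) : p f := by
  rw [vec4 f]; exact h _ _ _ _

private noncomputable def fr3 (x : ZMod 3) (k : ZMod 3 → A4) : A4 :=
  @Nat.rec (fun _ => A4) (k 0) (fun n _ => @Nat.rec (fun _ => A4) (k 1) (fun _ _ => k 2) n) x.val

private theorem fr3_eq (x : ZMod 3) (k : ZMod 3 → A4) : fr3 x k = k x := by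
  match x with
  | 0 => rfl
  | 1 => rfl
  | 2 => rfl

private noncomputable def stq (f : A4) : A4 :=
  fr3 (f 0) fun a => fr3 (f 1) fun b => fr3 (f 2) fun c => fr3 (f 3) fun d => stp ![a, b, c, d]

private theorem stq_eq (f : A4) : stp f = stq f := by
  delta stq
  rw [fr3_eq, fr3_eq, fr3_eq, fr3_eq, ← vec4]

private noncomputable def _root_.Cfsg.Agent.LsF.f930b80_11 : {f // @Cfsg.Agent.H918.U43.fr3 = f} := ⟨_, by first | (delta Cfsg.Agent.H918.U43.fr3; rewrite [Cfsg.Agent.LsF.zval_eq]; exact rfl) | exact rfl⟩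
private noncomputable def _root_.Cfsg.Agent.LsF.f930b80_12 : {f // @Cfsg.Agent.H918.U43.nxt = f} := ⟨_, by first | (delta Cfsg.Agent.H918.U43.nxt; rewrite [Cfsg.Agent.LsF.nadd_pat, Cfsg.Agent.LsF.nmul_pat, Cfsg.Agent.LsF.zval_eq, Cfsg.Agent.LsF.getD_eq]; exact rfl) | exact rfl⟩
private noncomputable def _root_.Cfsg.Agent.LsF.f930b80_13 : {f // @Cfsg.Agent.H918.U43.RU = f} := ⟨_, by first | (delta Cfsg.Agent.H918.U43.RU; rewrite [Cfsg.Agent.LsF.mof_pat, Cfsg.Agent.LsF.zadd_pat, Cfsg.Agent.LsF.zmul_pat, Cfsg.Agent.LsF.zneg_pat, Cfsg.Agent.LsF.vecCons_eq]; exact rfl) | exact rfl⟩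
private noncomputable def _root_.Cfsg.Agent.LsF.f930b80_14 : {f // @Cfsg.Agent.H918.U43.RL = f} := ⟨_, by first | (delta Cfsg.Agent.H918.U43.RL; rewrite [Cfsg.Agent.LsF.mof_pat, Cfsg.Agent.LsF.zadd_pat, Cfsg.Agent.LsF.zmul_pat, Cfsg.Agent.LsF.zneg_pat, Cfsg.Agent.LsF.vecCons_eq]; exact rfl) | exact rfl⟩
private noncomputable def _root_.Cfsg.Agent.LsF.f930b80_15 : {f // @Cfsg.Agent.H918.U43.Rm = f} := ⟨_, by first | (delta Cfsg.Agent.H918.U43.Rm; rewrite [Cfsg.Agent.LsF.f930b80_13.2, Cfsg.Agent.LsF.f930b80_14.2, Cfsg.Agent.LsF.vecCons_eq]; exact rfl) | exact rfl⟩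
private noncomputable def _root_.Cfsg.Agent.LsF.f930b80_16 : {f // @Cfsg.Agent.H918.U43.stp = f} := ⟨_, by first | (delta Cfsg.Agent.H918.U43.stp; rewrite [Cfsg.Agent.LsF.vecMulF_pat, Cfsg.Agent.LsF.f930b80_12.2, Cfsg.Agent.LsF.f930b80_15.2, Cfsg.Agent.LsF.zadd_pat, Cfsg.Agent.LsF.zmul_pat, Cfsg.Agent.LsF.decLt_eq, Cfsg.Agent.LsF.dite_eq]; exact rfl) | exact rfl⟩
private noncomputable def _root_.Cfsg.Agent.LsF.f930b80_17 : {f // @Cfsg.Agent.H918.U43.stq = f} := ⟨_, by first | (delta Cfsg.Agent.H918.U43.stq; rewrite [Cfsg.Agent.LsF.f930b80_11.2, Cfsg.Agent.LsF.f930b80_16.2, Cfsg.Agent.LsF.vecCons_eq]; exact rfl) | exact rfl⟩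
private noncomputable def _root_.Cfsg.Agent.LsF.f930b80_18 : {f // @Cfsg.Agent.H918.U43.bas = f} := ⟨_, by first | (delta Cfsg.Agent.H918.U43.bas; rewrite [Cfsg.Agent.LsF.vecCons_eq]; exact rfl) | exact rfl⟩
private noncomputable def _root_.Cfsg.Agent.LsF.f930b80_19 : {f // @Cfsg.Agent.H918.U43.qd = f} := ⟨_, by first | (delta Cfsg.Agent.H918.U43.qd; rewrite [Cfsg.Agent.LsF.zmul_pat, Cfsg.Agent.LsF.zsub_pat]; exact rfl) | exact rfl⟩
theorem stp_four : ∀ f : A4, f ≠ 0 → stp (stp (stp (stp f))) = bas (qd f) :=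
  forall_A4 (by simp only [stq_eq]; (refine of_decide_eq_true ?_; (try (rewrite [Cfsg.Agent.LsF.dPiF_pat, Cfsg.Agent.LsF.f930b80_17.2, Cfsg.Agent.LsF.f930b80_18.2, Cfsg.Agent.LsF.f930b80_19.2, Cfsg.Agent.LsF.vecCons_eq, Cfsg.Agent.LsF.zdecEq_eq, Cfsg.Agent.LsF.zFintype_eq, Cfsg.Agent.LsF.dForall_eq, Cfsg.Agent.LsF.dNot_eq, Cfsg.Agent.LsF.dAllP_eq, Cfsg.Agent.LsF.decide_eq])); decide +kernel))

/-- induction over the classes -/
theorem rel_bas {r : A4 → A4 → Prop} (hr : Equivalence r) (h : ∀ i f, r f (f ᵥ* Rm i)) {f : A4} (hf : f ≠ 0) :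
    r f (bas (qd f)) := by
  have h1 : ∀ f, r f (stp f) := by
    intro f
    unfold stp
    by_cases h2 : nxt f < 4
    · rw [dif_pos h2]; exact h _ _
    · rw [dif_neg h2]; exact hr.refl _
  rw [← stp_four f hf]
  exact hr.trans (h1 _) (hr.trans (h1 _) (hr.trans (h1 _) (h1 _)))

theorem rel_of_qd {r : A4 → A4 → Prop} (hr : Equivalence r) (h : ∀ i f, r f (f ᵥ* Rm i)) {f f' : A4} (hf : f ≠ 0)
    (hf' : f' ≠ 0) (hq : qd f = qd f') : r f f' := by
  have h1 := rel_bas hr h hf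
  rw [hq] at h1
  exact hr.trans h1 (hr.symm (rel_bas hr h hf'))

/-! ### finite checks -/

theorem card_q0 : (Finset.univ.filter fun f : A4 => f ≠ 0 ∧ qd f = 0).card = 20 := by decide +kernel
theorem card_q1 : (Finset.univ.filter fun f : A4 => f ≠ 0 ∧ qd f = 1).card = 30 := by decide +kernel
theorem card_q2 : (Finset.univ.filter fun f : A4 => f ≠ 0 ∧ qd f = 2).card = 30 := by decide +kernel

theorem RH_fix : ∀ f : A4, f ᵥ* RH = f → f = 0 := forall_A4 (by (set_option synthInstance.maxSize 20000 in open scoped Cfsg.Agent.Lib.MatDec in decide +kernel))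

theorem fix_20 : (Finset.univ.filter fun f : A4 => qd f = 2 ∧ f ᵥ* Rm 0 = f).card = 6 := by decide +kernel
theorem fix_101 : (Finset.univ.filter fun f : A4 => qd f = 1 ∧ (f ᵥ* Rm 0) ᵥ* Rm 1 = f).card = 6 := by (delta Cfsg.Agent.H918.U43.qd Cfsg.Agent.H918.U43.Rm Cfsg.Agent.H918.U43.RU Cfsg.Agent.H918.U43.RL; set_option synthInstance.maxSize 20000 in open scoped Cfsg.Agent.Lib.MatDec in decide +kernel)
theorem fix_10 : (Finset.univ.filter fun f : A4 => qd f = 1 ∧ f ᵥ* Rm 0 = f).card = 0 := by (delta Cfsg.Agent.H918.U43.qd Cfsg.Agent.H918.U43.Rm Cfsg.Agent.H918.U43.RU Cfsg.Agent.H918.U43.RL; set_option synthInstance.maxSize 20000 in open scoped Cfsg.Agent.Lib.MatDec in decide +kernel)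
theorem fix_201 : (Finset.univ.filter fun f : A4 => qd f = 2 ∧ (f ᵥ* Rm 0) ᵥ* Rm 1 = f).card = 0 := by (delta Cfsg.Agent.H918.U43.qd Cfsg.Agent.H918.U43.Rm Cfsg.Agent.H918.U43.RU Cfsg.Agent.H918.U43.RL; set_option synthInstance.maxSize 20000 in open scoped Cfsg.Agent.Lib.MatDec in decide +kernel)

theorem dot_2 : (Finset.univ.filter fun f : A4 => qd f = 2 ∧ f ⬝ᵥ ![0, 1, 0, 0] = 0).card = 12 := by decide +kernel
theorem dot_1 : (Finset.univ.filter fun f : A4 => qd f = 1 ∧ f ⬝ᵥ ![0, 1, 1, 0] = 0).card = 12 := by decide +kernel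

theorem span_q1 : ∀ v : A4, (∀ f : A4, qd f = 1 → f ⬝ᵥ v = 0) → v = 0 := forall_A4 (by (delta Cfsg.Agent.H918.U43.qd; set_option synthInstance.maxSize 20000 in open scoped Cfsg.Agent.Lib.MatDec in decide +kernel))
theorem span_q2 : ∀ v : A4, (∀ f : A4, qd f = 2 → f ⬝ᵥ v = 0) → v = 0 := forall_A4 (by (delta Cfsg.Agent.H918.U43.qd; set_option synthInstance.maxSize 20000 in open scoped Cfsg.Agent.Lib.MatDec in decide +kernel))

theorem qd_last : ∀ f : A4, f 0 = 0 → f 1 = 0 → f 2 = 0 → qd f = 0 := by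
  intro f h0 h1 h2
  unfold qd
  rw [h0, h1, h2]; simp

theorem Rm_inj (i : Fin 4) {f f' : A4} (h : f ᵥ* Rm i = f' ᵥ* Rm i) : f = f' := by
  have hinv : ∃ R' : Matrix (Fin 4) (Fin 4) (ZMod 3), Rm i * R' = 1 := by
    fin_cases i
    · exact ⟨RU 2 0, by decide +kernel⟩
    · exact ⟨RU 0 2, by decide +kernel⟩
    · exact ⟨RL 2 0, by decide +kernel⟩
    · exact ⟨RL 0 2, by decide +kernel⟩
  obtain ⟨R', hR⟩ := hinv
  have h1 := congrArg (fun z => z ᵥ* R') h
  simp only [Matrix.vecMul_vecMul, hR, Matrix.vecMul_one] at h1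
  exact h1

/-! ### invariant sets -/

section inv

variable {Ω : Finset A4} {t : Fin 4 → A4}

/-- the number of pairs with a given difference -/
def Nd (Ω : Finset A4) (f : A4) : ℕ := (Ω.filter fun w => w + f ∈ Ω).card

/-- the affine map -/
def Ph (t : Fin 4 → A4) (i : Fin 4) (w : A4) : A4 := w ᵥ* Rm i + t i

theorem Ph_inj (i : Fin 4) : Function.Injective (Ph t i) := by
  intro w w' h
  unfold Ph at h
  exact Rm_inj i (add_right_cancel h)

theorem Ph_add (i : Fin 4) (w f : A4) : Ph t i (w + f) = Ph t i w + f ᵥ* Rm i := by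
  unfold Ph
  rw [Matrix.add_vecMul, add_right_comm]

theorem image_Ph (hΩ : ∀ i, ∀ w ∈ Ω, Ph t i w ∈ Ω) (i : Fin 4) : Ω.image (Ph t i) = Ω := by
  apply Finset.eq_of_subset_of_card_le
  · intro w hw
    obtain ⟨u, hu, rfl⟩ := Finset.mem_image.1 hw
    exact hΩ i u hu
  · rw [Finset.card_image_of_injective _ (Ph_inj i)]

theorem Ph_mem_iff (hΩ : ∀ i, ∀ w ∈ Ω, Ph t i w ∈ Ω) (i : Fin 4) (w : A4) : Ph t i w ∈ Ω ↔ w ∈ Ω := by
  constructor
  · intro h
    rw [← image_Ph hΩ i] at h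
    obtain ⟨u, hu, he⟩ := Finset.mem_image.1 h
    rwa [← Ph_inj i he]
  · exact hΩ i w

theorem Nd_Rm (hΩ : ∀ i, ∀ w ∈ Ω, Ph t i w ∈ Ω) (i : Fin 4) (f : A4) : Nd Ω f = Nd Ω (f ᵥ* Rm i) := by
  unfold Nd
  refine Finset.card_bij (fun w _ => Ph t i w) ?_ ?_ ?_
  · intro w hw
    rw [Finset.mem_filter] at hw ⊢
    rw [← Ph_add]
    exact ⟨hΩ i _ hw.1, hΩ i _ hw.2⟩
  · intro w _ w' _ h
    exact Ph_inj i h
  · intro w hw
    rw [Finset.mem_filter] at hw
    have h1 := hw.1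
    rw [← image_Ph hΩ i] at h1
    obtain ⟨u, hu, he⟩ := Finset.mem_image.1 h1
    refine ⟨u, ?_, he⟩
    rw [Finset.mem_filter]
    refine ⟨hu, ?_⟩
    rw [← Ph_mem_iff hΩ i, Ph_add, he]
    exact hw.2

theorem Nd_eq (hΩ : ∀ i, ∀ w ∈ Ω, Ph t i w ∈ Ω) {f : A4} (hf : f ≠ 0) : Nd Ω f = Nd Ω (bas (qd f)) := by
  refine rel_bas (r := fun f f' => Nd Ω f = Nd Ω f') ⟨fun _ => rfl, fun h => h.symm, fun h h' => h.trans h'⟩ ?_ hf
  intro i f
  exact Nd_Rm hΩ i f

/-- a fixed point -/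
theorem sub_of_fixed (hΩ : ∀ i, ∀ w ∈ Ω, Ph t i w ∈ Ω) (hc : Ω.card ≤ 12) {s : A4} (hs : ∀ i, Ph t i s = s) :
    Ω ⊆ {s} := by
  intro w hw
  rw [Finset.mem_singleton]
  by_contra hne
  have hf : w - s ≠ 0 := sub_ne_zero.2 hne
  have key : ∀ f' : A4, f' ≠ 0 → qd f' = qd (w - s) → s + f' ∈ Ω := by
    intro f' hf' hq
    have h1 := rel_of_qd (r := fun f f' => (s + f ∈ Ω ↔ s + f' ∈ Ω)) ⟨fun _ => Iff.rfl, fun h => h.symm, fun h h' => h.trans h'⟩
      (fun i f => by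
        rw [← Ph_mem_iff hΩ i (s + f), Ph_add, hs i]) hf hf' hq.symm
    apply h1.1
    rwa [add_sub_cancel]
  have hcard : (Finset.univ.filter fun f : A4 => f ≠ 0 ∧ qd f = qd (w - s)).card ≤ Ω.card := by
    refine Finset.card_le_card_of_injOn (fun f => s + f) ?_ ?_
    · intro f hf
      rw [Finset.mem_coe, Finset.mem_filter] at hf
      exact key f hf.2.1 hf.2.2
    · intro f _ f' _ h
      exact add_left_cancel h
  have h3 : ∀ c : ZMod 3, 20 ≤ (Finset.univ.filter fun f : A4 => f ≠ 0 ∧ qd f = c).card := by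
    intro c
    have : c = 0 ∨ c = 1 ∨ c = 2 := by revert c; decide
    rcases this with rfl | rfl | rfl
    · rw [card_q0]
    · rw [card_q1]; norm_num
    · rw [card_q2]; norm_num
  have := h3 (qd (w - s))
  omega

theorem sum_Nd : ∑ f : A4, Nd Ω f = Ω.card * Ω.card := by
  unfold Nd
  rw [← Finset.card_product]
  have h1 : ∀ f : A4, (Ω.filter fun w => w + f ∈ Ω).card =
      ((Ω ×ˢ Ω).filter fun p => p.2 - p.1 = f).card := by
    intro f
    refine Finset.card_bij (fun w _ => (w, w + f)) ?_ ?_ ?_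
    · intro w hw
      rw [Finset.mem_filter] at hw ⊢
      exact ⟨Finset.mem_product.2 hw, by rw [add_sub_cancel_left]⟩
    · intro w _ w' _ h
      exact congrArg Prod.fst h
    · rintro ⟨a, b⟩ hp
      rw [Finset.mem_filter, Finset.mem_product] at hp
      refine ⟨a, ?_, ?_⟩
      · rw [Finset.mem_filter]
        refine ⟨hp.1.1, ?_⟩
        rw [← hp.2, add_sub_cancel]
        exact hp.1.2
      · rw [← hp.2, add_sub_cancel]
  rw [Finset.sum_congr rfl fun f _ => h1 f]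
  exact (Finset.card_eq_sum_card_fiberwise (fun p _ => Finset.mem_univ _)).symm

theorem sum_Nd' (hΩ : ∀ i, ∀ w ∈ Ω, Ph t i w ∈ Ω) :
    Ω.card * Ω.card = Ω.card + 20 * Nd Ω (bas 0) + 30 * Nd Ω (bas 1) + 30 * Nd Ω (bas 2) := by
  rw [← sum_Nd]
  have hsplit : (Finset.univ : Finset A4) = {0} ∪ ((Finset.univ.filter fun f : A4 => f ≠ 0 ∧ qd f = 0) ∪
      ((Finset.univ.filter fun f : A4 => f ≠ 0 ∧ qd f = 1) ∪ (Finset.univ.filter fun f : A4 => f ≠ 0 ∧ qd f = 2))) := by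
    ext f
    simp only [Finset.mem_univ, Finset.mem_union, Finset.mem_singleton, Finset.mem_filter, true_and, true_iff]
    by_cases hf : f = 0
    · left; exact hf
    · right
      have : ∀ c : ZMod 3, c = 0 ∨ c = 1 ∨ c = 2 := by decide
      rcases this (qd f) with h | h | h
      · left; exact ⟨hf, h⟩
      · right; left; exact ⟨hf, h⟩
      · right; right; exact ⟨hf, h⟩
  rw [hsplit, Finset.sum_union, Finset.sum_union, Finset.sum_union, Finset.sum_singleton]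
  · have hc : ∀ c : ZMod 3, ∑ f ∈ Finset.univ.filter (fun f : A4 => f ≠ 0 ∧ qd f = c), Nd Ω f =
        (Finset.univ.filter fun f : A4 => f ≠ 0 ∧ qd f = c).card * Nd Ω (bas c) := by
      intro c
      rw [Finset.sum_congr rfl (g := fun _ => Nd Ω (bas c)), Finset.sum_const, smul_eq_mul]
      intro f hf
      rw [Finset.mem_filter] at hf
      rw [Nd_eq hΩ hf.2.1, hf.2.2]
    rw [hc, hc, hc, card_q0, card_q1, card_q2]
    have h0 : Nd Ω 0 = Ω.card := by
      unfold Nd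
      congr 1
      rw [Finset.filter_eq_self]
      intro w hw
      rwa [add_zero]
    rw [h0]
    ring
  · rw [Finset.disjoint_filter]
    rintro f _ ⟨_, h1⟩ ⟨_, h2⟩
    rw [h1] at h2
    exact absurd h2 (by decide)
  · rw [Finset.disjoint_union_right]
    constructor
    · rw [Finset.disjoint_filter]
      rintro f _ ⟨_, h1⟩ ⟨_, h2⟩
      rw [h1] at h2
      exact absurd h2 (by decide)
    · rw [Finset.disjoint_filter]
      rintro f _ ⟨_, h1⟩ ⟨_, h2⟩
      rw [h1] at h2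
      exact absurd h2 (by decide)
  · rw [Finset.disjoint_singleton_left]
    simp only [_root_.ne_eq, _root_.Finset.mem_union, _root_.Finset.mem_filter, _root_.Finset.mem_univ, _root_.not_true_eq_false, _root_.false_and, _root_.and_false, _root_.or_self, _root_.not_false_eq_true]

/-- **Shape of the set of weights.** -/
theorem shape (hΩ : ∀ i, ∀ w ∈ Ω, Ph t i w ∈ Ω) (hc : Ω.card ≤ 12) :
    (∃ s, Ω ⊆ {s}) ∨ (Ω.card = 6 ∧ ∃ c : ZMod 3, (c = 1 ∨ c = 2) ∧ ∀ f, f ≠ 0 → Nd Ω f = if qd f = c then 1 else 0) := by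
  by_cases h3 : ((Ω.card : ℕ) : ZMod 3) = 0
  · -- `3 ∣ |Ω|`
    rw [ZMod.natCast_eq_zero_iff] at h3
    have h := sum_Nd' hΩ
    set k := Ω.card with hk
    obtain ⟨j, hj⟩ := h3
    have hj4 : j ≤ 4 := by omega
    have hcases : k = 0 ∨ k = 6 := by
      interval_cases j
      · left; omega
      · exfalso; rw [hj] at h; omega
      · right; omega
      · exfalso; rw [hj] at h; omega
      · exfalso; rw [hj] at h; omega
    rcases hcases with h0 | h6
    · left
      refine ⟨0, ?_⟩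
      rw [hk, Finset.card_eq_zero] at h0
      rw [h0]
      exact Finset.empty_subset _
    · right
      refine ⟨h6, ?_⟩
      rw [h6] at h
      have ha : Nd Ω (bas 0) = 0 := by omega
      have hbc : (Nd Ω (bas 1) = 1 ∧ Nd Ω (bas 2) = 0) ∨ (Nd Ω (bas 1) = 0 ∧ Nd Ω (bas 2) = 1) := by omega
      have h012 : ∀ c : ZMod 3, c = 0 ∨ c = 1 ∨ c = 2 := by decide
      rcases hbc with ⟨hb, hc'⟩ | ⟨hb, hc'⟩
      · refine ⟨1, Or.inl rfl, fun f hf => ?_⟩
        rw [Nd_eq hΩ hf]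
        rcases h012 (qd f) with h | h | h
        · rw [h, ha]; rfl
        · rw [h, hb]; rfl
        · rw [h, hc']; rfl
      · refine ⟨2, Or.inr rfl, fun f hf => ?_⟩
        rw [Nd_eq hΩ hf]
        rcases h012 (qd f) with h | h | h
        · rw [h, ha]; rfl
        · rw [h, hb]; rfl
        · rw [h, hc']; rfl
  · -- the centroid
    left
    set u : ZMod 3 := ((Ω.card : ℕ) : ZMod 3) with hu
    set σ : A4 := ∑ w ∈ Ω, w with hσ
    refine ⟨u⁻¹ • σ, sub_of_fixed hΩ hc fun i => ?_⟩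
    have h1 : ∑ w ∈ Ω, Ph t i w = σ := by
      have h2 : ∑ w ∈ Ω.image (Ph t i), w = ∑ w ∈ Ω, Ph t i w := Finset.sum_image fun w _ w' _ h => Ph_inj i h
      rw [← h2, image_Ph hΩ i]
    have h2 : ∑ w ∈ Ω, Ph t i w = σ ᵥ* Rm i + u • t i := by
      unfold Ph
      rw [Finset.sum_add_distrib, Finset.sum_const, hσ, Matrix.sum_vecMul, hu, Nat.cast_smul_eq_nsmul]
    have h3' : σ ᵥ* Rm i + u • t i = σ := by rw [← h2, h1]
    unfold Ph
    rw [Matrix.smul_vecMul]
    have h4 : u⁻¹ • (σ ᵥ* Rm i + u • t i) = u⁻¹ • σ := by rw [h3']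
    have : Fact (Nat.Prime 3) := ⟨by norm_num⟩
    rwa [smul_add, smul_smul, inv_mul_cancel₀ h3, one_smul] at h4

end inv

end Cfsg.Agent.H918.U43
end

-- part: H918/U43/CPerm
section
/-!
# The permutation group on the six weights (helper918)
-/

set_option autoImplicit false
set_option maxRecDepth 20000

namespace Cfsg.Agent.H918.U43

open Matrix Equiv

/-- The shape of the set of weights. -/
structure Hex (Ω : Finset A4) (c : ZMod 3) : Prop where
  card : Ω.card = 6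
  hc : c = 1 ∨ c = 2
  nd : ∀ f, f ≠ 0 → Nd Ω f = if qd f = c then 1 else 0

section

variable {Ω : Finset A4} {c : ZMod 3} (H : Hex Ω c)

theorem apinv {α : Type*} (σ : Perm α) (a : α) : σ (σ⁻¹ a) = a := by
  rw [← Perm.mul_apply, mul_inv_cancel, Perm.one_apply]

theorem invap {α : Type*} (σ : Perm α) (a : α) : σ⁻¹ (σ a) = a := by
  rw [← Perm.mul_apply, inv_mul_cancel, Perm.one_apply]

/-- permutations acting through a linear map on differences -/
def Lin (σ : Perm {w // w ∈ Ω}) (ρ : A4 → A4) : Prop :=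
  ∀ w w', ((σ w' : {w // w ∈ Ω}) : A4) - (σ w : {w // w ∈ Ω}) = ρ ((w' : A4) - w)

theorem Lin.mul {σ τ : Perm {w // w ∈ Ω}} {ρ ρ' : A4 → A4} (h : Lin σ ρ) (h' : Lin τ ρ') :
    Lin (σ * τ) (fun f => ρ (ρ' f)) := by
  intro w w'
  rw [Perm.mul_apply, Perm.mul_apply, h, h']

include H

theorem Hex.c_ne : c ≠ 0 := by
  rcases H.hc with h | h <;> rw [h] <;> decide

theorem Hex.qd_ne {f : A4} (h : qd f = c) : f ≠ 0 := by
  rintro rfl
  apply H.c_ne
  rw [← h]
  decide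

theorem Hex.unique {f w u : A4} (hf : f ≠ 0) (hw : w ∈ Ω) (hwf : w + f ∈ Ω) (hu : u ∈ Ω) (huf : u + f ∈ Ω) : w = u := by
  have h1 : (Ω.filter fun w => w + f ∈ Ω).card ≤ 1 := by
    have h2 := H.nd f hf
    unfold Nd at h2
    rw [h2]
    split_ifs <;> norm_num
  exact Finset.card_le_one.1 h1 w (Finset.mem_filter.2 ⟨hw, hwf⟩) u (Finset.mem_filter.2 ⟨hu, huf⟩)

theorem Hex.exists_pair {f : A4} (hf : qd f = c) : ∃ w ∈ Ω, w + f ∈ Ω := by
  have h2 := H.nd f (H.qd_ne hf)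
  rw [if_pos hf] at h2
  unfold Nd at h2
  obtain ⟨w, hw⟩ := Finset.card_pos.1 (by rw [h2]; norm_num)
  rw [Finset.mem_filter] at hw
  exact ⟨w, hw.1, hw.2⟩

theorem Hex.qd_sub {w w' : A4} (hw : w ∈ Ω) (hw' : w' ∈ Ω) (h : w ≠ w') : qd (w' - w) = c := by
  by_contra hq
  have hf : w' - w ≠ 0 := sub_ne_zero.2 h.symm
  have h2 := H.nd _ hf
  rw [if_neg hq] at h2
  unfold Nd at h2
  rw [Finset.card_eq_zero] at h2
  have h3 : w ∈ Ω.filter fun u => u + (w' - w) ∈ Ω := Finset.mem_filter.2 ⟨hw, by rwa [add_sub_cancel]⟩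
  rw [h2] at h3
  exact absurd h3 (Finset.notMem_empty _)

theorem Hex.fcard : Fintype.card {w // w ∈ Ω} = 6 := by rw [Fintype.card_coe, H.card]

/-- pairs and differences -/
theorem Hex.card_pairs (Q : A4 → Prop) [DecidablePred Q] :
    (Finset.univ.filter fun p : {w // w ∈ Ω} × {w // w ∈ Ω} => p.1 ≠ p.2 ∧ Q ((p.2 : A4) - p.1)).card =
      (Finset.univ.filter fun f : A4 => qd f = c ∧ Q f).card := by
  refine Finset.card_bij (fun p _ => (p.2 : A4) - p.1) ?_ ?_ ?_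
  · rintro ⟨a, b⟩ hp
    rw [Finset.mem_filter] at hp ⊢
    refine ⟨Finset.mem_univ _, H.qd_sub a.2 b.2 ?_, hp.2.2⟩
    intro h
    exact hp.2.1 (Subtype.ext h)
  · rintro ⟨a, b⟩ hp ⟨a', b'⟩ hp' h
    rw [Finset.mem_filter] at hp hp'
    have hne : (b : A4) - a ≠ 0 := by
      rw [sub_ne_zero]
      intro h
      exact hp.2.1 (Subtype.ext h.symm)
    have h' : (b : A4) - a = (b' : A4) - a' := h
    have h1 : (a : A4) = a' := H.unique hne a.2 (by rw [add_sub_cancel]; exact b.2) a'.2 (by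
      rw [h', add_sub_cancel]; exact b'.2)
    have h2 : (b : A4) = b' := by
      rw [h1] at h'
      exact sub_left_injective h'
    rw [Subtype.ext h1, Subtype.ext h2]
  · intro f hf
    rw [Finset.mem_filter] at hf
    obtain ⟨w, hw, hwf⟩ := H.exists_pair hf.2.1
    refine ⟨(⟨w, hw⟩, ⟨w + f, hwf⟩), ?_, ?_⟩
    · rw [Finset.mem_filter]
      refine ⟨Finset.mem_univ _, ?_, ?_⟩
      · intro h
        have h1 : w = w + f := congrArg Subtype.val h
        exact H.qd_ne hf.2.1 (left_eq_add.1 h1)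
      · change Q (w + f - w)
        rw [add_sub_cancel_left]
        exact hf.2.2
    · change w + f - w = f
      rw [add_sub_cancel_left]

theorem Hex.fixed_of {σ : Perm {w // w ∈ Ω}} {ρ : A4 → A4} (hσ : Lin σ ρ) {a b : {w // w ∈ Ω}} (hab : a ≠ b)
    (h : ρ ((b : A4) - a) = (b : A4) - a) : σ a = a ∧ σ b = b := by
  have hne : (b : A4) - a ≠ 0 := by
    rw [sub_ne_zero]
    intro h
    exact hab (Subtype.ext h.symm)
  have h1 := hσ a b
  rw [h] at h1
  have h2 : ((σ a : {w // w ∈ Ω}) : A4) = a := H.unique hne (σ a).2 (by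
    rw [← h1, add_sub_cancel]; exact (σ b).2) a.2 (by rw [add_sub_cancel]; exact b.2)
  refine ⟨Subtype.ext h2, Subtype.ext ?_⟩
  rw [h2] at h1
  exact sub_left_injective h1

/-- the number of fixed points -/
theorem Hex.card_fix {σ : Perm {w // w ∈ Ω}} {ρ : A4 → A4} (hσ : Lin σ ρ) :
    (Finset.univ.filter fun a => σ a = a).card * (Finset.univ.filter fun a => σ a = a).card =
      (Finset.univ.filter fun f : A4 => qd f = c ∧ ρ f = f).card + (Finset.univ.filter fun a => σ a = a).card := by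
  rw [← H.card_pairs fun f => ρ f = f]
  have h1 : (Finset.univ.filter fun p : {w // w ∈ Ω} × {w // w ∈ Ω} =>
      p.1 ≠ p.2 ∧ ρ ((p.2 : A4) - p.1) = (p.2 : A4) - p.1) = (Finset.univ.filter fun a => σ a = a).offDiag := by
    ext ⟨a, b⟩
    rw [Finset.mem_filter, Finset.mem_offDiag, Finset.mem_filter, Finset.mem_filter]
    constructor
    · rintro ⟨_, h, h'⟩
      obtain ⟨h2, h3⟩ := H.fixed_of hσ h h'
      exact ⟨⟨Finset.mem_univ _, h2⟩, ⟨Finset.mem_univ _, h3⟩, h⟩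
    · rintro ⟨⟨_, h2⟩, ⟨_, h3⟩, h⟩
      refine ⟨Finset.mem_univ _, h, ?_⟩
      change ρ ((b : A4) - a) = (b : A4) - a
      rw [← hσ, h2, h3]
  rw [h1, Finset.offDiag_card]
  have h4 : (Finset.univ.filter fun a => σ a = a).card ≤
      (Finset.univ.filter fun a => σ a = a).card * (Finset.univ.filter fun a => σ a = a).card := Nat.le_mul_self _
  omega

theorem Hex.isThreeCycle {σ : Perm {w // w ∈ Ω}} {ρ : A4 → A4} (hσ : Lin σ ρ)
    (h6 : (Finset.univ.filter fun f : A4 => qd f = c ∧ ρ f = f).card = 6) : σ.IsThreeCycle := by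
  rw [← card_support_eq_three_iff]
  have h1 := H.card_fix hσ
  rw [h6] at h1
  set k := (Finset.univ.filter fun a => σ a = a).card with hk
  have h2 : k = 3 := by
    have hk7 : k < 4 := by
      by_contra h
      have h4 : 4 ≤ k := by omega
      nlinarith only [h1, h]
    interval_cases k <;> omega
  have h3 : σ.support.card + k = 6 := by
    rw [← H.fcard, ← Finset.card_univ, ← Finset.card_filter_add_card_filter_not (s := Finset.univ) (fun a => σ a ≠ a)]
    congr 1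
    rw [hk]
    congr 1
    ext a
    simp only [_root_.Finset.univ_eq_attach, _root_.Finset.mem_filter, _root_.Finset.mem_attach, _root_.true_and, _root_.ne_eq, _root_.Decidable.not_not]
  omega

/-- no fixed point -/
theorem Hex.no_fixed {σ : Perm {w // w ∈ Ω}} {ρ : A4 → A4} (hσ : Lin σ ρ) {p n : ℕ} (hp : p.Prime) (hp6 : p ∣ 6)
    (hpow : σ ^ p ^ n = 1) (h0 : ∀ f, qd f = c → ρ f = f → False) : ∀ a, σ a ≠ a := by
  intro a ha
  have : Fact p.Prime := ⟨hp⟩
  obtain ⟨b, hb, hne⟩ := Perm.exists_fixed_point_of_prime' (by rw [H.fcard]; exact hp6) hpow ha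
  have h1 := hσ a b
  rw [ha, hb] at h1
  exact h0 _ (H.qd_sub a.2 b.2 fun h => hne (Subtype.ext h.symm)) h1.symm

/-! ### the group -/

variable {G : Subgroup (Perm {w // w ∈ Ω})} {al : Fin 4 → Perm {w // w ∈ Ω}}

/-- transitivity on pairs -/
theorem Hex.two_trans (hG : ∀ σ ∈ G, ∃ ρ : A4 ≃+ A4, Lin σ ρ) (hal : ∀ i, al i ∈ G)
    (hlin : ∀ i, Lin (al i) fun f => f ᵥ* Rm i) {a b a' b' : {w // w ∈ Ω}} (h : a ≠ b) (h' : a' ≠ b') :
    ∃ σ ∈ G, σ a = a' ∧ σ b = b' := by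
  have key := rel_of_qd (r := fun f f' => ∃ σ ∈ G, ∃ ρ : A4 ≃+ A4, Lin σ ρ ∧ ρ f = f') ⟨fun f => ⟨1, G.one_mem,
      AddEquiv.refl _, fun _ _ => rfl, rfl⟩, ?_, ?_⟩ ?_ (f := (b : A4) - a) (f' := (b' : A4) - a') ?_ ?_ ?_
  · obtain ⟨σ, hσ, ρ, hl, hρ⟩ := key
    refine ⟨σ, hσ, ?_⟩
    have h1 := hl a b
    rw [hρ] at h1
    have hne : (b' : A4) - a' ≠ 0 := by
      rw [sub_ne_zero]
      intro h
      exact h' (Subtype.ext h.symm)
    have h2 : ((σ a : {w // w ∈ Ω}) : A4) = a' := H.unique hne (σ a).2 (by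
      rw [← h1, add_sub_cancel]; exact (σ b).2) a'.2 (by rw [add_sub_cancel]; exact b'.2)
    refine ⟨Subtype.ext h2, Subtype.ext ?_⟩
    rw [h2] at h1
    exact sub_left_injective h1
  · rintro f f' ⟨σ, hσ, ρ, hl, hρ⟩
    refine ⟨σ⁻¹, G.inv_mem hσ, ρ.symm, ?_, ?_⟩
    · intro w w'
      apply ρ.injective
      rw [AddEquiv.apply_symm_apply, ← hl, apinv, apinv]
    · rw [← hρ, AddEquiv.symm_apply_apply]
  · rintro f f' f'' ⟨σ, hσ, ρ, hl, hρ⟩ ⟨τ, hτ, ρ', hl', hρ'⟩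
    refine ⟨τ * σ, G.mul_mem hτ hσ, ρ.trans ρ', hl'.mul hl, ?_⟩
    rw [AddEquiv.trans_apply, hρ, hρ']
  · intro i f
    obtain ⟨ρ, hρ⟩ := hG _ (hal i)
    -- `ρ` agrees with the letter on the differences; replace it by the letter
    let e : A4 ≃+ A4 := AddEquiv.ofBijective
      ({ toFun := fun f => f ᵥ* Rm i
         map_zero' := Matrix.zero_vecMul _
         map_add' := fun f f' => Matrix.add_vecMul _ _ _ } : A4 →+ A4)
      (Finite.injective_iff_bijective.1 fun f f' h => Rm_inj i h)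
    exact ⟨al i, hal i, e, hlin i, rfl⟩
  · rw [sub_ne_zero]
    intro h1
    exact h (Subtype.ext h1.symm)
  · rw [sub_ne_zero]
    intro h1
    exact h' (Subtype.ext h1.symm)
  · rw [H.qd_sub a.2 b.2 fun h1 => h (Subtype.ext h1), H.qd_sub a'.2 b'.2 fun h1 => h' (Subtype.ext h1)]

theorem Hex.exists_three (hal : ∀ i, al i ∈ G) (hlin : ∀ i, Lin (al i) fun f => f ᵥ* Rm i) :
    (c = 2 ∧ (al 0).IsThreeCycle) ∨ (c = 1 ∧ (al 1 * al 0).IsThreeCycle) := by
  rcases H.hc with h | h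
  · right
    refine ⟨h, H.isThreeCycle ((hlin 1).mul (hlin 0)) ?_⟩
    rw [h]
    exact fix_101
  · left
    refine ⟨h, H.isThreeCycle (hlin 0) ?_⟩
    rw [h]
    exact fix_20

theorem Hex.alt_le (hG : ∀ σ ∈ G, ∃ ρ : A4 ≃+ A4, Lin σ ρ) (hal : ∀ i, al i ∈ G)
    (hlin : ∀ i, Lin (al i) fun f => f ᵥ* Rm i) : alternatingGroup {w // w ∈ Ω} ≤ G := by
  have h2 : MulAction.IsMultiplyPretransitive G {w // w ∈ Ω} 2 := by
    rw [MulAction.is_two_pretransitive_iff]
    intro a b c d hab hcd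
    obtain ⟨σ, hσ, h1, h2⟩ := H.two_trans hG hal hlin hab hcd
    exact ⟨⟨σ, hσ⟩, h1, h2⟩
  have hp := MulAction.isPreprimitive_of_is_two_pretransitive h2
  rcases H.exists_three hal hlin with ⟨_, h⟩ | ⟨_, h⟩
  · exact Equiv.Perm.alternatingGroup_le_of_isPreprimitive_of_isThreeCycle_mem hp h (hal 0)
  · exact Equiv.Perm.alternatingGroup_le_of_isPreprimitive_of_isThreeCycle_mem hp h (G.mul_mem (hal 1) (hal 0))

/-- the subgroup `D` is transitive -/
theorem Hex.trans_D {K : Subgroup (Perm {w // w ∈ Ω})} {be a0 a1 : Perm {w // w ∈ Ω}} (hbe : be ∈ K) (ha0 : a0 ∈ K)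
    (ha1 : a1 ∈ K) (hlb : Lin be fun f => f ᵥ* RH) (hl0 : Lin a0 fun f => f ᵥ* Rm 0)
    (hl1 : Lin a1 fun f => f ᵥ* Rm 1) (hb4 : be ^ 4 = 1) (h03 : a0 ^ 3 = 1) (h13 : (a1 * a0) ^ 3 = 1)
    (a b : {w // w ∈ Ω}) : ∃ σ ∈ K, σ a = b := by
  classical
  have hb : ∀ w, be w ≠ w := H.no_fixed hlb (p := 2) (n := 2) Nat.prime_two (by norm_num) (by norm_num; exact hb4)
    (fun f hf h => H.qd_ne hf (RH_fix f h))
  have h3 : ∃ τ ∈ K, τ ^ 3 = 1 ∧ ∀ w, τ w ≠ w := by
    rcases H.hc with h | h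
    · refine ⟨a0, ha0, h03, H.no_fixed hl0 (p := 3) (n := 1) Nat.prime_three (by norm_num) (by norm_num; exact h03)
        fun f hf h1 => ?_⟩
      have h2 := fix_10
      rw [Finset.card_eq_zero, Finset.filter_eq_empty_iff] at h2
      exact h2 (Finset.mem_univ f) ⟨by rw [hf, h], h1⟩
    · refine ⟨a1 * a0, K.mul_mem ha1 ha0, h13, H.no_fixed (hl1.mul hl0) (p := 3) (n := 1) Nat.prime_three
        (by norm_num) (by norm_num; exact h13) fun f hf h1 => ?_⟩
      have h2 := fix_201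
      rw [Finset.card_eq_zero, Finset.filter_eq_empty_iff] at h2
      exact h2 (Finset.mem_univ f) ⟨by rw [hf, h], h1⟩
  obtain ⟨τ, hτ, hτ3, hτf⟩ := h3
  -- the orbit of `a`
  set O := {w : {w // w ∈ Ω} // ∃ σ ∈ K, σ a = w} with hO
  have hdvd : ∀ (σ : Perm {w // w ∈ Ω}) (p n : ℕ), p.Prime → σ ∈ K → σ ^ p ^ n = 1 → (∀ w, σ w ≠ w) →
      p ∣ Fintype.card O := by
    intro σ p n hp hσ hpow hfix
    have : Fact p.Prime := ⟨hp⟩
    by_contra hnd
    have hiff : ∀ w, (∃ τ ∈ K, τ a = w) ↔ (∃ τ ∈ K, τ a = σ w) := by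
      intro w
      constructor
      · rintro ⟨τ, hτ, rfl⟩
        exact ⟨σ * τ, K.mul_mem hσ hτ, rfl⟩
      · rintro ⟨τ, hτ, h⟩
        refine ⟨σ⁻¹ * τ, K.mul_mem (K.inv_mem hσ) hτ, ?_⟩
        rw [Perm.mul_apply, h, invap]
    let σ' : Perm O := σ.subtypePerm (fun w => (hiff w).symm)
    have hpow' : σ' ^ p ^ n = 1 := by
      rw [Perm.subtypePerm_pow]
      simp only [hpow]
      exact Perm.subtypePerm_one _
    obtain ⟨w, hw⟩ := Perm.exists_fixed_point_of_prime hnd hpow'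
    exact hfix w (congrArg Subtype.val hw)
  have h2 : 2 ∣ Fintype.card O := hdvd be 2 2 Nat.prime_two hbe (by norm_num; exact hb4) hb
  have h3 : 3 ∣ Fintype.card O := hdvd τ 3 1 Nat.prime_three hτ (by norm_num; exact hτ3) hτf
  have hpos : 0 < Fintype.card O := Fintype.card_pos_iff.2 ⟨⟨a, 1, K.one_mem, rfl⟩⟩
  have hle : Fintype.card O ≤ 6 := by
    rw [← H.fcard]
    exact Fintype.card_subtype_le _
  have h6 : Fintype.card O = Fintype.card {w // w ∈ Ω} := by
    rw [H.fcard]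
    omega
  by_contra hb'
  have h7 := Fintype.card_subtype_lt (p := fun w => ∃ σ ∈ K, σ a = w) hb'
  rw [← h6] at h7
  exact lt_irrefl _ h7

/-- faithfulness -/
theorem Hex.eq_of_lin {ρ : A4 ≃+ A4} {R : A4 → A4} (h1 : Lin (1 : Perm {w // w ∈ Ω}) ρ)
    (hR : ∀ f v : A4, ρ f ⬝ᵥ R v = f ⬝ᵥ v) (v : A4) : R v = v := by
  have h2 : ∀ f, qd f = c → ρ f = f := by
    intro f hf
    obtain ⟨w, hw, hwf⟩ := H.exists_pair hf
    have h3 := h1 ⟨w, hw⟩ ⟨w + f, hwf⟩
    have h4 : ((1 : Perm {w // w ∈ Ω}) ⟨w + f, hwf⟩ : A4) - ((1 : Perm {w // w ∈ Ω}) ⟨w, hw⟩ : {w // w ∈ Ω}) = f := by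
      change w + f - w = f
      rw [add_sub_cancel_left]
    rw [h4] at h3
    change f = ρ (w + f - w) at h3
    rw [add_sub_cancel_left] at h3
    exact h3.symm
  rw [← sub_eq_zero]
  have h5 : ∀ f, qd f = c → f ⬝ᵥ (R v - v) = 0 := by
    intro f hf
    rw [dotProduct_sub, sub_eq_zero, ← hR f v, h2 f hf]
  rcases H.hc with h | h
  · exact span_q1 _ fun f hf => h5 f (by rw [hf, h])
  · exact span_q2 _ fun f hf => h5 f (by rw [hf, h])

/-- weights are separated by the hyperplane `v 3 = 0` -/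
theorem Hex.separated {w w' : A4} (hw : w ∈ Ω) (hw' : w' ∈ Ω) (h : ∀ v : A4, v 3 = 0 → w ⬝ᵥ v = w' ⬝ᵥ v) : w = w' := by
  by_contra hne
  have h1 := H.qd_sub hw hw' hne
  apply H.c_ne
  rw [← h1]
  apply qd_last
  · have := h (Pi.single 0 1) (by decide)
    rw [dotProduct_single_one, dotProduct_single_one] at this
    rw [Pi.sub_apply, this, sub_self]
  · have := h (Pi.single 1 1) (by decide)
    rw [dotProduct_single_one, dotProduct_single_one] at this
    rw [Pi.sub_apply, this, sub_self]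
  · have := h (Pi.single 2 1) (by decide)
    rw [dotProduct_single_one, dotProduct_single_one] at this
    rw [Pi.sub_apply, this, sub_self]

/-- the vector conjugate to the three-cycle -/
def vc (c : ZMod 3) : A4 := if c = 2 then ![0, 1, 0, 0] else ![0, 1, 1, 0]

/-- the distribution of `w · v` -/
theorem Hex.distrib : ∑ j : ZMod 3, (Finset.univ.filter fun w : {w // w ∈ Ω} => (w : A4) ⬝ᵥ vc c = j).card ^ 2 = 18 := by
  have h1 : (Finset.univ.filter fun p : {w // w ∈ Ω} × {w // w ∈ Ω} => p.1 ≠ p.2 ∧ ((p.2 : A4) - (p.1 : A4)) ⬝ᵥ vc c = 0).card = 12 := by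
    rw [H.card_pairs fun f => f ⬝ᵥ vc c = 0]
    rcases H.hc with h | h
    · rw [h]; exact dot_1
    · rw [h]; exact dot_2
  have h2 : ∀ j : ZMod 3, (Finset.univ.filter fun w : {w // w ∈ Ω} => (w : A4) ⬝ᵥ vc c = j).card ^ 2 =
      (Finset.univ.filter fun p : {w // w ∈ Ω} × {w // w ∈ Ω} => (p.1 : A4) ⬝ᵥ vc c = j ∧ (p.2 : A4) ⬝ᵥ vc c = j).card := by
    intro j
    rw [pow_two, ← Finset.card_product]
    congr 1
    ext ⟨a, b⟩
    simp only [Finset.mem_product, Finset.mem_filter, _root_.Finset.univ_eq_attach, _root_.Finset.mem_attach, _root_.true_and, _root_.Finset.mem_univ]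
  rw [Finset.sum_congr rfl fun j _ => h2 j]
  have h3 : ∑ j : ZMod 3, (Finset.univ.filter fun p : {w // w ∈ Ω} × {w // w ∈ Ω} =>
      (p.1 : A4) ⬝ᵥ vc c = j ∧ (p.2 : A4) ⬝ᵥ vc c = j).card =
      (Finset.univ.filter fun p : {w // w ∈ Ω} × {w // w ∈ Ω} => ((p.2 : A4) - (p.1 : A4)) ⬝ᵥ vc c = 0).card := by
    rw [Finset.card_eq_sum_card_fiberwise (f := fun p => (p.1 : A4) ⬝ᵥ vc c) (t := Finset.univ) (fun _ _ => Finset.mem_univ _)]
    refine Finset.sum_congr rfl fun j _ => ?_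
    congr 1
    ext ⟨a, b⟩
    simp only [Finset.mem_filter, Finset.mem_univ, true_and, sub_dotProduct, sub_eq_zero]
    constructor
    · rintro ⟨h, h'⟩
      exact ⟨by rw [h, h'], h⟩
    · rintro ⟨h, h'⟩
      exact ⟨h', by rw [h, h']⟩
  rw [h3]
  have h4 : (Finset.univ.filter fun p : {w // w ∈ Ω} × {w // w ∈ Ω} => ((p.2 : A4) - (p.1 : A4)) ⬝ᵥ vc c = 0) =
      (Finset.univ.filter fun p : {w // w ∈ Ω} × {w // w ∈ Ω} => p.1 ≠ p.2 ∧ ((p.2 : A4) - (p.1 : A4)) ⬝ᵥ vc c = 0) ∪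
      (Finset.univ : Finset {w // w ∈ Ω}).image (fun a => (a, a)) := by
    ext ⟨a, b⟩
    simp only [Finset.mem_filter, Finset.mem_univ, true_and, Finset.mem_union, Finset.mem_image, Prod.mk.injEq]
    constructor
    · intro h
      by_cases hab : a = b
      · right; exact ⟨a, rfl, hab⟩
      · left; exact ⟨hab, h⟩
    · rintro (⟨_, h⟩ | ⟨w, rfl, rfl⟩)
      · exact h
      · rw [sub_self, zero_dotProduct]
  rw [h4, Finset.card_union_of_disjoint, h1, Finset.card_image_of_injective, Finset.card_univ, H.fcard]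
  · intro a b h
    exact congrArg Prod.fst h
  · rw [Finset.disjoint_left]
    rintro ⟨a, b⟩ h h'
    rw [Finset.mem_filter] at h
    obtain ⟨w, _, hw⟩ := Finset.mem_image.1 h'
    have e1 := congrArg Prod.fst hw
    have e2 := congrArg Prod.snd hw
    exact h.2.1 (e1.symm.trans e2)

end

end Cfsg.Agent.H918.U43
end

-- part: H918/U43/Rep1
section
/-!
# Weights of the radical in a projective representation of `PSU₄(3)` (helper918)
-/

set_option autoImplicit false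
set_option maxRecDepth 20000

namespace Cfsg.Agent.H918.U43

open Matrix Module

universe u v w z

/-- The situation: `P` acts linearly on `V`, `π : P → T` with kernel the scalars, `X` lifts the radical. -/
structure Sit {T : Type v} [Group T] (D : TD T) (F : Type u) [Field F] (V : Type w) [AddCommGroup V] [Module F V]
    (P : Type z) [Group P] where
  ρ : P →* Module.End F V
  inj : Function.Injective ρ
  π : P →* T
  surj : Function.Surjective π
  ker : ∀ z, π z = 1 ↔ ∃ c : F, ρ z = c • 1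
  om : F
  om3 : om ^ 2 + om + 1 = 0
  three : (3 : F) ≠ 0
  X : A4 → P
  X_add : ∀ v w, X (v + w) = X v * X w
  X_pi : ∀ v, π (X v) = D.x v

variable {T : Type v} [Group T] {D : TD T} {F : Type u} [Field F] {V : Type w} [AddCommGroup V] [Module F V]
    {P : Type z} [Group P] (S : Sit D F V P)

theorem hom_ext' {C : Type*} [AddCommGroup C] {f g : A4 →+ C} (h : ∀ i, f (Pi.single i 1) = g (Pi.single i 1)) : f = g := by
  rw [← sub_eq_zero]
  apply hom_eq_zero
  intro i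
  rw [AddMonoidHom.sub_apply, h i, sub_self]

noncomputable local instance instFK (K : AddSubgroup A4) : Fintype K := Fintype.ofFinite K

namespace Sit

include S

/-! ### the character -/

theorem om_cube : S.om ^ 3 = 1 := by
  have h := S.om3
  linear_combination (S.om - 1) * h

theorem om_ne_one : S.om ≠ 1 := by
  intro h
  have h1 := S.om3
  rw [h] at h1
  apply S.three
  linear_combination h1

theorem om_ne_zero : S.om ≠ 0 := by
  intro h
  have h1 := S.om_cube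
  rw [h] at h1
  norm_num at h1

/-- the character of `ZMod 3` -/
def ch (j : ZMod 3) : F := S.om ^ j.val

theorem ch_zero : S.ch 0 = 1 := pow_zero _

theorem ch_one : S.ch 1 = S.om := pow_one _

theorem ch_add (i j : ZMod 3) : S.ch (i + j) = S.ch i * S.ch j := by
  have h3 := S.om_cube
  unfold ch
  have key : ∀ i j : ZMod 3, (i + j).val = i.val + j.val ∨ (i + j).val + 3 = i.val + j.val := by decide
  rcases key i j with h | h
  · rw [h, pow_add]
  · rw [← pow_add, ← h, pow_add, h3, mul_one]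

theorem ch_ne_zero (j : ZMod 3) : S.ch j ≠ 0 := pow_ne_zero _ S.om_ne_zero

theorem ch_neg (j : ZMod 3) : S.ch (-j) * S.ch j = 1 := by rw [← ch_add, neg_add_cancel, ch_zero]

theorem ch_cube (j : ZMod 3) : S.ch j ^ 3 = 1 := by
  unfold ch
  rw [← pow_mul, mul_comm, pow_mul, S.om_cube, one_pow]

theorem ch_eq_one {j : ZMod 3} (h : S.ch j = 1) : j = 0 := by
  have key : ∀ j : ZMod 3, j = 0 ∨ j = 1 ∨ j = -1 := by decide
  rcases key j with h1 | h1 | h1
  · exact h1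
  · rw [h1, ch_one] at h
    exact absurd h S.om_ne_one
  · have h2 := S.ch_neg 1
    rw [← h1, h, one_mul, ch_one] at h2
    exact absurd h2 S.om_ne_one

theorem ch_inj {i j : ZMod 3} (h : S.ch i = S.ch j) : i = j := by
  have h1 : S.ch (i - j) = 1 := by
    rw [sub_eq_add_neg, ch_add, h, mul_comm, ch_neg]
  exact sub_eq_zero.1 (S.ch_eq_one h1)

theorem exists_ch {c : F} (hc : c ^ 3 = 1) : ∃ j, c = S.ch j := by
  have h : (c - 1) * ((c - S.om) * (c - S.om ^ 2)) = 0 := by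
    have h3 := S.om3
    have h4 := S.om_cube
    linear_combination hc + (-(c - 1) * c) * h3 + (c - 1) * h4
  rcases mul_eq_zero.1 h with h | h
  · exact ⟨0, by rw [ch_zero]; exact sub_eq_zero.1 h⟩
  · rcases mul_eq_zero.1 h with h | h
    · exact ⟨1, by rw [ch_one]; exact sub_eq_zero.1 h⟩
    · exact ⟨2, sub_eq_zero.1 h⟩

/-- characters of `A4` -/
theorem exists_dot {c : A4 → F} (h0 : c 0 = 1) (hadd : ∀ u u', c (u + u') = c u * c u') :
    ∃ t : A4, ∀ u, c u = S.ch (t ⬝ᵥ u) := by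
  have hcube : ∀ u, c u ^ 3 = 1 := by
    intro u
    rw [pow_succ, pow_two, ← hadd, ← hadd]
    have h : u + u + u = 0 := by
      refine funext fun i => ?_
      have : ∀ a : ZMod 3, a + a + a = 0 := by decide
      exact this (u i)
    rw [h, h0]
  choose t ht using fun i : Fin 4 => S.exists_ch (hcube (Pi.single i 1))
  refine ⟨t, fun u => ?_⟩
  have hs : ∀ (i : Fin 4) (k : ZMod 3), c (Pi.single i k) = S.ch (t i * k) := by
    intro i k
    have : k = 0 ∨ k = 1 ∨ k = 1 + 1 := by revert k; decide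
    rcases this with rfl | rfl | rfl
    · rw [Pi.single_zero, h0, mul_zero, ch_zero]
    · rw [ht, mul_one]
    · rw [Pi.single_add, hadd, ht, mul_add, mul_one, ch_add]
  have hu : u = (Pi.single 0 (u 0) : A4) + (Pi.single 1 (u 1) : A4) + (Pi.single 2 (u 2) : A4) + (Pi.single 3 (u 3) : A4) := by
    conv_lhs => rw [← Finset.univ_sum_single u]
    rw [Fin.sum_univ_four]
  conv_lhs => rw [hu]
  rw [hadd, hadd, hadd, hs, hs, hs, hs, ← ch_add, ← ch_add, ← ch_add]
  congr 1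
  unfold dotProduct
  rw [Fin.sum_univ_four]

/-! ### the action -/

theorem mul_ap (p q : P) (y : V) : S.ρ (p * q) y = S.ρ p (S.ρ q y) := by
  rw [map_mul, Module.End.mul_apply]

theorem one_ap (y : V) : S.ρ 1 y = y := by rw [map_one, Module.End.one_apply]

theorem inv_ap (p : P) (y : V) : S.ρ p⁻¹ (S.ρ p y) = y := by rw [← mul_ap, inv_mul_cancel, one_ap]

theorem ap_inv (p : P) (y : V) : S.ρ p (S.ρ p⁻¹ y) = y := by rw [← mul_ap, mul_inv_cancel, one_ap]

theorem ap_inj (p : P) {y y' : V} (h : S.ρ p y = S.ρ p y') : y = y' := by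
  rw [← S.inv_ap p y, h, inv_ap]

theorem X_zero : S.X 0 = 1 := by
  have h := S.X_add 0 0
  rw [add_zero] at h
  exact mul_eq_left.1 h.symm

theorem X_comm (v w : A4) : S.X v * S.X w = S.X w * S.X v := by rw [← S.X_add, add_comm, S.X_add]

theorem exists_scalar {p q : P} (h : S.π p = S.π q) : ∃ c : F, c ≠ 0 ∧ ∀ y, S.ρ p y = c • S.ρ q y := by
  have h1 : S.π (p * q⁻¹) = 1 := by rw [map_mul, map_inv, h, mul_inv_cancel]
  obtain ⟨c, hc⟩ := (S.ker _).1 h1
  have h2 : ∀ y, S.ρ p y = c • S.ρ q y := by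
    intro y
    have h3 : S.ρ p y = S.ρ (p * q⁻¹) (S.ρ q y) := by rw [← mul_ap, inv_mul_cancel_right]
    rw [h3, hc]; rfl
  by_cases hc0 : c = 0
  · -- then `V` is trivial
    have h4 : ∀ y : V, y = 0 := by
      intro y
      have h5 := h2 (S.ρ p⁻¹ y)
      rwa [ap_inv, hc0, zero_smul] at h5
    exact ⟨1, one_ne_zero, fun y => by rw [h4 (S.ρ p y), h4 (S.ρ q y), smul_zero]⟩
  · exact ⟨c, hc0, h2⟩

/-- weight spaces -/
def W (w : A4) : Submodule F V where
  carrier := {y | ∀ v, S.ρ (S.X v) y = S.ch (w ⬝ᵥ v) • y}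
  add_mem' := by
    intro a b ha hb v
    rw [map_add, ha v, hb v, smul_add]
  zero_mem' := by
    intro v
    rw [map_zero, smul_zero]
  smul_mem' := by
    intro c y hy v
    rw [map_smul, hy v, smul_comm]

theorem W_disj {w w' : A4} {y : V} (h : y ∈ S.W w) (h' : y ∈ S.W w') (hy : y ≠ 0) : w = w' := by
  refine funext fun i => ?_
  have h1 := h (Pi.single i 1)
  rw [h' (Pi.single i 1), dotProduct_single_one, dotProduct_single_one] at h1
  have h2 : (S.ch (w' i) - S.ch (w i)) • y = 0 := by rw [sub_smul, h1, sub_self]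
  rcases smul_eq_zero.1 h2 with h3 | h3
  · exact (S.ch_inj (sub_eq_zero.1 h3)).symm
  · exact absurd h3 hy

/-! ### projections -/

section proj

variable (K : AddSubgroup A4)

/-- the projection -/
noncomputable def pr (w : A4) : V →ₗ[F] V :=
  ((Nat.card K : ℕ) : F)⁻¹ • ∑ k : K, S.ch (-(w ⬝ᵥ (k : A4))) • S.ρ (S.X k)

theorem pr_apply (w : A4) (y : V) :
    S.pr K w y = ((Nat.card K : ℕ) : F)⁻¹ • ∑ k : K, S.ch (-(w ⬝ᵥ (k : A4))) • S.ρ (S.X k) y := by
  unfold pr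
  rw [LinearMap.smul_apply, LinearMap.sum_apply]
  rfl

theorem card_ne : ((Nat.card K : ℕ) : F) ≠ 0 := by
  intro h
  have h1 : Nat.card K ∣ 3 ^ 4 := by
    have h2 := AddSubgroup.card_addSubgroup_dvd_card K
    have h3 : Nat.card A4 = 3 ^ 4 := by
      rw [Nat.card_eq_fintype_card]
      decide +kernel
    rwa [h3] at h2
  obtain ⟨k, hk⟩ := h1
  have h4 : (((3 ^ 4 : ℕ)) : F) = 0 := by
    rw [hk, Nat.cast_mul, h, zero_mul]
  rw [Nat.cast_pow] at h4
  exact S.three (pow_eq_zero_iff (by norm_num) |>.1 h4)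

theorem pr_mem {Y : Submodule F V} (hY : ∀ k ∈ K, ∀ y ∈ Y, S.ρ (S.X k) y ∈ Y) (w : A4) {y : V} (hy : y ∈ Y) :
    S.pr K w y ∈ Y := by
  rw [pr_apply]
  exact Y.smul_mem _ (Y.sum_mem fun k _ => Y.smul_mem _ (hY k k.2 y hy))

theorem pr_of_mem {w w' : A4} {y : V} (hy : y ∈ S.W w') (h : ∀ k ∈ K, w' ⬝ᵥ k = w ⬝ᵥ k) : S.pr K w y = y := by
  rw [pr_apply]
  have h1 : ∀ k : K, S.ch (-(w ⬝ᵥ (k : A4))) • S.ρ (S.X k) y = y := by
    intro k
    rw [hy k, h k k.2, smul_smul, ch_neg, one_smul]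
  rw [Finset.sum_congr rfl fun k _ => h1 k, Finset.sum_const, Finset.card_univ, ← Nat.card_eq_fintype_card,
    ← Nat.cast_smul_eq_nsmul F, smul_smul, inv_mul_cancel₀ (S.card_ne K), one_smul]

theorem sum_ch {f k0 : A4} (hk0 : k0 ∈ K) (h : f ⬝ᵥ k0 ≠ 0) : ∑ k : K, S.ch (f ⬝ᵥ (k : A4)) = 0 := by
  have h1 : ∑ k : K, S.ch (f ⬝ᵥ (k : A4)) = S.ch (f ⬝ᵥ k0) * ∑ k : K, S.ch (f ⬝ᵥ (k : A4)) := by
    rw [Finset.mul_sum]
    refine (Fintype.sum_equiv (Equiv.addRight (⟨k0, hk0⟩ : K)) _ _ fun k => ?_).symm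
    rw [Equiv.coe_addRight, AddSubgroup.coe_add, dotProduct_add, ch_add, mul_comm]
  have h2 : (S.ch (f ⬝ᵥ k0) - 1) * ∑ k : K, S.ch (f ⬝ᵥ (k : A4)) = 0 := by
    rw [sub_mul, one_mul, ← h1, sub_self]
  rcases mul_eq_zero.1 h2 with h3 | h3
  · exact absurd (S.ch_eq_one (sub_eq_zero.1 h3)) h
  · exact h3

theorem pr_of_mem_ne {w w' : A4} {y : V} (hy : y ∈ S.W w') {k0 : A4} (hk0 : k0 ∈ K) (h : w' ⬝ᵥ k0 ≠ w ⬝ᵥ k0) :
    S.pr K w y = 0 := by
  rw [pr_apply]
  have h1 : ∀ k : K, S.ch (-(w ⬝ᵥ (k : A4))) • S.ρ (S.X k) y = S.ch ((w' - w) ⬝ᵥ (k : A4)) • y := by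
    intro k
    rw [hy k, smul_smul, ← ch_add]
    congr 2
    rw [sub_dotProduct]; ring
  rw [Finset.sum_congr rfl fun k _ => h1 k, ← Finset.sum_smul, S.sum_ch K hk0 (by
    rw [sub_dotProduct]; exact sub_ne_zero.2 h), zero_smul, smul_zero]

end proj

/-- the full projection -/
noncomputable abbrev prt (w : A4) : V →ₗ[F] V := S.pr ⊤ w

theorem prt_mem (w : A4) (y : V) : S.prt w y ∈ S.W w := by
  intro v
  rw [prt, pr_apply, map_smul, map_sum, smul_comm]
  congr 1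
  rw [Finset.smul_sum]
  refine Fintype.sum_equiv (Equiv.addRight (⟨v, trivial⟩ : (⊤ : AddSubgroup A4))) _ _ fun k => ?_
  rw [map_smul, ← mul_ap, ← S.X_add, Equiv.coe_addRight, AddSubgroup.coe_add, smul_smul, ← ch_add, add_comm v]
  congr 2
  change _ = w ⬝ᵥ v + -(w ⬝ᵥ ((k : A4) + v))
  rw [dotProduct_add]; ring

theorem prt_self {w : A4} {y : V} (hy : y ∈ S.W w) : S.prt w y = y := S.pr_of_mem ⊤ hy fun _ _ => rfl

theorem prt_ne {w w' : A4} {y : V} (hy : y ∈ S.W w') (h : w' ≠ w) : S.prt w y = 0 := by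
  obtain ⟨i, hi⟩ := Function.ne_iff.1 h
  refine S.pr_of_mem_ne ⊤ hy (k0 := Pi.single i 1) trivial ?_
  rwa [dotProduct_single_one, dotProduct_single_one]

theorem sum_prt (y : V) : ∑ w : A4, S.prt w y = y := by
  simp only [prt, pr_apply]
  rw [← Finset.smul_sum, Finset.sum_comm]
  have h1 : ∀ k : (⊤ : AddSubgroup A4), ∑ w : A4, S.ch (-(w ⬝ᵥ (k : A4))) • S.ρ (S.X k) y =
      if k = 0 then ((Nat.card (⊤ : AddSubgroup A4) : ℕ) : F) • y else 0 := by
    intro k
    rw [← Finset.sum_smul]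
    by_cases hk : k = 0
    · rw [if_pos hk, hk]
      have h2 : ∀ w : A4, S.ch (-(w ⬝ᵥ (((0 : (⊤ : AddSubgroup A4)) : (⊤ : AddSubgroup A4)) : A4))) = 1 := by
        intro w
        rw [AddSubgroup.coe_zero, dotProduct_zero, neg_zero, ch_zero]
      rw [Finset.sum_congr rfl fun w _ => h2 w, Finset.sum_const, Finset.card_univ, AddSubgroup.coe_zero, X_zero,
        one_ap, nsmul_one]
      congr 2
      rw [← Nat.card_eq_fintype_card]
      exact (Nat.card_congr AddSubgroup.topEquiv.toEquiv).symm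
    · rw [if_neg hk]
      have h3 : (k : A4) ≠ 0 := fun h => hk (Subtype.ext h)
      obtain ⟨i, hi⟩ := Function.ne_iff.1 h3
      have h4 : ∑ w : A4, S.ch (-(w ⬝ᵥ (k : A4))) = 0 := by
        have h5 := S.sum_ch ⊤ (f := -(k : A4)) (k0 := Pi.single i 1) trivial (by
          rw [dotProduct_single_one, Pi.neg_apply, neg_ne_zero]; exact hi)
        rw [← h5]
        refine Fintype.sum_equiv AddSubgroup.topEquiv.symm.toEquiv _ _ fun w => ?_
        congr 1
        change -(w ⬝ᵥ (k : A4)) = -(k : A4) ⬝ᵥ w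
        rw [neg_dotProduct, dotProduct_comm]
      rw [h4, zero_smul]
  rw [Finset.sum_congr rfl fun k _ => h1 k, Finset.sum_ite_eq' Finset.univ (0 : (⊤ : AddSubgroup A4)),
    if_pos (Finset.mem_univ _), smul_smul, inv_mul_cancel₀ (S.card_ne ⊤), one_smul]

/-- the dimension is the sum of the dimensions of the weight spaces -/
theorem finrank_eq [FiniteDimensional F V] : finrank F V = ∑ w : A4, finrank F (S.W w) := by
  have e : V ≃ₗ[F] (∀ w : A4, S.W w) := LinearEquiv.ofLinear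
    (LinearMap.pi fun w => (S.prt w).codRestrict (S.W w) (S.prt_mem w))
    (LinearMap.lsum F (fun w => S.W w) F fun w => (S.W w).subtype)
    (by
      refine LinearMap.ext fun f => ?_
      funext w
      apply Subtype.ext
      rw [LinearMap.comp_apply, LinearMap.pi_apply, LinearMap.codRestrict_apply, LinearMap.lsum_apply,
        LinearMap.sum_apply, map_sum, Finset.sum_eq_single w]
      · exact S.prt_self (f w).2
      · intro w' _ hw'
        exact S.prt_ne (f w').2 hw'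
      · intro h; exact absurd (Finset.mem_univ _) h)
    (by
      refine LinearMap.ext fun y => ?_
      rw [LinearMap.comp_apply, LinearMap.lsum_apply, LinearMap.sum_apply]
      exact S.sum_prt y)
  rw [e.finrank_eq, Module.finrank_pi_fintype]

end Sit

end Cfsg.Agent.H918.U43
end

-- part: H918/U43/Rep2
section
/-!
# The action of the parabolic on the weights (helper918)
-/

set_option autoImplicit false
set_option maxRecDepth 20000

namespace Cfsg.Agent.H918.U43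

open Matrix Module Equiv

universe u v w z

/-! ### dual maps -/

/-- the dual map -/
def dl (R : A4 ≃+ A4) (w : A4) : A4 := fun i => w ⬝ᵥ R.symm (Pi.single i 1)

theorem dl_dot (R : A4 ≃+ A4) (w u : A4) : dl R w ⬝ᵥ u = w ⬝ᵥ R.symm u := by
  have h : (AddMonoidHom.mk' (fun u : A4 => dl R w ⬝ᵥ u) fun u u' => dotProduct_add _ _ _) =
      AddMonoidHom.mk' (fun u : A4 => w ⬝ᵥ R.symm u) (fun u u' => by rw [map_add, dotProduct_add]) := by
    apply hom_ext'
    intro i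
    change dl R w ⬝ᵥ Pi.single i 1 = w ⬝ᵥ R.symm (Pi.single i 1)
    rw [dotProduct_single_one]; rfl
  exact DFunLike.congr_fun h u

theorem dl_add (R : A4 ≃+ A4) (w w' : A4) : dl R (w + w') = dl R w + dl R w' := by
  funext i
  exact add_dotProduct _ _ _

/-- the dual map as an equivalence -/
def dlE (R : A4 ≃+ A4) : A4 ≃+ A4 where
  toFun := dl R
  invFun := dl R.symm
  left_inv := by
    intro w
    funext i
    change dl R w ⬝ᵥ R.symm.symm (Pi.single i 1) = w i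
    rw [dl_dot, AddEquiv.symm_symm, AddEquiv.symm_apply_apply, dotProduct_single_one]
  right_inv := by
    intro w
    funext i
    change dl R.symm w ⬝ᵥ R.symm (Pi.single i 1) = w i
    rw [dl_dot, AddEquiv.symm_symm, AddEquiv.apply_symm_apply, dotProduct_single_one]
  map_add' := dl_add R

theorem dlE_dot (R : A4 ≃+ A4) (w u : A4) : dlE R w ⬝ᵥ u = w ⬝ᵥ R.symm u := dl_dot R w u

theorem dlE_dot' (R : A4 ≃+ A4) (w u : A4) : dlE R w ⬝ᵥ R u = w ⬝ᵥ u := by
  rw [dlE_dot, AddEquiv.symm_apply_apply]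

/-- a matrix as an equivalence -/
def mE (A B : Matrix (Fin 4) (Fin 4) (ZMod 3)) (h : A * B = 1) (h' : B * A = 1) : A4 ≃+ A4 where
  toFun v := A *ᵥ v
  invFun v := B *ᵥ v
  left_inv v := by
    change B *ᵥ (A *ᵥ v) = v
    rw [Matrix.mulVec_mulVec, h', Matrix.one_mulVec]
  right_inv v := by
    change A *ᵥ (B *ᵥ v) = v
    rw [Matrix.mulVec_mulVec, h, Matrix.one_mulVec]
  map_add' v w := Matrix.mulVec_add _ _ _

theorem dlE_mE {A B : Matrix (Fin 4) (Fin 4) (ZMod 3)} {h : A * B = 1} {h' : B * A = 1} (w : A4) :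
    dlE (mE A B h h').symm w = w ᵥ* A := by
  funext i
  have h1 := dlE_dot (mE A B h h').symm w (Pi.single i 1)
  rw [dotProduct_single_one] at h1
  rw [h1]
  change w ⬝ᵥ (A *ᵥ Pi.single i 1) = _
  rw [Matrix.dotProduct_mulVec, dotProduct_single_one]

theorem exists_Rm_inv (i : Fin 4) : ∃ B, Rm i * B = 1 ∧ B * Rm i = 1 := by
  fin_cases i
  · exact ⟨RU 2 0, by decide +kernel⟩
  · exact ⟨RU 0 2, by decide +kernel⟩
  · exact ⟨RL 2 0, by decide +kernel⟩
  · exact ⟨RL 0 2, by decide +kernel⟩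

variable {T : Type v} [Group T] {D : TD T}

theorem TD.exists_R (D : TD T) {m : T} (hm : m ∈ Subgroup.closure D.gens) :
    ∃ R : A4 ≃+ A4, ∀ v, m * D.x v * m⁻¹ = D.x (R v) := by
  choose R hR using D.norm m hm
  have hadd : ∀ v v', R (v + v') = R v + R v' := by
    intro v v'
    apply D.x_inj
    rw [D.x_add, ← hR, ← hR, ← hR, D.x_add]
    group
  have hinj : Function.Injective R := by
    intro v v' h
    apply D.x_inj
    have h1 := hR v
    rw [h, ← hR v'] at h1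
    exact mul_left_cancel (mul_right_cancel h1)
  exact ⟨AddEquiv.ofBijective (AddMonoidHom.mk' R hadd) (Finite.injective_iff_bijective.1 hinj), hR⟩

variable {F : Type u} [Field F] {V : Type w} [AddCommGroup V] [Module F V]
    {P : Type z} [Group P] (S : Sit D F V P)

namespace Sit

include S

/-- **The action on weights.** -/
theorem move [Nontrivial V] {p : P} {R : A4 ≃+ A4} (hR : ∀ v, S.π p * D.x v * (S.π p)⁻¹ = D.x (R v)) :
    ∃ t : A4, ∀ w y, y ∈ S.W w ↔ S.ρ p y ∈ S.W (dlE R w + t) := by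
  obtain ⟨y0, hy0⟩ := exists_ne (0 : V)
  have hπ : ∀ u, S.π (p⁻¹ * S.X u * p) = S.π (S.X (R.symm u)) := by
    intro u
    have h1 := hR (R.symm u)
    rw [AddEquiv.apply_symm_apply] at h1
    rw [map_mul, map_mul, map_inv, S.X_pi, S.X_pi, ← h1]
    group
  choose c hc0 hc using fun u => S.exists_scalar (hπ u)
  have hne : ∀ u, S.ρ (S.X (R.symm u)) y0 ≠ 0 := by
    intro u h
    apply hy0
    apply S.ap_inj (S.X (R.symm u))
    rw [h, map_zero]
  have hc1 : c 0 = 1 := by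
    have h1 := hc 0 y0
    rw [map_zero, S.X_zero, mul_one, inv_mul_cancel] at h1
    have h2 : (1 - c 0) • S.ρ 1 y0 = 0 := by rw [sub_smul, ← h1, one_smul, sub_self]
    rcases smul_eq_zero.1 h2 with h3 | h3
    · exact (sub_eq_zero.1 h3).symm
    · rw [S.one_ap] at h3
      exact absurd h3 hy0
  have hcadd : ∀ u u', c (u + u') = c u * c u' := by
    intro u u'
    have h1 := hc (u + u') y0
    have h2 : p⁻¹ * S.X (u + u') * p = (p⁻¹ * S.X u * p) * (p⁻¹ * S.X u' * p) := by rw [S.X_add]; group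
    rw [h2, S.mul_ap, hc, hc, map_smul, ← S.mul_ap, ← S.X_add, ← map_add, smul_smul] at h1
    have h3 : (c (u + u') - c u * c u') • S.ρ (S.X (R.symm (u + u'))) y0 = 0 := by
      rw [sub_smul, ← h1, sub_self]
    rcases smul_eq_zero.1 h3 with h4 | h4
    · exact sub_eq_zero.1 h4
    · exact absurd h4 (hne _)
  obtain ⟨t, ht⟩ := S.exists_dot hc1 hcadd
  refine ⟨t, fun w y => ?_⟩
  have key : ∀ u, S.ρ (S.X u) (S.ρ p y) = S.ch (t ⬝ᵥ u) • S.ρ p (S.ρ (S.X (R.symm u)) y) := by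
    intro u
    have h1 : S.ρ (S.X u) (S.ρ p y) = S.ρ p (S.ρ (p⁻¹ * S.X u * p) y) := by
      rw [← S.mul_ap, ← S.mul_ap]
      congr 2
      group
    rw [h1, hc, map_smul, ht]
  constructor
  · intro hy u
    rw [key, hy, map_smul, smul_smul, ← S.ch_add, add_dotProduct, dlE_dot, add_comm]
  · intro hy v
    have h1 := hy (R v)
    rw [key, AddEquiv.symm_apply_apply, add_dotProduct, dlE_dot', S.ch_add, mul_comm, mul_smul] at h1
    have h2 : S.ch (t ⬝ᵥ R v) • (S.ρ p (S.ρ (S.X v) y) - S.ch (w ⬝ᵥ v) • S.ρ p y) = 0 := by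
      rw [smul_sub, h1, sub_self]
    rcases smul_eq_zero.1 h2 with h3 | h3
    · exact absurd h3 (S.ch_ne_zero _)
    · apply S.ap_inj p
      rw [map_smul]
      exact sub_eq_zero.1 h3

open scoped Classical in
/-- the weights -/
noncomputable def Om : Finset A4 := Finset.univ.filter fun w => S.W w ≠ ⊥

theorem mem_Om {w : A4} : w ∈ S.Om ↔ S.W w ≠ ⊥ := by
  unfold Om
  rw [Finset.mem_filter]
  exact ⟨fun h => h.2, fun h => ⟨Finset.mem_univ _, h⟩⟩

theorem exists_vec (w : {w // w ∈ S.Om}) : ∃ y ∈ S.W w, y ≠ 0 := by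
  obtain ⟨y, hy, hy0⟩ := Submodule.exists_mem_ne_zero_of_ne_bot (S.mem_Om.1 w.2)
  exact ⟨y, hy, hy0⟩

theorem prt_zero {w : A4} (hw : w ∉ S.Om) (y : V) : S.prt w y = 0 := by
  rw [S.mem_Om, not_not] at hw
  have h1 := S.prt_mem w y
  rwa [hw, Submodule.mem_bot] at h1

theorem sum_prt' (y : V) : ∑ w : {w // w ∈ S.Om}, S.prt (w : A4) y = y := by
  conv_rhs => rw [← S.sum_prt y]
  rw [Finset.sum_coe_sort S.Om (fun w => S.prt w y)]
  apply Finset.sum_subset (Finset.subset_univ _)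
  intro w _ hw
  exact S.prt_zero hw y

theorem mem_Om_of_iff {p : P} {w w' : A4} (h : ∀ y, y ∈ S.W w ↔ S.ρ p y ∈ S.W w') : w ∈ S.Om ↔ w' ∈ S.Om := by
  rw [mem_Om, mem_Om]
  constructor
  · intro h1
    obtain ⟨y, hy, hy0⟩ := Submodule.exists_mem_ne_zero_of_ne_bot h1
    intro h2
    have h3 := (h y).1 hy
    rw [h2, Submodule.mem_bot] at h3
    apply hy0
    apply S.ap_inj p
    rw [h3, map_zero]
  · intro h1
    obtain ⟨y, hy, hy0⟩ := Submodule.exists_mem_ne_zero_of_ne_bot h1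
    intro h2
    have h3 := (h (S.ρ p⁻¹ y)).2 (by rwa [S.ap_inv])
    rw [h2, Submodule.mem_bot] at h3
    apply hy0
    rw [← S.ap_inv p y, h3, map_zero]

theorem finrank_of_iff {p : P} {w w' : A4} (h : ∀ y, y ∈ S.W w ↔ S.ρ p y ∈ S.W w') :
    finrank F (S.W w) = finrank F (S.W w') := by
  have e : S.W w ≃ₗ[F] S.W w' := LinearEquiv.ofBijective ((S.ρ p).restrict fun y hy => (h y).1 hy) (by
    constructor
    · intro y y' he
      apply Subtype.ext
      exact S.ap_inj p (congrArg Subtype.val he)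
    · intro y
      refine ⟨⟨S.ρ p⁻¹ y, (h _).2 (by rw [S.ap_inv]; exact y.2)⟩, ?_⟩
      apply Subtype.ext
      exact S.ap_inv p y)
  exact e.finrank_eq

/-- the preimage of `M` -/
def Mh : Subgroup P := (Subgroup.closure D.gens).comap S.π

theorem mem_Mh {p : P} : p ∈ S.Mh ↔ S.π p ∈ Subgroup.closure D.gens := Iff.rfl

/-- a permutation of the weights induced by `p` -/
def Act (p : P) (σ : Perm {w // w ∈ S.Om}) : Prop := ∀ (w : {w // w ∈ S.Om}) (y : V), y ∈ S.W w ↔ S.ρ p y ∈ S.W (σ w)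

omit S in
theorem Act.unique {S : Sit D F V P} {p : P} {σ τ : Perm {w // w ∈ S.Om}} (h : S.Act p σ) (h' : S.Act p τ) : σ = τ := by
  refine Equiv.ext fun w => Subtype.ext ?_
  obtain ⟨y, hy, hy0⟩ := S.exists_vec w
  refine S.W_disj ((h w y).1 hy) ((h' w y).1 hy) fun h0 => hy0 ?_
  apply S.ap_inj p
  rw [h0, map_zero]

omit S in
theorem Act.mul {S : Sit D F V P} {p q : P} {σ τ : Perm {w // w ∈ S.Om}} (h : S.Act p σ) (h' : S.Act q τ) :
    S.Act (p * q) (σ * τ) := by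
  intro w y
  rw [h' w y, h (τ w) _, S.mul_ap, Perm.mul_apply]

theorem Act.one : S.Act 1 1 := by
  intro w y
  rw [S.one_ap, Perm.one_apply]

theorem exists_act [Nontrivial V] {p : P} {R : A4 ≃+ A4} (hR : ∀ v, S.π p * D.x v * (S.π p)⁻¹ = D.x (R v)) :
    ∃ σ, S.Act p σ ∧ Lin σ (dlE R) := by
  obtain ⟨t, ht⟩ := S.move hR
  let e : Perm A4 := (dlE R).toEquiv.trans (Equiv.addRight t)
  have he : ∀ w, e w = dlE R w + t := fun w => rfl
  let σ : Perm {w // w ∈ S.Om} := e.subtypePerm fun w => by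
    rw [he]
    exact (S.mem_Om_of_iff (ht w)).symm
  refine ⟨σ, fun w y => ht w y, fun w w' => ?_⟩
  change (dlE R w' + t) - (dlE R w + t) = dlE R ((w' : A4) - w)
  rw [add_sub_add_right_eq_sub, map_sub]

theorem exists_act' [Nontrivial V] (m : S.Mh) : ∃ σ, S.Act (m : P) σ := by
  obtain ⟨R, hR⟩ := D.exists_R (S.mem_Mh.1 m.2)
  obtain ⟨σ, h, _⟩ := S.exists_act hR
  exact ⟨σ, h⟩

/-- the permutation action -/
noncomputable def act [Nontrivial V] : S.Mh →* Perm {w // w ∈ S.Om} :=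
  MonoidHom.mk' (fun m => (S.exists_act' m).choose) fun m m' =>
    ((S.exists_act' (m * m')).choose_spec).unique ((S.exists_act' m).choose_spec.mul (S.exists_act' m').choose_spec)

theorem act_spec [Nontrivial V] (m : S.Mh) : S.Act (m : P) (S.act m) := (S.exists_act' m).choose_spec

theorem act_lin [Nontrivial V] (m : S.Mh) {R : A4 ≃+ A4}
    (hR : ∀ v, S.π (m : P) * D.x v * (S.π (m : P))⁻¹ = D.x (R v)) : Lin (S.act m) (dlE R) := by
  obtain ⟨σ, h, h'⟩ := S.exists_act hR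
  rw [(S.act_spec m).unique h]
  exact h'

/-! ### the letters -/

theorem exists_al : ∃ al : Fin 4 → P, ∀ i, S.π (al i) = (D.a i)⁻¹ := by
  choose al hal using fun i => S.surj (D.a i)⁻¹
  exact ⟨al, hal⟩

theorem inv_rel {p : P} {t : T} (hp : S.π p = t⁻¹) {A B : Matrix (Fin 4) (Fin 4) (ZMod 3)} (h : A * B = 1)
    (h' : B * A = 1) (ht : ∀ v, t * D.x v * t⁻¹ = D.x (A *ᵥ v)) (v : A4) :
    S.π p * D.x v * (S.π p)⁻¹ = D.x ((mE A B h h').symm v) := by
  have h1 := ht (B *ᵥ v)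
  rw [Matrix.mulVec_mulVec, h, Matrix.one_mulVec] at h1
  rw [hp, inv_inv, ← h1]
  change _ = D.x (B *ᵥ v)
  group

/-- not all of `V` is one weight space -/
theorem not_sub [Nontrivial V] (s : A4) : ¬ S.Om ⊆ {s} := by
  intro h
  have h1 : ∀ y : V, y ∈ S.W s := by
    intro y
    have h2 := S.sum_prt y
    rw [Finset.sum_eq_single s] at h2
    · rw [← h2]
      exact S.prt_mem _ _
    · intro w _ hw
      apply S.prt_zero
      intro hw'
      exact hw (Finset.mem_singleton.1 (h hw'))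
    · intro h; exact absurd (Finset.mem_univ _) h
  have h2 : ∀ v, D.x v = D.x 0 := by
    intro v
    have h3 : ∀ v, S.π (S.X v) = 1 := by
      intro v
      rw [S.ker]
      exact ⟨S.ch (s ⬝ᵥ v), LinearMap.ext fun y => h1 y v⟩
    rw [← S.X_pi, ← S.X_pi, h3, h3]
  have h3 := D.x_inj (h2 (Pi.single 0 1))
  have h4 := congrFun h3 0
  rw [Pi.single_eq_same] at h4
  exact absurd h4 (by decide)

/-- **The weights and their multiplicities.** -/
theorem hex [Nontrivial V] [FiniteDimensional F V] (hn : finrank F V ≤ 12) :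
    ∃ c, Hex S.Om c ∧ ∃ μ, (μ = 1 ∨ μ = 2) ∧ (∀ w ∈ S.Om, finrank F (S.W w) = μ) ∧ finrank F V = 6 * μ := by
  classical
  obtain ⟨al, hal⟩ := S.exists_al
  have hmv : ∀ i, ∃ t : A4, ∀ w y, y ∈ S.W w ↔ S.ρ (al i) y ∈ S.W (w ᵥ* Rm i + t) := by
    intro i
    obtain ⟨B, h, h'⟩ := exists_Rm_inv i
    obtain ⟨t, ht⟩ := S.move (S.inv_rel (hal i) h h' (D.act_a i))
    refine ⟨t, fun w y => ?_⟩
    rw [ht w y, dlE_mE]
  choose t ht using hmv
  have hinv : ∀ i w, w ∈ S.Om → Ph t i w ∈ S.Om := fun i w hw => (S.mem_Om_of_iff (ht i w)).1 hw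
  have hpos : ∀ w ∈ S.Om, 1 ≤ finrank F (S.W w) := by
    intro w hw
    rw [Nat.one_le_iff_ne_zero]
    intro h
    exact S.mem_Om.1 hw (Submodule.finrank_eq_zero.1 h)
  have hsum : finrank F V = ∑ w ∈ S.Om, finrank F (S.W w) := by
    rw [S.finrank_eq]
    symm
    apply Finset.sum_subset (Finset.subset_univ _)
    intro w _ hw
    rw [S.mem_Om, not_not] at hw
    rw [hw, finrank_bot]
  have hle : S.Om.card ≤ 12 := by
    calc S.Om.card = ∑ w ∈ S.Om, 1 := by rw [Finset.card_eq_sum_ones]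
      _ ≤ ∑ w ∈ S.Om, finrank F (S.W w) := Finset.sum_le_sum hpos
      _ ≤ 12 := by rw [← hsum]; exact hn
  rcases shape (t := t) hinv hle with ⟨s, hs⟩ | ⟨h6, c, hc, hnd⟩
  · exact absurd hs (S.not_sub s)
  have hne : S.Om.Nonempty := Finset.card_pos.1 (by rw [h6]; norm_num)
  obtain ⟨w0, hw0⟩ := hne
  set μ := finrank F (S.W w0) with hμ
  -- level set
  have hL : ∀ i, ∀ w ∈ S.Om.filter (fun w => finrank F (S.W w) = μ), Ph t i w ∈ S.Om.filter (fun w => finrank F (S.W w) = μ) := by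
    intro i w hw
    rw [Finset.mem_filter] at hw ⊢
    exact ⟨hinv i w hw.1, by rw [← hw.2]; exact (S.finrank_of_iff (ht i w)).symm⟩
  have hw0L : w0 ∈ S.Om.filter (fun w => finrank F (S.W w) = μ) := Finset.mem_filter.2 ⟨hw0, hμ.symm⟩
  have hLc : (S.Om.filter (fun w => finrank F (S.W w) = μ)).card ≤ 12 := (Finset.card_filter_le _ _).trans hle
  have hLeq : S.Om.filter (fun w => finrank F (S.W w) = μ) = S.Om := by
    rcases shape (t := t) hL hLc with ⟨s, hs⟩ | ⟨h6', _⟩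
    · exfalso
      have hs0 : s = w0 := (Finset.mem_singleton.1 (hs hw0L)).symm
      have hfix : ∀ i, Ph t i s = s := by
        intro i
        rw [hs0]
        have h1 := hs (hL i w0 hw0L)
        rw [Finset.mem_singleton] at h1
        rw [h1, hs0]
      exact S.not_sub s (sub_of_fixed hinv hle hfix)
    · exact Finset.eq_of_subset_of_card_le (Finset.filter_subset _ _) (by rw [h6, h6'])
  have hall : ∀ w ∈ S.Om, finrank F (S.W w) = μ := by
    intro w hw
    rw [← hLeq, Finset.mem_filter] at hw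
    exact hw.2
  have hn6 : finrank F V = 6 * μ := by
    rw [hsum, Finset.sum_congr rfl hall, Finset.sum_const, h6, smul_eq_mul]
  have hμ1 := hpos w0 hw0
  refine ⟨c, ⟨h6, hc, hnd⟩, μ, ?_, hall, hn6⟩
  omega

end Sit

end Cfsg.Agent.H918.U43
end

-- part: H918/U43/Rep3
section
/-!
# The group induced on the six weights (helper918)
-/

set_option autoImplicit false
set_option maxRecDepth 20000

namespace Cfsg.Agent.H918.U43

open Matrix Module Equiv
open scoped commutatorElement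

universe u v w z

/-! ### point stabilisers in the alternating group -/

section alt

variable {Ω : Type} [Fintype Ω] [DecidableEq Ω]

theorem exists_ofSubtype {w0 : Ω} {σ : Perm Ω} (hs : Perm.sign σ = 1) (h0 : σ w0 = w0) :
    ∃ σ' : Perm {w // w ≠ w0}, σ' ∈ alternatingGroup {w // w ≠ w0} ∧ Perm.ofSubtype σ' = σ := by
  have h1 : ∀ x, σ x ≠ w0 ↔ x ≠ w0 := by
    intro x
    rw [not_iff_not]
    constructor
    · intro h
      apply σ.injective
      rw [h, h0]
    · intro h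
      rw [h, h0]
  have h2 : ∀ x, σ x ≠ x → x ≠ w0 := by
    intro x hx h
    apply hx
    rw [h, h0]
  refine ⟨σ.subtypePerm h1, ?_, Perm.ofSubtype_subtypePerm h1 h2⟩
  rw [Perm.mem_alternatingGroup, Perm.sign_subtypePerm σ h1 h2, hs]

theorem ofSubtype_fix {w0 : Ω} (σ' : Perm {w // w ≠ w0}) : (Perm.ofSubtype σ' : Perm Ω) w0 = w0 :=
  Perm.ofSubtype_apply_of_not_mem σ' (fun h => h rfl)

/-- generation by three-cycles -/
theorem mem_of_three {w0 : Ω} {H : Subgroup (Perm Ω)} (hH : ∀ τ : Perm Ω, τ.IsThreeCycle → τ w0 = w0 → τ ∈ H)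
    {σ : Perm Ω} (hs : Perm.sign σ = 1) (h0 : σ w0 = w0) : σ ∈ H := by
  obtain ⟨σ', h1, rfl⟩ := exists_ofSubtype hs h0
  rw [← Perm.closure_three_cycles_eq_alternating] at h1
  have h2 : Subgroup.closure {σ : Perm {w // w ≠ w0} | Perm.IsThreeCycle σ} ≤ H.comap Perm.ofSubtype := by
    rw [Subgroup.closure_le]
    intro τ hτ
    refine hH _ ?_ (ofSubtype_fix τ)
    unfold Perm.IsThreeCycle at *
    rw [Perm.cycleType_ofSubtype]
    exact hτ
  exact h2 h1

/-- generation by commutators -/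
theorem mem_of_comm (h6 : Fintype.card Ω = 6) {w0 : Ω} {H : Subgroup (Perm Ω)}
    (hH : ∀ σ τ : Perm Ω, Perm.sign σ = 1 → Perm.sign τ = 1 → σ w0 = w0 → τ w0 = w0 → ⁅σ, τ⁆ ∈ H)
    {σ : Perm Ω} (hs : Perm.sign σ = 1) (h0 : σ w0 = w0) : σ ∈ H := by
  obtain ⟨σ', h1, rfl⟩ := exists_ofSubtype hs h0
  have hc : 5 ≤ Nat.card {w // w ≠ w0} := by
    rw [Nat.card_eq_fintype_card]
    have : Fintype.card {w // w ≠ w0} = 5 := by
      rw [Fintype.card_subtype_compl, h6, Fintype.card_subtype_eq]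
    omega
  rw [← commutator_alternatingGroup_eq_self hc] at h1
  have h2 : ⁅alternatingGroup {w // w ≠ w0}, alternatingGroup {w // w ≠ w0}⁆ ≤ H.comap Perm.ofSubtype := by
    rw [Subgroup.commutator_le]
    intro a ha b hb
    rw [Subgroup.mem_comap, map_commutatorElement]
    rw [Perm.mem_alternatingGroup] at ha hb
    exact hH _ _ (by rw [Perm.sign_ofSubtype, ha]) (by rw [Perm.sign_ofSubtype, hb]) (ofSubtype_fix a) (ofSubtype_fix b)
  exact h2 h1

end alt

variable {T : Type v} [Group T] {D : TD T} {F : Type u} [Field F] {V : Type w} [AddCommGroup V] [Module F V]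
    {P : Type z} [Group P] (S : Sit D F V P)

namespace Sit

include S

theorem scalar_mem {z : P} (hz : S.π z = 1) : z ∈ S.Mh := by
  rw [mem_Mh, hz]
  exact Subgroup.one_mem _

/-- elements acting trivially -/
theorem act_of_x [Nontrivial V] {m : S.Mh} {v : A4} (h : S.π (m : P) = D.x v) : S.act m = 1 := by
  refine (S.act_spec m).unique ?_
  rw [← S.X_pi] at h
  obtain ⟨c, hc0, hc⟩ := S.exists_scalar h
  intro w y
  rw [hc, Perm.one_apply]
  constructor
  · intro hy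
    rw [hy v]
    exact Submodule.smul_mem _ _ (Submodule.smul_mem _ _ hy)
  · intro hy
    rw [Submodule.smul_mem_iff _ hc0] at hy
    intro u
    have h1 := hy u
    rw [← S.mul_ap, S.X_comm, S.mul_ap, ← map_smul] at h1
    exact S.ap_inj _ h1

theorem act_of_one [Nontrivial V] {m : S.Mh} (h : S.π (m : P) = 1) : S.act m = 1 := by
  apply S.act_of_x (v := 0)
  rw [h, ← S.X_pi, S.X_zero, map_one]

theorem act_of_cent [Nontrivial V] {m : S.Mh} (h : ∀ v, S.π (m : P) * D.x v * (S.π (m : P))⁻¹ = D.x v) :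
    S.act m = 1 := by
  obtain ⟨v, hv⟩ := D.cent _ m.2 h
  exact S.act_of_x hv

theorem act_congr [Nontrivial V] {m m' : S.Mh} (h : S.π (m : P) = S.π (m' : P)) : S.act m = S.act m' := by
  have h1 : S.act (m * m'⁻¹) = 1 := by
    apply S.act_of_one
    rw [Subgroup.coe_mul, Subgroup.coe_inv, map_mul, map_inv, h, mul_inv_cancel]
  rw [map_mul, map_inv, mul_inv_eq_one] at h1
  exact h1

/-- the kernel -/
theorem ker_act [Nontrivial V] {c : ZMod 3} (H : Hex S.Om c) {m : S.Mh} (h : S.act m = 1) :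
    ∃ v, S.π (m : P) = D.x v := by
  obtain ⟨R, hR⟩ := D.exists_R (S.mem_Mh.1 m.2)
  have h1 := S.act_lin m hR
  rw [h] at h1
  have h2 := H.eq_of_lin (R := R) h1 fun f v => dlE_dot' R f v
  refine D.cent _ m.2 fun v => ?_
  rw [hR, h2]

theorem ker_scalar [Nontrivial V] {c : ZMod 3} (H : Hex S.Om c) {m : S.Mh} (h : S.act m = 1) (w : A4) :
    ∃ a : F, ∀ y ∈ S.W w, S.ρ (m : P) y = a • y := by
  obtain ⟨v, hv⟩ := S.ker_act H h
  rw [← S.X_pi] at hv
  obtain ⟨c, hc0, hc⟩ := S.exists_scalar hv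
  refine ⟨c * S.ch (w ⬝ᵥ v), fun y hy => ?_⟩
  rw [hc, hy v, smul_smul]

/-- even permutations -/
theorem sign_act [Nontrivial V] (m : S.Mh) : Perm.sign (S.act m) = 1 := by
  have key : ∀ t ∈ Subgroup.closure D.gens, ∀ m : S.Mh, S.π (m : P) = t → Perm.sign (S.act m) = 1 := by
    intro t ht
    induction ht using Subgroup.closure_induction with
    | mem s hs =>
      intro m hm
      have h1 : S.act m ^ 3 = 1 := by
        rw [← map_pow]
        apply S.act_of_one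
        rw [Subgroup.coe_pow, map_pow, hm, D.gens_pow s hs]
      have h2 : Perm.sign (S.act m) ^ 3 = 1 := by rw [← map_pow, h1, map_one]
      rcases Int.units_eq_one_or (Perm.sign (S.act m)) with h | h
      · exact h
      · rw [h] at h2
        exact absurd h2 (by decide)
    | one =>
      intro m hm
      rw [S.act_of_one hm, map_one]
    | mul s t hs ht ihs iht =>
      intro m hm
      obtain ⟨a, ha⟩ := S.surj s
      obtain ⟨b, hb⟩ := S.surj t
      have ha' : a ∈ S.Mh := by rw [mem_Mh, ha]; exact hs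
      have hb' : b ∈ S.Mh := by rw [mem_Mh, hb]; exact ht
      have h1 : S.act m = S.act (⟨a, ha'⟩ * ⟨b, hb'⟩) := by
        apply S.act_congr
        rw [hm, Subgroup.coe_mul, map_mul, ha, hb]
      rw [h1, map_mul, map_mul, ihs ⟨a, ha'⟩ ha, iht ⟨b, hb'⟩ hb, mul_one]
    | inv s hs ihs =>
      intro m hm
      have h1 := ihs m⁻¹ (by rw [Subgroup.coe_inv, map_inv, hm, inv_inv])
      rw [map_inv, map_inv, inv_eq_one] at h1
      exact h1
  exact key _ m.2 m rfl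

theorem act_mem_range [Nontrivial V] {σ : Perm {w // w ∈ S.Om}} (hσ : σ ∈ S.act.range) :
    ∃ ρ : A4 ≃+ A4, Lin σ ρ := by
  obtain ⟨m, rfl⟩ := hσ
  obtain ⟨R, hR⟩ := D.exists_R (S.mem_Mh.1 m.2)
  exact ⟨_, S.act_lin m hR⟩

/-- the letters -/
theorem exists_al' : ∃ al : Fin 4 → S.Mh, ∀ i, S.π (al i : P) = (D.a i)⁻¹ := by
  obtain ⟨al, hal⟩ := S.exists_al
  exact ⟨fun i => ⟨al i, by rw [mem_Mh, hal]; exact Subgroup.inv_mem _ (D.a_mem i)⟩, hal⟩

theorem exists_be : ∃ be : S.Mh, S.π (be : P) = D.h⁻¹ := by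
  obtain ⟨be, hbe⟩ := S.surj D.h⁻¹
  exact ⟨⟨be, by rw [mem_Mh, hbe]; exact Subgroup.inv_mem _ D.h_mem⟩, hbe⟩

theorem lin_al [Nontrivial V] {m : S.Mh} {i : Fin 4} (h : S.π (m : P) = (D.a i)⁻¹) :
    Lin (S.act m) fun f => f ᵥ* Rm i := by
  obtain ⟨B, h1, h2⟩ := exists_Rm_inv i
  have h3 := S.act_lin m (S.inv_rel h h1 h2 (D.act_a i))
  intro w w'
  rw [h3, dlE_mE]

theorem lin_be [Nontrivial V] {m : S.Mh} (h : S.π (m : P) = D.h⁻¹) :
    Lin (S.act m) fun f => f ᵥ* RH := by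
  have h1 : RH * (RH * RH * RH) = 1 := by decide +kernel
  have h2 : (RH * RH * RH) * RH = 1 := by decide +kernel
  have h3 := S.act_lin m (S.inv_rel h h1 h2 D.act_h)
  intro w w'
  rw [h3, dlE_mE]

theorem pow_act [Nontrivial V] {m : S.Mh} {t : T} (h : S.π (m : P) = t⁻¹) {A : Matrix (Fin 4) (Fin 4) (ZMod 3)}
    (ht : ∀ v, t * D.x v * t⁻¹ = D.x (A *ᵥ v)) {k : ℕ} (hA : A ^ k = 1) : S.act m ^ k = 1 := by
  have h1 : ∀ (j : ℕ) (v : A4), t ^ j * D.x v * (t ^ j)⁻¹ = D.x ((A ^ j) *ᵥ v) := by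
    intro j
    induction j with
    | zero =>
      intro v
      rw [pow_zero, pow_zero, Matrix.one_mulVec]; group
    | succ j ih =>
      intro v
      have e : t ^ (j + 1) * D.x v * (t ^ (j + 1))⁻¹ = t ^ j * (t * D.x v * t⁻¹) * (t ^ j)⁻¹ := by
        rw [pow_succ]; group
      rw [e, ht, ih, Matrix.mulVec_mulVec, pow_succ]
  rw [← map_pow]
  apply S.act_of_cent
  intro v
  have h2 := h1 k v
  rw [hA, Matrix.one_mulVec] at h2
  rw [Subgroup.coe_pow, map_pow, h, inv_pow, inv_inv]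
  nth_rw 1 [← h2]
  group

section hexa

variable [Nontrivial V] {c : ZMod 3} (H : Hex S.Om c)

include H

theorem alt_le_range : alternatingGroup {w // w ∈ S.Om} ≤ S.act.range := by
  obtain ⟨al, hal⟩ := S.exists_al'
  exact H.alt_le (al := fun i => S.act (al i)) (fun σ hσ => S.act_mem_range hσ) (fun i => ⟨al i, rfl⟩)
    (fun i => S.lin_al (hal i))

theorem exists_act_eq {σ : Perm {w // w ∈ S.Om}} (hσ : Perm.sign σ = 1) : ∃ m, S.act m = σ :=
  S.alt_le_range H (by rwa [Perm.mem_alternatingGroup])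

/-- induction over a point stabiliser, three-cycles -/
theorem stab_three {w0 : {w // w ∈ S.Om}} {Q : Subgroup S.Mh} (hker : ∀ m, S.act m = 1 → m ∈ Q)
    (h3 : ∀ τ : Perm {w // w ∈ S.Om}, τ.IsThreeCycle → τ w0 = w0 → ∃ m ∈ Q, S.act m = τ) {m : S.Mh}
    (hm : S.act m w0 = w0) : m ∈ Q := by
  have h1 : S.act m ∈ Q.map S.act := mem_of_three (w0 := w0) (fun τ hτ hτ0 => by
    obtain ⟨m', hm', he⟩ := h3 τ hτ hτ0
    exact ⟨m', hm', he⟩) (S.sign_act m) hm
  obtain ⟨m', hm', he⟩ := h1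
  have h2 : m * m'⁻¹ ∈ Q := hker _ (by rw [map_mul, map_inv, he, mul_inv_cancel])
  have h3 := Q.mul_mem h2 hm'
  rwa [inv_mul_cancel_right] at h3

/-- induction over a point stabiliser, commutators -/
theorem stab_comm {w0 : {w // w ∈ S.Om}} {Q : Subgroup S.Mh} (hker : ∀ m, S.act m = 1 → m ∈ Q)
    (h3 : ∀ m m' : S.Mh, S.act m w0 = w0 → S.act m' w0 = w0 → ⁅m, m'⁆ ∈ Q) {m : S.Mh}
    (hm : S.act m w0 = w0) : m ∈ Q := by
  have h1 : S.act m ∈ Q.map S.act := mem_of_comm H.fcard (w0 := w0) (fun σ τ hσ hτ hσ0 hτ0 => by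
    obtain ⟨a, rfl⟩ := S.exists_act_eq H hσ
    obtain ⟨b, rfl⟩ := S.exists_act_eq H hτ
    exact ⟨_, h3 a b hσ0 hτ0, map_commutatorElement _ _ _⟩) (S.sign_act m) hm
  obtain ⟨m', hm', he⟩ := h1
  have h2 : m * m'⁻¹ ∈ Q := hker _ (by rw [map_mul, map_inv, he, mul_inv_cancel])
  have h3 := Q.mul_mem h2 hm'
  rwa [inv_mul_cancel_right] at h3

/-- transitivity -/
theorem act_trans (a b : {w // w ∈ S.Om}) : ∃ m, S.act m a = b := by
  by_cases hab : a = b
  · exact ⟨1, by rw [map_one, hab]; rfl⟩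
  · obtain ⟨al, hal⟩ := S.exists_al'
    obtain ⟨σ, ⟨m, rfl⟩, h1, _⟩ := H.two_trans (G := S.act.range) (al := fun i => S.act (al i))
      (fun σ hσ => S.act_mem_range hσ) (fun i => ⟨al i, rfl⟩) (fun i => S.lin_al (hal i)) hab (Ne.symm hab)
    exact ⟨m, h1⟩

end hexa

/-- the subgroup `D`: elements of `M` moved into `M` by `g` -/
def Dh : Subgroup S.Mh where
  carrier := {m | D.g⁻¹ * S.π (m : P) * D.g ∈ Subgroup.closure D.gens}
  mul_mem' := by
    intro a b ha hb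
    have h : D.g⁻¹ * S.π ((a * b : S.Mh) : P) * D.g = (D.g⁻¹ * S.π (a : P) * D.g) * (D.g⁻¹ * S.π (b : P) * D.g) := by
      rw [Subgroup.coe_mul, map_mul]; group
    rw [Set.mem_setOf_eq, h]
    exact Subgroup.mul_mem _ ha hb
  one_mem' := by
    rw [Set.mem_setOf_eq, Subgroup.coe_one, map_one, mul_one, inv_mul_cancel]
    exact Subgroup.one_mem _
  inv_mem' := by
    intro a ha
    have h : D.g⁻¹ * S.π ((a⁻¹ : S.Mh) : P) * D.g = (D.g⁻¹ * S.π (a : P) * D.g)⁻¹ := by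
      rw [Subgroup.coe_inv, map_inv]; group
    rw [Set.mem_setOf_eq, h]
    exact Subgroup.inv_mem _ ha

theorem mem_Dh {m : S.Mh} : m ∈ S.Dh ↔ D.g⁻¹ * S.π (m : P) * D.g ∈ Subgroup.closure D.gens := Iff.rfl

/-- `D` is transitive on the weights -/
theorem Dh_trans [Nontrivial V] {c : ZMod 3} (H : Hex S.Om c) (a b : {w // w ∈ S.Om}) :
    ∃ m ∈ S.Dh, S.act m a = b := by
  obtain ⟨al, hal⟩ := S.exists_al'
  obtain ⟨be, hbe⟩ := S.exists_be
  have hbeD : be ∈ S.Dh := by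
    rw [mem_Dh, hbe]
    have h := Subgroup.inv_mem _ D.gh
    have e : D.g⁻¹ * D.h⁻¹ * D.g = (D.g⁻¹ * D.h * D.g)⁻¹ := by group
    rwa [e]
  have hal0 : al 0 ∈ S.Dh := by
    rw [mem_Dh, hal]
    have h : D.g⁻¹ * (D.a 0)⁻¹ * D.g = (D.g⁻¹ * D.a 0 * D.g)⁻¹ := by group
    rw [h, D.ga0]
    exact Subgroup.inv_mem _ (D.x_mem _)
  have hal1 : al 1 ∈ S.Dh := by
    rw [mem_Dh, hal]
    have h : D.g⁻¹ * (D.a 1)⁻¹ * D.g = (D.g⁻¹ * D.a 1 * D.g)⁻¹ := by group
    rw [h, D.ga1]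
    exact Subgroup.inv_mem _ (D.x_mem _)
  have h4 : S.act be ^ 4 = 1 := S.pow_act hbe D.act_h (by decide +kernel)
  have h03 : S.act (al 0) ^ 3 = 1 := S.pow_act (hal 0) (D.act_a 0) (by decide +kernel)
  have h13 : (S.act (al 1) * S.act (al 0)) ^ 3 = 1 := by
    rw [← map_mul]
    refine S.pow_act (t := D.a 0 * D.a 1) (A := Rm 0 * Rm 1) ?_ ?_ (by decide +kernel)
    · rw [Subgroup.coe_mul, map_mul, hal, hal, _root_.mul_inv_rev]
    · intro v
      have e : D.a 0 * D.a 1 * D.x v * (D.a 0 * D.a 1)⁻¹ = D.a 0 * (D.a 1 * D.x v * (D.a 1)⁻¹) * (D.a 0)⁻¹ := by group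
      rw [e, D.act_a, D.act_a, Matrix.mulVec_mulVec]
  obtain ⟨σ, ⟨m, hm, rfl⟩, h⟩ := H.trans_D (K := S.Dh.map S.act) ⟨be, hbeD, rfl⟩ ⟨al 0, hal0, rfl⟩ ⟨al 1, hal1, rfl⟩
    (S.lin_be hbe) (S.lin_al (hal 0)) (S.lin_al (hal 1)) h4 h03 h13 a b
  exact ⟨m, hm, h⟩

theorem X_mem (v : A4) : S.X v ∈ S.Mh := by
  rw [mem_Mh, S.X_pi]
  exact D.x_mem v

theorem X_mem_Dh {v : A4} (hv : v 3 = 0) : (⟨S.X v, S.X_mem v⟩ : S.Mh) ∈ S.Dh := by
  rw [mem_Dh, S.X_pi]
  exact D.gx v hv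

/-- an element inducing a three-cycle, conjugate to an element of the radical -/
theorem exists_tau [Nontrivial V] {c : ZMod 3} (H : Hex S.Om c) :
    ∃ m : S.Mh, (S.act m).IsThreeCycle ∧ D.g⁻¹ * S.π (m : P) * D.g = D.x (-vc c) := by
  obtain ⟨al, hal⟩ := S.exists_al'
  have hneg : ∀ v, D.x (-v) = (D.x v)⁻¹ := by
    intro v
    rw [eq_inv_iff_mul_eq_one, ← D.x_add, neg_add_cancel, ← S.X_pi, S.X_zero, map_one]
  rcases H.exists_three (G := S.act.range) (al := fun i => S.act (al i)) (fun i => ⟨al i, rfl⟩)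
    (fun i => S.lin_al (hal i)) with ⟨hc, h⟩ | ⟨hc, h⟩
  · refine ⟨al 0, h, ?_⟩
    rw [hal, hneg, hc, vc, if_pos rfl, ← D.ga0]
    group
  · refine ⟨al 1 * al 0, by rw [map_mul]; exact h, ?_⟩
    rw [Subgroup.coe_mul, map_mul, hal, hal, hneg, hc, vc, if_neg (by decide)]
    have e : (![0, 1, 1, 0] : A4) = ![0, 1, 0, 0] + ![0, 0, 1, 0] := by decide
    rw [e, D.x_add, ← D.ga0, ← D.ga1]
    group

end Sit

end Cfsg.Agent.H918.U43
end

-- part: H918/U43/Rep4
section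
/-!
# Submodules for the parabolic (helper918)

If the stabilisers of the weights act by scalars on the weight spaces, then the parabolic is irreducible.
-/

set_option autoImplicit false
set_option maxRecDepth 20000

namespace Cfsg.Agent.H918.U43

open Matrix Module Equiv
open scoped commutatorElement

universe u v w z

variable {T : Type v} [Group T] {D : TD T} {F : Type u} [Field F] {V : Type w} [AddCommGroup V] [Module F V]
    {P : Type z} [Group P] (S : Sit D F V P)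

/-- the hyperplane -/
def K3 : AddSubgroup A4 where
  carrier := {v | v 3 = 0}
  add_mem' := by
    intro a b (ha : a 3 = 0) (hb : b 3 = 0)
    change a 3 + b 3 = 0
    rw [ha, hb, add_zero]
  zero_mem' := rfl
  neg_mem' := by
    intro a (ha : a 3 = 0)
    change -(a 3) = 0
    rw [ha, neg_zero]

theorem mem_K3 {v : A4} : v ∈ K3 ↔ v 3 = 0 := Iff.rfl

namespace Sit

include S

/-- stabilisers act by scalars -/
def Scal [Nontrivial V] : Prop :=
  ∀ (w : {w // w ∈ S.Om}) (m : S.Mh), S.act m w = w → ∃ a : F, ∀ y ∈ S.W w, S.ρ (m : P) y = a • y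

/-- invariance under the parabolic -/
def Inv (Y : Submodule F V) : Prop := ∀ (m : S.Mh), ∀ y ∈ Y, S.ρ (m : P) y ∈ Y

theorem pr_K3 {c : ZMod 3} (H : Hex S.Om c) (w : {w // w ∈ S.Om}) (y : V) : S.pr K3 (w : A4) y = S.prt (w : A4) y := by
  conv_lhs => rw [← S.sum_prt' y]
  rw [map_sum, Finset.sum_eq_single w]
  · exact S.pr_of_mem K3 (S.prt_mem _ _) fun _ _ => rfl
  · intro w' _ hw'
    by_contra hne
    apply hw'
    apply Subtype.ext
    refine H.separated w'.2 w.2 fun v hv => ?_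
    by_contra h
    exact hne (S.pr_of_mem_ne K3 (S.prt_mem _ _) (mem_K3.2 hv) h)
  · intro h; exact absurd (Finset.mem_univ _) h

/-- a submodule invariant under `D` is invariant under the parabolic -/
theorem inv_of_Dh [Nontrivial V] {c : ZMod 3} (H : Hex S.Om c) (hS : S.Scal) {Y : Submodule F V}
    (hY : ∀ m ∈ S.Dh, ∀ y ∈ Y, S.ρ (m : P) y ∈ Y) : S.Inv Y := by
  intro m y hy
  rw [← S.sum_prt' y, map_sum]
  refine Y.sum_mem fun w _ => ?_
  have h1 : S.prt (w : A4) y ∈ Y := by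
    rw [← S.pr_K3 H]
    exact S.pr_mem K3 (fun k hk y hy => hY ⟨S.X k, S.X_mem k⟩ (S.X_mem_Dh hk) y hy) _ hy
  obtain ⟨d, hd, he⟩ := S.Dh_trans H w (S.act m w)
  obtain ⟨a, ha⟩ := hS w (d⁻¹ * m) (by
    rw [map_mul, map_inv, Perm.mul_apply, ← he, invap])
  have h2 : S.ρ (m : P) (S.prt (w : A4) y) = a • S.ρ (d : P) (S.prt (w : A4) y) := by
    rw [← map_smul, ← ha _ (S.prt_mem _ _), ← S.mul_ap, ← Subgroup.coe_mul, mul_inv_cancel_left]
  rw [h2]
  exact Y.smul_mem _ (hY d hd _ h1)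

/-- elements permuting the invariant submodules -/
def Gd [Finite P] : Subgroup P where
  carrier := {p | ∀ Y, S.Inv Y → S.Inv (Y.map (S.ρ p))}
  mul_mem' := by
    intro a b ha hb Y hY
    rw [map_mul, Module.End.mul_eq_comp, Submodule.map_comp]
    exact ha _ (hb _ hY)
  one_mem' := by
    intro Y hY
    rw [map_one, Module.End.one_eq_id, Submodule.map_id]
    exact hY
  inv_mem' := by
    intro a ha
    have h1 : ∀ k : ℕ, ∀ Y, S.Inv Y → S.Inv (Y.map (S.ρ (a ^ k))) := by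
      intro k
      induction k with
      | zero =>
        intro Y hY
        rw [pow_zero, map_one, Module.End.one_eq_id, Submodule.map_id]
        exact hY
      | succ k ih =>
        intro Y hY
        rw [pow_succ, map_mul, Module.End.mul_eq_comp, Submodule.map_comp]
        exact ih _ (ha _ hY)
    have h2 : a⁻¹ = a ^ (orderOf a - 1) := by
      rw [inv_eq_iff_mul_eq_one, ← pow_succ']
      have := orderOf_pos a
      rw [Nat.sub_add_cancel this, pow_orderOf_eq_one]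
    intro Y hY
    rw [h2]
    exact h1 _ Y hY

theorem Gd_Mh [Finite P] : S.Mh ≤ S.Gd := by
  intro p hp Y hY m y hy
  obtain ⟨y', hy', rfl⟩ := hy
  refine ⟨S.ρ (p⁻¹ * (m : P) * p) y', hY ⟨_, S.Mh.mul_mem (S.Mh.mul_mem (S.Mh.inv_mem hp) m.2) hp⟩ _ hy', ?_⟩
  rw [← S.mul_ap, ← S.mul_ap]
  congr 2
  group

theorem eq_top_of [Finite P] {N : Subgroup P} (h1 : S.Mh ≤ N) (h2 : ∃ g ∈ N, S.π g = D.g) : N = ⊤ := by
  obtain ⟨g, hg, hg'⟩ := h2
  have h3 : N.map S.π = ⊤ := by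
    rw [eq_top_iff, ← D.top, Subgroup.closure_le]
    rintro t (ht | ht)
    · obtain ⟨p, rfl⟩ := S.surj t
      exact ⟨p, h1 ht, rfl⟩
    · rw [Set.mem_singleton_iff] at ht
      exact ⟨g, hg, by rw [hg', ht]⟩
  rw [eq_top_iff]
  intro p _
  have h4 : S.π p ∈ N.map S.π := by rw [h3]; trivial
  obtain ⟨q, hq, he⟩ := h4
  have h5 : p * q⁻¹ ∈ N := h1 (S.scalar_mem (by rw [map_mul, map_inv, he, mul_inv_cancel]))
  have h6 := N.mul_mem h5 hq
  rwa [inv_mul_cancel_right] at h6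

theorem Gd_top [Finite P] [Nontrivial V] {c : ZMod 3} (H : Hex S.Om c) (hS : S.Scal) : S.Gd = ⊤ := by
  obtain ⟨g, hg⟩ := S.surj D.g
  refine S.eq_top_of S.Gd_Mh ⟨g, ?_, hg⟩
  intro Y hY
  refine S.inv_of_Dh H hS ?_
  rintro m hm _ ⟨y, hy, rfl⟩
  have h1 : g⁻¹ * (m : P) * g ∈ S.Mh := by
    rw [mem_Mh, map_mul, map_mul, map_inv, hg]
    exact hm
  refine ⟨S.ρ (g⁻¹ * (m : P) * g) y, hY ⟨_, h1⟩ _ hy, ?_⟩
  rw [← S.mul_ap, ← S.mul_ap]
  congr 2
  group

/-- **The parabolic is irreducible.** -/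
theorem inv_eq [Finite P] [Nontrivial V] [IsSimpleGroup T] {c : ZMod 3} (H : Hex S.Om c) (hS : S.Scal)
    (hirr : ∀ Y : Submodule F V, (∀ p, ∀ y ∈ Y, S.ρ p y ∈ Y) → Y = ⊥ ∨ Y = ⊤) {Y : Submodule F V} (hY : S.Inv Y) :
    Y = ⊥ ∨ Y = ⊤ := by
  apply hirr
  -- the normal core of the stabiliser
  have hG := S.Gd_top H hS
  have key : ∀ m ∈ S.Mh, ∀ q : P, ∀ y ∈ Y, S.ρ (q⁻¹ * m * q) y ∈ Y := by
    intro m hm q y hy
    have hq : q ∈ S.Gd := by rw [hG]; trivial
    have h1 := hq Y hY ⟨m, hm⟩ (S.ρ q y) ⟨y, hy, rfl⟩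
    obtain ⟨y', hy', he⟩ := h1
    have h2 : S.ρ (q⁻¹ * m * q) y = y' := by
      apply S.ap_inj q
      rw [he, ← S.mul_ap, ← S.mul_ap]
      congr 2
      group
    rw [h2]
    exact hy'
  let N : Subgroup P :=
    { carrier := {p | ∀ q : P, (∀ y ∈ Y, S.ρ (q⁻¹ * p * q) y ∈ Y) ∧ (∀ y ∈ Y, S.ρ (q⁻¹ * p⁻¹ * q) y ∈ Y)}
      mul_mem' := by
        intro a b ha hb q
        constructor
        · intro y hy
          have e : q⁻¹ * (a * b) * q = (q⁻¹ * a * q) * (q⁻¹ * b * q) := by group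
          rw [e, S.mul_ap]
          exact (ha q).1 _ ((hb q).1 _ hy)
        · intro y hy
          have e : q⁻¹ * (a * b)⁻¹ * q = (q⁻¹ * b⁻¹ * q) * (q⁻¹ * a⁻¹ * q) := by group
          rw [e, S.mul_ap]
          exact (hb q).2 _ ((ha q).2 _ hy)
      one_mem' := by
        intro q
        constructor
        · intro y hy
          rw [mul_one, inv_mul_cancel, S.one_ap]; exact hy
        · intro y hy
          rw [inv_one, mul_one, inv_mul_cancel, S.one_ap]; exact hy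
      inv_mem' := by
        intro a ha q
        refine ⟨(ha q).2, ?_⟩
        rw [inv_inv]
        exact (ha q).1 }
  have hMN : S.Mh ≤ N := fun m hm q => ⟨key m hm q, key m⁻¹ (S.Mh.inv_mem hm) q⟩
  have hNn : N.Normal := by
    constructor
    intro n hn g q
    have e1 : q⁻¹ * (g * n * g⁻¹) * q = (g⁻¹ * q)⁻¹ * n * (g⁻¹ * q) := by group
    have e2 : q⁻¹ * (g * n * g⁻¹)⁻¹ * q = (g⁻¹ * q)⁻¹ * n⁻¹ * (g⁻¹ * q) := by group
    rw [e1, e2]
    exact hn (g⁻¹ * q)
  have hmap : N.map S.π = ⊤ := by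
    have h1 : (N.map S.π).Normal := hNn.map S.π S.surj
    rcases h1.eq_bot_or_eq_top with h | h
    · exfalso
      have h2 : S.π (S.X (Pi.single 0 1)) ∈ N.map S.π := ⟨_, hMN (S.X_mem _), rfl⟩
      rw [h, Subgroup.mem_bot, S.X_pi] at h2
      have h3 : D.x (Pi.single 0 1) = D.x 0 := by rw [h2, ← S.X_pi, S.X_zero, map_one]
      have h4 := congrFun (D.x_inj h3) 0
      rw [Pi.single_eq_same] at h4
      exact absurd h4 (by decide)
    · exact h
  have hN : N = ⊤ := by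
    refine S.eq_top_of hMN ?_
    have h4 : D.g ∈ N.map S.π := by rw [hmap]; trivial
    exact h4
  intro p y hy
  have hp : p ∈ N := by rw [hN]; trivial
  have h1 := (hp 1).1 y hy
  rwa [inv_one, one_mul, mul_one] at h1

/-- If the stabilisers act by scalars, the weights have multiplicity one. -/
theorem finrank_le_six [Finite P] [Nontrivial V] [FiniteDimensional F V] [IsSimpleGroup T] {c : ZMod 3}
    (H : Hex S.Om c) (hS : S.Scal)
    (hirr : ∀ Y : Submodule F V, (∀ p, ∀ y ∈ Y, S.ρ p y ∈ Y) → Y = ⊥ ∨ Y = ⊤) : finrank F V ≤ 6 := by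
  have hne : Nonempty {w // w ∈ S.Om} := Fintype.card_pos_iff.1 (by rw [H.fcard]; norm_num)
  obtain ⟨w0⟩ := hne
  obtain ⟨y0, hy0, hy00⟩ := S.exists_vec w0
  choose m hm using fun w => S.act_trans H w0 w
  -- the span of the `y w`
  set Y : Submodule F V := Submodule.span F (Set.range fun w : {w // w ∈ S.Om} => S.ρ (m w : P) y0) with hY
  have hmem : ∀ n : S.Mh, S.ρ (n : P) y0 ∈ Y := by
    intro n
    set w := S.act n w0 with hw
    obtain ⟨a, ha⟩ := hS w0 ((m w)⁻¹ * n) (by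
      rw [map_mul, map_inv, Perm.mul_apply, ← hw]
      nth_rw 2 [← hm w]
      rw [invap])
    have h1 : S.ρ (n : P) y0 = a • S.ρ (m w : P) y0 := by
      rw [← map_smul, ← ha _ hy0, ← S.mul_ap, ← Subgroup.coe_mul, mul_inv_cancel_left]
    rw [h1]
    exact Y.smul_mem _ (Submodule.subset_span ⟨w, rfl⟩)
  have hinv : S.Inv Y := by
    intro n y hy
    have h1 : Y ≤ Y.comap (S.ρ (n : P)) := by
      rw [hY, Submodule.span_le]
      rintro _ ⟨w, rfl⟩
      rw [SetLike.mem_coe, Submodule.mem_comap, ← S.mul_ap, ← Subgroup.coe_mul]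
      exact hmem _
    exact h1 hy
  rcases S.inv_eq H hS hirr hinv with h | h
  · exfalso
    have h1 := hmem 1
    rw [h, Submodule.mem_bot, Subgroup.coe_one, S.one_ap] at h1
    exact hy00 h1
  · have h1 : finrank F Y ≤ 6 := by
      rw [← H.fcard]
      exact finrank_range_le_card _
    rwa [h, finrank_top] at h1

end Sit

end Cfsg.Agent.H918.U43
end

-- part: H918/U43/Rep5
section
/-!
# Stabilisers of the weights act by scalars (helper918)
-/

set_option autoImplicit false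
set_option maxRecDepth 20000

namespace Cfsg.Agent.H918.U43

open Matrix Module Equiv
open scoped commutatorElement

universe u v w z

variable {T : Type v} [Group T] {D : TD T} {F : Type u} [Field F] {V : Type w} [AddCommGroup V] [Module F V]
    {P : Type z} [Group P] (S : Sit D F V P)

theorem four_one_one {n : ZMod 3 → ℕ} (h1 : ∑ j, n j = 6) (h2 : ∑ j, n j ^ 2 = 18) (h0 : ∀ j, 0 < n j) :
    ∃ j, n j = 4 := by
  have e1 : n 0 + n 1 + n 2 = 6 := by rw [← h1]; exact (Fin.sum_univ_three n).symm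
  have e2 : n 0 ^ 2 + n 1 ^ 2 + n 2 ^ 2 = 18 := by rw [← h2]; exact (Fin.sum_univ_three fun j => n j ^ 2).symm
  by_contra hne
  push Not at hne
  have a0 := hne 0
  have a1 := hne 1
  have a2 := hne 2
  have b0 := h0 0
  have b1 := h0 1
  have b2 := h0 2
  generalize n 0 = x at *
  generalize n 1 = y at *
  generalize n 2 = z at *
  have hx : x ≤ 4 := by omega
  have hy : y ≤ 4 := by omega
  interval_cases x <;> interval_cases y <;> first | omega | (have hz : z ≤ 4 := by omega) <;> interval_cases z <;> omega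

namespace Sit

include S

theorem finrank_sup_le [FiniteDimensional F V] (B : Finset A4) :
    finrank F (B.sup S.W : Submodule F V) ≤ ∑ w ∈ B, finrank F (S.W w) := by
  classical
  induction B using Finset.induction_on with
  | empty => rw [Finset.sup_empty, finrank_bot, Finset.sum_empty]
  | insert a s ha ih =>
    rw [Finset.sup_insert, Finset.sum_insert ha]
    exact (Submodule.finrank_add_le_finrank_add_finrank _ _).trans (Nat.add_le_add_left ih _)

theorem prt_X (w v : A4) (y : V) : S.prt w (S.ρ (S.X v) y) = S.ch (w ⬝ᵥ v) • S.prt w y := by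
  conv_lhs => rw [← S.sum_prt y]
  rw [map_sum, map_sum, Finset.sum_eq_single w]
  · rw [S.prt_mem w y v, map_smul, S.prt_self (S.prt_mem w y)]
  · intro w' _ hw'
    rw [S.prt_mem w' y v, map_smul, S.prt_ne (S.prt_mem w' y) hw', smul_zero]
  · intro h; exact absurd (Finset.mem_univ _) h

theorem scal_one [Nontrivial V] (h1 : ∀ w ∈ S.Om, finrank F (S.W w) = 1) : S.Scal := by
  intro w m hm
  obtain ⟨y0, hy0, hgen⟩ := finrank_eq_one_iff'.1 (h1 w w.2)
  have h2 : S.ρ (m : P) y0 ∈ S.W w := by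
    have h3 := (S.act_spec m w y0).1 y0.2
    rwa [hm] at h3
  obtain ⟨a, ha⟩ := hgen ⟨_, h2⟩
  refine ⟨a, fun y hy => ?_⟩
  obtain ⟨b, hb⟩ := hgen ⟨y, hy⟩
  have ha' : a • (y0 : V) = S.ρ (m : P) y0 := congrArg Subtype.val ha
  have hb' : b • (y0 : V) = y := congrArg Subtype.val hb
  rw [← hb', map_smul, ← ha', smul_comm]

/-- **A three-cycle acts by a scalar on the weight spaces it fixes.** -/
theorem tau_scalar [Nontrivial V] [FiniteDimensional F V] {c : ZMod 3} (H : Hex S.Om c)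
    (h2 : ∀ w ∈ S.Om, finrank F (S.W w) = 2) {m : S.Mh} (h3 : (S.act m).IsThreeCycle)
    (hm : D.g⁻¹ * S.π (m : P) * D.g = D.x (-vc c)) (w : {w // w ∈ S.Om}) (hw : S.act m w = w) :
    ∃ a : F, ∀ y ∈ S.W w, S.ρ (m : P) y = a • y := by
  obtain ⟨g, hg⟩ := S.surj D.g
  set A0 : P := g * S.X (-vc c) * g⁻¹ with hA0
  have hπ : S.π (m : P) = S.π A0 := by
    rw [hA0, map_mul, map_mul, map_inv, hg, S.X_pi, ← hm]
    group
  obtain ⟨ζ, hζ0, hζ⟩ := S.exists_scalar hπ
  have hcube : A0 * (A0 * A0) = 1 := by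
    have e : A0 * (A0 * A0) = g * (S.X (-vc c) * (S.X (-vc c) * S.X (-vc c))) * g⁻¹ := by rw [hA0]; group
    have e2 : -vc c + (-vc c + -vc c) = 0 := by
      refine funext fun i => ?_
      have : ∀ a : ZMod 3, -a + (-a + -a) = 0 := by decide
      exact this (vc c i)
    rw [e, ← S.X_add, ← S.X_add, e2, S.X_zero]
    group
  -- the action of `A0` on weights
  have hact : ∀ (w : {w // w ∈ S.Om}) (y : V), y ∈ S.W w → S.ρ A0 y ∈ S.W (S.act m w) := by
    intro w y hy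
    have h4 := (S.act_spec m w y).1 hy
    rw [hζ] at h4
    rwa [Submodule.smul_mem_iff _ hζ0] at h4
  set σ := S.act m with hσ
  have hσ3 : ∀ u, σ (σ (σ u)) = u := by
    intro u
    have h4 : σ ^ 3 = 1 := by rw [← h3.orderOf, pow_orderOf_eq_one]
    have h5 : (σ ^ 3) u = u := by rw [h4]; rfl
    exact h5
  obtain ⟨w1, hw1⟩ : ∃ w1, σ w1 ≠ w1 := by
    by_contra hne
    push Not at hne
    exact h3.ne_one (Equiv.ext hne)
  set w2 := σ w1 with hw2
  set w3 := σ w2 with hw3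
  have h32 : w3 ≠ w2 := by
    intro h
    exact hw1 (σ.injective h)
  have h31 : w3 ≠ w1 := by
    intro h
    apply hw1
    have h4 := hσ3 w1
    rw [← hw2, ← hw3, h] at h4
    exact h4
  have hcoe : ∀ {a b : {w // w ∈ S.Om}}, a ≠ b → (a : A4) ≠ b := fun h h' => h (Subtype.ext h')
  -- every eigenvalue occurs
  have hocc : ∀ j : ZMod 3, ∃ u : {w // w ∈ S.Om}, (u : A4) ⬝ᵥ vc c = j := by
    intro j
    obtain ⟨y1, hy1, hy10⟩ := S.exists_vec w1
    set χ := S.ch (-j) with hχ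
    have hχ3 : χ ^ 3 = 1 := S.ch_cube _
    set z := y1 + χ ^ 2 • S.ρ A0 y1 + χ • S.ρ A0 (S.ρ A0 y1) with hz
    have hz1 : S.prt (w1 : A4) z = y1 := by
      rw [hz, map_add, map_add, map_smul, map_smul, S.prt_self hy1, S.prt_ne (hact w1 _ hy1) (hcoe hw1),
        S.prt_ne (hact w2 _ (hact w1 _ hy1)) (hcoe h31), smul_zero, smul_zero, add_zero, add_zero]
    have hz0 : z ≠ 0 := by
      intro h
      rw [h, map_zero] at hz1
      exact hy10 hz1.symm
    have hAz : S.ρ A0 z = χ • z := by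
      rw [hz, map_add, map_add, map_smul, map_smul, smul_add, smul_add, smul_smul, smul_smul]
      have e1 : S.ρ A0 (S.ρ A0 (S.ρ A0 y1)) = y1 := by rw [← S.mul_ap, ← S.mul_ap, mul_assoc, hcube, S.one_ap]
      have e2 : χ * χ ^ 2 = 1 := by rw [← hχ3]; ring
      rw [e1, e2, one_smul, ← pow_two]
      abel
    -- go back to `X`
    have hX : S.ρ (S.X (-vc c)) (S.ρ g⁻¹ z) = χ • S.ρ g⁻¹ z := by
      have e : S.ρ (S.X (-vc c)) (S.ρ g⁻¹ z) = S.ρ g⁻¹ (S.ρ A0 z) := by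
        rw [← S.mul_ap, ← S.mul_ap, hA0]
        congr 2
        group
      rw [e, hAz, map_smul]
    have hne : S.ρ g⁻¹ z ≠ 0 := by
      intro h
      apply hz0
      apply S.ap_inj g⁻¹
      rw [h, map_zero]
    have hex : ∃ u : {w // w ∈ S.Om}, S.prt (u : A4) (S.ρ g⁻¹ z) ≠ 0 := by
      by_contra hcon
      push Not at hcon
      apply hne
      rw [← S.sum_prt' (S.ρ g⁻¹ z)]
      exact Finset.sum_eq_zero fun u _ => hcon u
    obtain ⟨u, hu⟩ := hex
    refine ⟨u, ?_⟩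
    have h4 := S.prt_X u (-vc c) (S.ρ g⁻¹ z)
    rw [hX, map_smul] at h4
    have h5 : (χ - S.ch ((u : A4) ⬝ᵥ -vc c)) • S.prt (u : A4) (S.ρ g⁻¹ z) = 0 := by rw [sub_smul, h4, sub_self]
    rcases smul_eq_zero.1 h5 with h6 | h6
    · have h7 := S.ch_inj (sub_eq_zero.1 h6)
      rw [dotProduct_neg, neg_inj] at h7
      exact h7.symm
    · exact absurd h6 hu
  -- the distribution `(4, 1, 1)`
  have hdist := H.distrib
  obtain ⟨j0, hj0⟩ := four_one_one (n := fun j => (Finset.univ.filter fun w : {w // w ∈ S.Om} => (w : A4) ⬝ᵥ vc c = j).card)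
    (by
      rw [← H.fcard, ← Finset.card_univ]
      exact (Finset.card_eq_sum_card_fiberwise (fun w _ => Finset.mem_univ _)).symm) hdist (fun j => by
      obtain ⟨u, hu⟩ := hocc j
      exact Finset.card_pos.2 ⟨u, Finset.mem_filter.2 ⟨Finset.mem_univ _, hu⟩⟩)
  set χ := S.ch (-j0) with hχ
  -- the rank of `X - χ`
  set B : Finset A4 := S.Om.filter fun w => w ⬝ᵥ vc c ≠ j0 with hB
  have hBc : B.card = 2 := by
    have h4 : (S.Om.filter fun w => w ⬝ᵥ vc c = j0).card = 4 := by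
      refine Eq.trans ?_ hj0
      refine (Finset.card_bij (fun (w : {w // w ∈ S.Om}) _ => (w : A4)) ?_ ?_ ?_).symm
      · intro w hw
        rw [Finset.mem_filter] at hw ⊢
        exact ⟨w.2, hw.2⟩
      · intro a _ b _ h
        exact Subtype.ext h
      · intro b hb
        rw [Finset.mem_filter] at hb
        exact ⟨⟨b, hb.1⟩, Finset.mem_filter.2 ⟨Finset.mem_univ _, hb.2⟩, rfl⟩
    have h5 : (S.Om.filter fun w => w ⬝ᵥ vc c = j0).card + B.card = S.Om.card :=
      Finset.card_filter_add_card_filter_not (s := S.Om) (fun w => w ⬝ᵥ vc c = j0)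
    rw [h4, H.card] at h5
    omega
  set L' : Module.End F V := S.ρ (S.X (-vc c)) - χ • 1 with hL'
  have hL'ap : ∀ y, L' y = S.ρ (S.X (-vc c)) y - χ • y := fun y => rfl
  have hrange : LinearMap.range L' ≤ B.sup S.W := by
    rintro _ ⟨y, rfl⟩
    rw [← S.sum_prt' y, map_sum]
    refine Submodule.sum_mem _ fun u _ => ?_
    rw [hL'ap, S.prt_mem _ _ (-vc c), ← sub_smul]
    by_cases hu : (u : A4) ⬝ᵥ vc c = j0
    · rw [dotProduct_neg, hu, ← hχ, sub_self, zero_smul]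
      exact Submodule.zero_mem _
    · apply Submodule.smul_mem
      have h4 : S.W (u : A4) ≤ B.sup S.W := Finset.le_sup (f := S.W) (Finset.mem_filter.2 ⟨u.2, hu⟩)
      exact h4 (S.prt_mem _ _)
  have hrank' : finrank F (LinearMap.range L') ≤ 4 := by
    refine (Submodule.finrank_mono hrange).trans ((S.finrank_sup_le B).trans ?_)
    rw [Finset.sum_congr rfl fun w hw => h2 w (Finset.mem_filter.1 hw).1, Finset.sum_const, hBc]
    norm_num
  set L : Module.End F V := S.ρ A0 - χ • 1 with hL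
  have hLap : ∀ y, L y = S.ρ A0 y - χ • y := fun y => rfl
  have hrank : finrank F (LinearMap.range L) ≤ 4 := by
    have h4 : LinearMap.range L ≤ (LinearMap.range L').map (S.ρ g) := by
      rintro _ ⟨y, rfl⟩
      refine ⟨L' (S.ρ g⁻¹ y), ⟨_, rfl⟩, ?_⟩
      rw [hL'ap, hLap, map_sub, map_smul, ← S.mul_ap, ← S.mul_ap, ← S.mul_ap, hA0, mul_inv_cancel, S.one_ap, mul_assoc]
    exact (Submodule.finrank_mono h4).trans ((Submodule.finrank_map_le _ _).trans hrank')
  -- conclusion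
  refine ⟨ζ * χ, fun y hy => ?_⟩
  rw [hζ, mul_smul]
  congr 1
  by_contra hne
  have hww1 : w ≠ w1 := fun h => hw1 (by rw [hw2, ← h]; exact hw)
  have hww2 : w ≠ w2 := fun h => h32 (by rw [hw3, ← h]; exact hw)
  have hww3 : w ≠ w3 := fun h => h31 (by
    have h4 := hσ3 w1
    rw [← hw2, ← hw3, ← h] at h4
    rw [← h4, ← h]
    exact hw.symm)
  let Φ : (S.W (w1 : A4) × S.W (w2 : A4) × F) →ₗ[F] V :=
    L.comp (LinearMap.coprod (S.W (w1 : A4)).subtype (LinearMap.coprod (S.W (w2 : A4)).subtype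
      (LinearMap.toSpanSingleton F V y)))
  have hΦ : ∀ a b k, Φ (a, b, k) = L ((a : V) + ((b : V) + k • y)) := fun a b k => rfl
  have hinj : Function.Injective Φ := by
    rw [← LinearMap.ker_eq_bot, LinearMap.ker_eq_bot']
    rintro ⟨a, b, k⟩ h
    rw [hΦ, hLap, map_add, map_add, map_smul] at h
    have ha := a.2
    have hb := b.2
    have hAa := hact w1 _ ha
    have hAb := hact w2 _ hb
    have hAy := hact w _ hy
    rw [hw] at hAy
    -- project to `w3`
    have e3 := congrArg (S.prt (w3 : A4)) h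
    rw [map_sub, map_add, map_add, map_smul, map_smul, map_add, map_add, map_smul, map_zero,
      S.prt_ne hAa (hcoe h32.symm), S.prt_self hAb, S.prt_ne hAy (hcoe hww3), S.prt_ne ha (hcoe h31.symm),
      S.prt_ne hb (hcoe h32.symm), S.prt_ne hy (hcoe hww3)] at e3
    simp only [smul_zero, add_zero, zero_add, sub_zero] at e3
    have hb0 : (b : V) = 0 := S.ap_inj A0 (by rw [e3, map_zero])
    have e1 := congrArg (S.prt (w1 : A4)) h
    rw [hb0, map_zero, zero_add, zero_add, map_sub, map_add, map_smul, map_smul, map_add, map_smul, map_zero,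
      S.prt_ne hAa (hcoe hw1), S.prt_ne hAy (hcoe hww1), S.prt_self ha, S.prt_ne hy (hcoe hww1)] at e1
    simp only [smul_zero, add_zero, zero_add, zero_sub, neg_eq_zero] at e1
    have ha0 : (a : V) = 0 := by
      rcases smul_eq_zero.1 e1 with h4 | h4
      · exact absurd h4 (S.ch_ne_zero _)
      · exact h4
    have e0 : k • (S.ρ A0 y - χ • y) = 0 := by
      rw [hb0, ha0, map_zero, zero_add, zero_add, zero_add, zero_add] at h
      rw [smul_sub, smul_comm k χ]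
      exact h
    have hk0 : k = 0 := by
      rcases smul_eq_zero.1 e0 with h4 | h4
      · exact h4
      · exact absurd (sub_eq_zero.1 h4) hne
    rw [hk0]
    exact Prod.ext (Subtype.ext ha0) (Prod.ext (Subtype.ext hb0) rfl)
  have h5 : finrank F (LinearMap.range Φ) = 5 := by
    rw [LinearMap.finrank_range_of_inj hinj, Module.finrank_prod, Module.finrank_prod, h2 _ w1.2, h2 _ w2.2,
      Module.finrank_self]
  have h6 : LinearMap.range Φ ≤ LinearMap.range L := LinearMap.range_comp_le_range _ _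
  have h7 := Submodule.finrank_mono h6
  omega

/-- stabilisers act by scalars, multiplicity two -/
theorem scal_two [Nontrivial V] [FiniteDimensional F V] {c : ZMod 3} (H : Hex S.Om c)
    (h2 : ∀ w ∈ S.Om, finrank F (S.W w) = 2) : S.Scal := by
  intro w0 m hm
  obtain ⟨t, ht3, ht⟩ := S.exists_tau H
  -- the subgroup of elements acting by scalars
  let Q : Subgroup S.Mh :=
    { carrier := {m | S.act m w0 = w0 ∧ ∃ a : F, a ≠ 0 ∧ ∀ y ∈ S.W w0, S.ρ (m : P) y = a • y}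
      mul_mem' := by
        rintro a b ⟨ha, ka, ka0, hka⟩ ⟨hb, kb, kb0, hkb⟩
        refine ⟨by rw [map_mul, Perm.mul_apply, hb, ha], ka * kb, mul_ne_zero ka0 kb0, fun y hy => ?_⟩
        rw [Subgroup.coe_mul, S.mul_ap, hkb y hy, map_smul, hka y hy, smul_smul, mul_comm]
      one_mem' := ⟨by rw [map_one]; rfl, 1, one_ne_zero, fun y _ => by rw [Subgroup.coe_one, S.one_ap, one_smul]⟩
      inv_mem' := by
        rintro a ⟨ha, ka, ka0, hka⟩
        refine ⟨?_, ka⁻¹, inv_ne_zero ka0, fun y hy => ?_⟩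
        · rw [map_inv]
          nth_rw 1 [← ha]
          rw [invap]
        · apply S.ap_inj (a : P)
          rw [← S.mul_ap, Subgroup.coe_inv, mul_inv_cancel, S.one_ap, map_smul, hka y hy, smul_smul,
            inv_mul_cancel₀ ka0, one_smul] }
  have hnz : ∀ (w : {w // w ∈ S.Om}) (m : S.Mh) (a : F), (∀ y ∈ S.W w, S.ρ (m : P) y = a • y) → a ≠ 0 := by
    intro w m a ha h0
    obtain ⟨y, hy, hy0⟩ := S.exists_vec w
    apply hy0
    apply S.ap_inj (m : P)
    rw [ha y hy, h0, zero_smul, map_zero]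
  have hmem : m ∈ Q := by
    refine S.stab_three H (w0 := w0) (fun m' hm' => ?_) (fun τ hτ hτ0 => ?_) hm
    · obtain ⟨a, ha⟩ := S.ker_scalar H hm' w0
      exact ⟨by rw [hm']; rfl, a, hnz _ _ _ ha, ha⟩
    · -- conjugate to `t`
      have hc := alternatingGroup.isThreeCycle_isConj (α := {w // w ∈ S.Om}) (by
        rw [Nat.card_eq_fintype_card, H.fcard]; norm_num)
        (σ := ⟨S.act t, ht3.mem_alternatingGroup⟩) (τ := ⟨τ, hτ.mem_alternatingGroup⟩) ht3 hτ
      obtain ⟨⟨κ, hκ⟩, hκe⟩ := isConj_iff.1 hc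
      have he : κ * S.act t * κ⁻¹ = τ := congrArg Subtype.val hκe
      obtain ⟨k, hk⟩ := S.exists_act_eq H (Perm.mem_alternatingGroup.1 hκ)
      have hfix : S.act t (S.act k⁻¹ w0) = S.act k⁻¹ w0 := by
        rw [map_inv, hk]
        have h5 : (κ * S.act t * κ⁻¹) w0 = w0 := by rw [he, hτ0]
        rw [Perm.mul_apply, Perm.mul_apply] at h5
        nth_rw 2 [← h5]
        rw [invap]
      obtain ⟨a, ha⟩ := S.tau_scalar H h2 ht3 ht (S.act k⁻¹ w0) hfix
      refine ⟨k * t * k⁻¹, ⟨?_, a, hnz _ _ _ ha, fun y hy => ?_⟩, ?_⟩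
      · rw [map_mul, map_mul, map_inv, hk, he, hτ0]
      · have h6 : S.ρ ((k⁻¹ : S.Mh) : P) y ∈ S.W (S.act k⁻¹ w0) := (S.act_spec k⁻¹ w0 y).1 hy
        rw [Subgroup.coe_mul, Subgroup.coe_mul, S.mul_ap, S.mul_ap, ha _ h6, map_smul, ← S.mul_ap,
          Subgroup.coe_inv, mul_inv_cancel, S.one_ap]
      · rw [map_mul, map_mul, map_inv, hk, he]
  obtain ⟨_, a, _, ha⟩ := hmem
  exact ⟨a, ha⟩

/-- **The degree is six.** -/
theorem degree [Finite P] [Nontrivial V] [FiniteDimensional F V] [IsSimpleGroup T] (hn : finrank F V ≤ 12)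
    (hirr : ∀ Y : Submodule F V, (∀ p, ∀ y ∈ Y, S.ρ p y ∈ Y) → Y = ⊥ ∨ Y = ⊤) :
    finrank F V = 6 ∧ ∃ c, Hex S.Om c ∧ (∀ w ∈ S.Om, finrank F (S.W w) = 1) ∧ S.Scal := by
  obtain ⟨c, H, μ, hμ, hW, hV⟩ := S.hex hn
  rcases hμ with rfl | rfl
  · exact ⟨by rw [hV], c, H, hW, S.scal_one hW⟩
  · exfalso
    have h1 := S.finrank_le_six H (S.scal_two H hW) hirr
    omega

end Sit

end Cfsg.Agent.H918.U43
end

-- part: H918/U43/Rep6
section
/-!
# Degree six: the parabolic is monomial with entries sixth roots of unity (helper918)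
-/

set_option autoImplicit false
set_option maxRecDepth 20000

namespace Cfsg.Agent.H918.U43

open Matrix Module Equiv
open scoped commutatorElement

universe u v w z

variable {T : Type v} [Group T] {D : TD T} {F : Type u} [Field F] {V : Type w} [AddCommGroup V] [Module F V]
    {P : Type z} [Group P] (S : Sit D F V P)

namespace Sit

include S

/-- the scalars on stabilisers are sixth roots of unity -/
theorem lam_six [Nontrivial V] {c : ZMod 3} (H : Hex S.Om c) (hS : S.Scal)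
    (h6 : ∀ (z : P) (a : F), S.ρ z = a • 1 → a ^ 6 = 1) (w0 : {w // w ∈ S.Om}) (m : S.Mh) (hm : S.act m w0 = w0) :
    ∃ a : F, a ^ 6 = 1 ∧ ∀ y ∈ S.W w0, S.ρ (m : P) y = a • y := by
  let Q : Subgroup S.Mh :=
    { carrier := {m | S.act m w0 = w0 ∧ ∃ a : F, a ^ 6 = 1 ∧ ∀ y ∈ S.W w0, S.ρ (m : P) y = a • y}
      mul_mem' := by
        rintro a b ⟨ha, ka, ka0, hka⟩ ⟨hb, kb, kb0, hkb⟩
        refine ⟨by rw [map_mul, Perm.mul_apply, hb, ha], ka * kb, by rw [mul_pow, ka0, kb0, one_mul], fun y hy => ?_⟩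
        rw [Subgroup.coe_mul, S.mul_ap, hkb y hy, map_smul, hka y hy, smul_smul, mul_comm]
      one_mem' := ⟨by rw [map_one]; rfl, 1, one_pow _, fun y _ => by rw [Subgroup.coe_one, S.one_ap, one_smul]⟩
      inv_mem' := by
        rintro a ⟨ha, ka, ka0, hka⟩
        have ka1 : ka ≠ 0 := by
          rintro rfl
          norm_num at ka0
        refine ⟨?_, ka⁻¹, by rw [inv_pow, ka0, inv_one], fun y hy => ?_⟩
        · rw [map_inv]
          nth_rw 1 [← ha]
          rw [invap]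
        · apply S.ap_inj (a : P)
          rw [← S.mul_ap, Subgroup.coe_inv, mul_inv_cancel, S.one_ap, map_smul, hka y hy, smul_smul,
            inv_mul_cancel₀ ka1, one_smul] }
  have hmem : m ∈ Q := by
    refine S.stab_comm H (w0 := w0) (fun m' hm' => ?_) (fun a b ha hb => ?_) hm
    · refine ⟨by rw [hm']; rfl, ?_⟩
      obtain ⟨v, hv⟩ := S.ker_act H hm'
      have h1 : S.π ((m' : P) * (S.X v)⁻¹) = 1 := by rw [map_mul, map_inv, hv, S.X_pi, mul_inv_cancel]
      obtain ⟨a, ha⟩ := (S.ker _).1 h1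
      refine ⟨a * S.ch (w0 ⬝ᵥ v), ?_, fun y hy => ?_⟩
      · rw [mul_pow, h6 _ a ha, one_mul, show (6 : ℕ) = 3 * 2 from rfl, pow_mul, S.ch_cube, one_pow]
      · have h2 : S.ρ (m' : P) y = S.ρ ((m' : P) * (S.X v)⁻¹) (S.ρ (S.X v) y) := by
          rw [← S.mul_ap, inv_mul_cancel_right]
        rw [h2, ha, hy v, mul_smul]
        rfl
    · obtain ⟨ka, hka⟩ := hS w0 a ha
      obtain ⟨kb, hkb⟩ := hS w0 b hb
      have ha' : S.act a⁻¹ w0 = w0 := by
        rw [map_inv]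
        nth_rw 1 [← ha]
        rw [invap]
      have hb' : S.act b⁻¹ w0 = w0 := by
        rw [map_inv]
        nth_rw 1 [← hb]
        rw [invap]
      obtain ⟨la, hla⟩ := hS w0 a⁻¹ ha'
      obtain ⟨lb, hlb⟩ := hS w0 b⁻¹ hb'
      refine ⟨?_, 1, one_pow _, fun y hy => ?_⟩
      · rw [commutatorElement_def, map_mul, map_mul, map_mul, Perm.mul_apply, Perm.mul_apply, Perm.mul_apply, hb', ha',
          hb, ha]
      · have e1 : S.ρ (a : P) (S.ρ ((a⁻¹ : S.Mh) : P) y) = y := by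
          rw [← S.mul_ap, Subgroup.coe_inv, mul_inv_cancel, S.one_ap]
        have e2 : S.ρ (b : P) (S.ρ ((b⁻¹ : S.Mh) : P) y) = y := by
          rw [← S.mul_ap, Subgroup.coe_inv, mul_inv_cancel, S.one_ap]
        rw [hla y hy, map_smul, hka y hy, smul_smul] at e1
        rw [hlb y hy, map_smul, hkb y hy, smul_smul] at e2
        have e4 : S.ρ ((⁅a, b⁆ : S.Mh) : P) y = (lb * (la * (kb * ka))) • y := by
          simp only [commutatorElement_def, Subgroup.coe_mul, S.mul_ap]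
          simp only [hlb y hy, map_smul, hla y hy, hkb y hy, hka y hy, smul_smul]
          rw [mul_assoc, mul_assoc]
        have e3 : lb * (la * (kb * ka)) = (la * ka) * (lb * kb) := by ring
        rw [e4, e3, mul_smul, e2, e1, one_smul]
  obtain ⟨_, a, h, ha⟩ := hmem
  exact ⟨a, h, ha⟩

/-- **Monomial basis.** -/
theorem exists_basis [Nontrivial V] {c : ZMod 3} (H : Hex S.Om c) (hS : S.Scal)
    (h6 : ∀ (z : P) (a : F), S.ρ z = a • 1 → a ^ 6 = 1) :
    ∃ y : {w // w ∈ S.Om} → V, (∀ w : {w // w ∈ S.Om}, y w ∈ S.W w) ∧ (∀ w, y w ≠ 0) ∧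
      ∀ (m : S.Mh) w, ∃ a : F, a ^ 6 = 1 ∧ S.ρ (m : P) (y w) = a • y (S.act m w) := by
  have hne : Nonempty {w // w ∈ S.Om} := Fintype.card_pos_iff.1 (by rw [H.fcard]; norm_num)
  obtain ⟨w0⟩ := hne
  obtain ⟨y0, hy0, hy00⟩ := S.exists_vec w0
  choose n hn using fun w => S.act_trans H w0 w
  refine ⟨fun w => S.ρ (n w : P) y0, fun w => ?_, fun w h => ?_, fun m w => ?_⟩
  · have h1 := (S.act_spec (n w) w0 y0).1 hy0
    rwa [hn] at h1
  · apply hy00
    apply S.ap_inj (n w : P)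
    rw [map_zero]
    exact h
  · obtain ⟨a, ha6, ha⟩ := S.lam_six H hS h6 w0 ((n (S.act m w))⁻¹ * (m * n w)) (by
      rw [map_mul, map_inv, Perm.mul_apply, map_mul, Perm.mul_apply, hn]
      nth_rw 2 [← hn (S.act m w)]
      rw [invap])
    refine ⟨a, ha6, ?_⟩
    rw [← map_smul, ← ha _ hy0, ← S.mul_ap, ← S.mul_ap, ← Subgroup.coe_mul, ← Subgroup.coe_mul, mul_inv_cancel_left]

/-- the basis is linearly independent -/
theorem linInd {y : {w // w ∈ S.Om} → V} (hy : ∀ w : {w // w ∈ S.Om}, y w ∈ S.W w) (hy0 : ∀ w, y w ≠ 0) : LinearIndependent F y := by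
  rw [Fintype.linearIndependent_iff]
  intro k hk w
  have h1 := congrArg (S.prt (w : A4)) hk
  rw [map_sum, map_zero, Finset.sum_eq_single w] at h1
  · rw [map_smul, S.prt_self (hy w)] at h1
    rcases smul_eq_zero.1 h1 with h2 | h2
    · exact h2
    · exact absurd h2 (hy0 w)
  · intro w' _ hw'
    rw [map_smul, S.prt_ne (hy w') fun h => hw' (Subtype.ext h), smul_zero]
  · intro h; exact absurd (Finset.mem_univ _) h

/-- **Only scalars commute with `D`.** -/
theorem comm_Dh [Nontrivial V] {c : ZMod 3} (H : Hex S.Om c) (h1 : ∀ w ∈ S.Om, finrank F (S.W w) = 1) {Z : Module.End F V}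
    (hZ : ∀ m ∈ S.Dh, ∀ y, Z (S.ρ (m : P) y) = S.ρ (m : P) (Z y)) : ∃ a : F, ∀ y, Z y = a • y := by
  have hpr : ∀ (w : {w // w ∈ S.Om}) (y : V), Z (S.prt (w : A4) y) = S.prt (w : A4) (Z y) := by
    intro w y
    rw [← S.pr_K3 H, ← S.pr_K3 H, S.pr_apply, S.pr_apply, map_smul, map_sum]
    congr 1
    refine Finset.sum_congr rfl fun k _ => ?_
    rw [map_smul, hZ ⟨S.X k, S.X_mem _⟩ (S.X_mem_Dh k.2)]
  have hW : ∀ (w : {w // w ∈ S.Om}) (y : V), y ∈ S.W w → Z y ∈ S.W w := by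
    intro w y hy
    have h2 := hpr w y
    rw [S.prt_self hy] at h2
    rw [h2]
    exact S.prt_mem _ _
  have hsc : ∀ w : {w // w ∈ S.Om}, ∃ a : F, ∀ y ∈ S.W w, Z y = a • y := by
    intro w
    obtain ⟨y0, hy0, hgen⟩ := finrank_eq_one_iff'.1 (h1 w w.2)
    obtain ⟨a, ha⟩ := hgen ⟨_, hW w y0 y0.2⟩
    refine ⟨a, fun y hy => ?_⟩
    obtain ⟨b, hb⟩ := hgen ⟨y, hy⟩
    have ha' : a • (y0 : V) = Z y0 := congrArg Subtype.val ha
    have hb' : b • (y0 : V) = y := congrArg Subtype.val hb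
    rw [← hb', map_smul, ← ha', smul_comm]
  choose a ha using hsc
  have hne : Nonempty {w // w ∈ S.Om} := Fintype.card_pos_iff.1 (by rw [H.fcard]; norm_num)
  obtain ⟨w0⟩ := hne
  obtain ⟨y0, hy0, hy00⟩ := S.exists_vec w0
  have hall : ∀ w, a w = a w0 := by
    intro w
    obtain ⟨m, hm, he⟩ := S.Dh_trans H w0 w
    have h2 : S.ρ (m : P) y0 ∈ S.W w := by
      have h3 := (S.act_spec m w0 y0).1 hy0
      rwa [he] at h3
    have h3 := ha w _ h2
    rw [hZ m hm, ha w0 _ hy0, map_smul] at h3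
    have h4 : (a w - a w0) • S.ρ (m : P) y0 = 0 := by rw [sub_smul, h3, sub_self]
    rcases smul_eq_zero.1 h4 with h5 | h5
    · exact sub_eq_zero.1 h5
    · exfalso
      apply hy00
      apply S.ap_inj (m : P)
      rw [h5, map_zero]
  refine ⟨a w0, fun y => ?_⟩
  rw [← S.sum_prt' y, map_sum, Finset.smul_sum]
  refine Finset.sum_congr rfl fun w _ => ?_
  rw [ha w _ (S.prt_mem _ _), hall]

end Sit

end Cfsg.Agent.H918.U43
end

-- part: H918/U43/Main
section
/-!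
# Cores with socle `PSU₄(3)` in degree at most 12 (helper918)

`u43_core` : a core of degree at most 12 with `P / scalars ≅ PSU₄(3)` over a field of characteristic `p ≠ 3` has degree
six, and its traces are fixed by `x ↦ x^p` if `p ≡ 1 (mod 3)`, resp. sent to the traces of the inverses if
`p ≡ 2 (mod 3)`.
-/

set_option autoImplicit false
set_option maxRecDepth 20000

namespace Cfsg.Agent.H918.U43

open Matrix Module Equiv Cfsg.Geo Cfsg.Agent.H915.LD
open scoped commutatorElement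

universe u v w z

variable {ι : Type} [Fintype ι] [DecidableEq ι] {F : Type u} [Field F] {P : Subgroup (GL ι F)}

/-- the representation of `P` -/
noncomputable def rep (P : Subgroup (GL ι F)) : P →* Module.End F (ι → F) where
  toFun g := Matrix.toLin' ((g : GL ι F) : Matrix ι ι F)
  map_one' := by
    rw [Subgroup.coe_one, Units.val_one, Matrix.toLin'_one]; rfl
  map_mul' a b := by
    rw [Subgroup.coe_mul, Units.val_mul, Matrix.toLin'_mul]; rfl

theorem rep_apply (g : P) (y : ι → F) : rep P g y = ((g : GL ι F) : Matrix ι ι F) *ᵥ y := Matrix.toLin'_apply _ _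

theorem rep_inj : Function.Injective (rep P) := by
  intro a b h
  apply Subtype.ext
  apply Units.ext
  exact Matrix.toLin'.injective h

theorem toSoc_eq_one_iff (z : P) : toSoc P z = 1 ↔ ∃ c : F, rep P z = c • 1 := by
  have h1 : toSoc P z = 1 ↔ z ∈ (toSoc P).ker := Iff.rfl
  rw [h1, ker_toSoc, Subgroup.mem_subgroupOf, mem_scalars_iff]
  constructor
  · rintro ⟨c, hc⟩
    refine ⟨c, LinearMap.ext fun y => ?_⟩
    rw [rep_apply, hc, Matrix.smul_mulVec, Matrix.one_mulVec]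
    rfl
  · rintro ⟨c, hc⟩
    by_cases hι : Nonempty ι
    · obtain ⟨i⟩ := hι
      have h2 : ((z : GL ι F) : Matrix ι ι F) = c • (1 : Matrix ι ι F) := by
        apply Matrix.toLin'.injective
        rw [map_smul, Matrix.toLin'_one]
        exact hc
      have hc0 : c ≠ 0 := by
        rintro rfl
        have h3 : ((z : GL ι F) : Matrix ι ι F) * (((z⁻¹ : P) : GL ι F) : Matrix ι ι F) = 1 := by
          rw [← Units.val_mul, ← Subgroup.coe_mul, mul_inv_cancel]; rfl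
        rw [h2, zero_smul, Matrix.zero_mul] at h3
        have h4 := congrFun (congrFun h3 i) i
        rw [Matrix.one_apply_eq] at h4
        exact zero_ne_one h4
      exact ⟨Units.mk0 c hc0, h2⟩
    · refine ⟨1, ?_⟩
      ext i
      exact absurd ⟨i⟩ hι

/-- three divides the number of scalars -/
theorem three_dvd [Finite F] (h3 : ((3 : ℕ) : F) ≠ 0) {K : Type v} [Field K] [Fintype K] (hK : Fintype.card K = 9)
    (e : Soc P ≃* Cfsg.PSU 4 K 3) (hn : Fintype.card ι ≤ 12) : 3 ∣ Nat.card ((scalars ι F).subgroupOf P) := by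
  by_contra hnd
  have hcop : (Nat.card ((scalars ι F).subgroupOf P)).Coprime 3 :=
    ((Nat.Prime.coprime_iff_not_dvd Nat.prime_three).2 hnd).symm
  have hfin : Finite P := inferInstance
  let ex : GL ι F ≃* GL (Fin (Fintype.card ι)) F :=
    Units.mapEquiv (Matrix.reindexAlgEquiv F F (Fintype.equivFin ι)).toMulEquiv
  have hpr : H912.Bd.PR F (Fintype.card ι) 3 (Cfsg.PSU 4 K 3) := by
    have h1 := ker_comp e
    refine ⟨P, inferInstance, e.toMonoidHom.comp (toSoc P), ex.toMonoidHom.comp P.subtype,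
      e.surjective.comp (toSoc_surjective P), ?_, ?_, ?_⟩
    · intro x hx y
      have h2 : x ∈ (e.toMonoidHom.comp (toSoc P)).ker := hx
      rw [h1] at h2
      exact ((Subgroup.mem_center_iff.1 (scalars_le_center h2)) y).symm
    · rw [h1]; exact hcop
    · have h2 : (ex.toMonoidHom.comp P.subtype).ker = ⊥ := by
        rw [MonoidHom.ker_eq_bot_iff]
        exact ex.injective.comp P.subtype_injective
      rw [h2]
      exact bot_le
  have hchar : CharP K 3 := by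
    have : Fact (Nat.Prime 3) := ⟨Nat.prime_three⟩
    exact charP_of_card_eq_prime_pow (f := 2) (by rw [hK]; norm_num)
  have h2 := H175.BdSU.bd_psu (K := K) (q := 3) (n := 4) Nat.prime_three (by rw [hK]; norm_num) (by norm_num) h3
    (MulEquiv.refl (Cfsg.PSU 4 K 3)) _ hpr
  norm_num only [] at h2
  omega

/-- a primitive cube root of unity -/
theorem exists_om (hne : Nonempty ι) [Finite F] (h : 3 ∣ Nat.card ((scalars ι F).subgroupOf P)) :
    ∃ w : F, w ^ 2 + w + 1 = 0 := by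
  have : Fact (Nat.Prime 3) := ⟨by norm_num⟩
  have : Finite P := inferInstance
  obtain ⟨z, hz⟩ := exists_prime_orderOf_dvd_card' (G := (scalars ι F).subgroupOf P) 3 h
  have h1 := z.2
  rw [Subgroup.mem_subgroupOf, mem_scalars_iff] at h1
  obtain ⟨c, hc⟩ := h1
  obtain ⟨i⟩ := hne
  have hc3 : (c : F) ^ 3 = 1 := by
    have h2 : z ^ 3 = 1 := by rw [← hz, pow_orderOf_eq_one]
    have h3 : ((((z ^ 3 : (scalars ι F).subgroupOf P) : P) : GL ι F) : Matrix ι ι F) = 1 := by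
      rw [h2]; rfl
    have h4 : ((c : F) ^ 3) • (1 : Matrix ι ι F) = 1 := by
      rw [Subgroup.coe_pow, Subgroup.coe_pow, Units.val_pow_eq_pow_val, hc, smul_pow, one_pow] at h3
      exact h3
    have h5 := congrFun (congrFun h4 i) i
    rwa [Matrix.smul_apply, Matrix.one_apply_eq, smul_eq_mul, mul_one] at h5
  have hc1 : (c : F) ≠ 1 := by
    intro h2
    have h3 : z = 1 := by
      apply Subtype.ext
      apply Subtype.ext
      apply Units.ext
      rw [hc]
      change (c : F) • (1 : Matrix ι ι F) = 1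
      rw [h2, one_smul]
    rw [h3, orderOf_one] at hz
    omega
  refine ⟨c, ?_⟩
  have h6 : ((c : F) - 1) * ((c : F) ^ 2 + c + 1) = 0 := by linear_combination hc3
  rcases mul_eq_zero.1 h6 with h7 | h7
  · exact absurd (sub_eq_zero.1 h7) hc1
  · exact h7

/-- the situation for a core -/
theorem exists_sit [Finite F] (hC : Core P) (h3 : (3 : F) ≠ 0) {K : Type v} [Field K] [Fintype K]
    (hK : Fintype.card K = 9) (e : Soc P ≃* Cfsg.PSU 4 K 3) (hn : Fintype.card ι ≤ 12) :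
    ∃ (D : TD (Soc P)) (S : Sit D F (ι → F) P), S.ρ = rep P := by
  obtain ⟨D⟩ := exists_TD hK e
  have h3' : ((3 : ℕ) : F) ≠ 0 := by exact_mod_cast h3
  obtain ⟨w, hw⟩ := exists_om hC.nonempty (three_dvd h3' hK e hn)
  obtain ⟨X, hX1, hX2⟩ := exists_lift D (toSoc_surjective P) (ker_toSoc_le P)
  exact ⟨D, ⟨rep P, rep_inj, toSoc P, toSoc_surjective P, toSoc_eq_one_iff, w, hw, h3, X, hX1, hX2⟩, rfl⟩

theorem irr_of_core (hC : Core P) (Y : Submodule F (ι → F)) (h : ∀ p : P, ∀ y ∈ Y, rep P p y ∈ Y) : Y = ⊥ ∨ Y = ⊤ := by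
  apply hC.absIrred.1
  rintro s ⟨g, hg, rfl⟩
  rw [Submodule.map_le_iff_le_comap]
  intro y hy
  exact h ⟨g, hg⟩ y hy

/-! ### extension of an automorphism -/

theorem scalars_comm {z : GL ι F} (hz : z ∈ scalars ι F) (g : GL ι F) : g * z = z * g := by
  obtain ⟨c, hc⟩ := (mem_scalars_iff z).1 hz
  apply Units.ext
  rw [Units.val_mul, Units.val_mul, hc, Matrix.mul_smul, Matrix.smul_mul, Matrix.mul_one, Matrix.one_mul]

theorem ext_hom [Finite F] (hC : Core P) {D : TD (Soc P)} (S : Sit D F (ι → F) P) (hρ : S.ρ = rep P) {c : ZMod 3}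
    (H : Hex S.Om c) (h1 : ∀ w ∈ S.Om, finrank F (S.W w) = 1) (Sg : GL ι F →* GL ι F) (C : GL ι F)
    (hM : ∀ m : P, m ∈ S.Mh → Sg (m : GL ι F) = C * m * C⁻¹) (y : P) : Sg (y : GL ι F) = C * y * C⁻¹ := by
  have hnt : Nontrivial (ι → F) := by
    obtain ⟨i⟩ := hC.nonempty
    exact ⟨⟨0, 1, fun h => zero_ne_one (congrFun h i)⟩⟩
  have : Finite P := inferInstance
  set Th : GL ι F → GL ι F := fun y => C⁻¹ * Sg y * C with hTh
  have hmul : ∀ a b, Th (a * b) = Th a * Th b := by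
    intro a b
    simp only [hTh, map_mul]
    group
  have hinv : ∀ a, Th a⁻¹ = (Th a)⁻¹ := by
    intro a
    simp only [hTh, map_inv]
    group
  have hMT : ∀ m : P, m ∈ S.Mh → Th (m : GL ι F) = m := by
    intro m hm
    simp only [hTh]
    rw [hM m hm]
    group
  obtain ⟨g, hg⟩ := S.surj D.g
  -- `Th g g⁻¹` commutes with `D`
  have hZc : ∀ m ∈ S.Dh, (Th (g : GL ι F) * (g : GL ι F)⁻¹) * ((m : P) : GL ι F) = ((m : P) : GL ι F) * (Th g * (g : GL ι F)⁻¹) := by
    intro m hm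
    have h2 : g⁻¹ * (m : P) * g ∈ S.Mh := by
      rw [S.mem_Mh, map_mul, map_mul, map_inv, hg]
      exact hm
    have h3 := hMT _ h2
    rw [Subgroup.coe_mul, Subgroup.coe_mul, Subgroup.coe_inv, hmul, hmul, hinv, hMT _ m.2] at h3
    have h4 : Th (g : GL ι F) * ((Th (g : GL ι F))⁻¹ * ((m : P) : GL ι F) * Th g) * (g : GL ι F)⁻¹ =
        Th (g : GL ι F) * ((g : GL ι F)⁻¹ * ((m : P) : GL ι F) * g) * (g : GL ι F)⁻¹ := by rw [h3]
    have e1 : Th (g : GL ι F) * ((Th (g : GL ι F))⁻¹ * ((m : P) : GL ι F) * Th g) * (g : GL ι F)⁻¹ =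
        ((m : P) : GL ι F) * (Th g * (g : GL ι F)⁻¹) := by group
    have e2 : Th (g : GL ι F) * ((g : GL ι F)⁻¹ * ((m : P) : GL ι F) * g) * (g : GL ι F)⁻¹ =
        (Th (g : GL ι F) * (g : GL ι F)⁻¹) * ((m : P) : GL ι F) := by group
    rw [e1, e2] at h4
    exact h4.symm
  have hZs : Th (g : GL ι F) * (g : GL ι F)⁻¹ ∈ scalars ι F := by
    set Z := Th (g : GL ι F) * (g : GL ι F)⁻¹ with hZ
    obtain ⟨a, ha⟩ := S.comm_Dh H h1 (Z := Matrix.toLin' (Z : Matrix ι ι F)) (fun m hm y => by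
      rw [hρ, rep_apply, rep_apply, Matrix.toLin'_apply, Matrix.toLin'_apply, Matrix.mulVec_mulVec,
        Matrix.mulVec_mulVec, ← Units.val_mul, ← Units.val_mul, hZc m hm])
    have h2 : (Z : Matrix ι ι F) = a • (1 : Matrix ι ι F) := by
      apply Matrix.toLin'.injective
      rw [map_smul, Matrix.toLin'_one]
      exact LinearMap.ext ha
    rw [mem_scalars_iff]
    have ha0 : a ≠ 0 := by
      rintro rfl
      obtain ⟨i⟩ := hC.nonempty
      have h3 : (Z : Matrix ι ι F) * ((Z⁻¹ : GL ι F) : Matrix ι ι F) = 1 := by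
        rw [← Units.val_mul, mul_inv_cancel, Units.val_one]
      rw [h2, zero_smul, Matrix.zero_mul] at h3
      have h4 := congrFun (congrFun h3 i) i
      rw [Matrix.one_apply_eq] at h4
      exact zero_ne_one h4
    exact ⟨Units.mk0 a ha0, h2⟩
  -- the subgroup where `Th` is a scalar multiple
  let R : Subgroup P :=
    { carrier := {y | Th (y : GL ι F) * (y : GL ι F)⁻¹ ∈ scalars ι F}
      mul_mem' := by
        intro a b ha hb
        change Th ((a * b : P) : GL ι F) * ((a * b : P) : GL ι F)⁻¹ ∈ scalars ι F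
        have e1 : Th ((a * b : P) : GL ι F) * ((a * b : P) : GL ι F)⁻¹ =
            (Th (a : GL ι F) * (Th (b : GL ι F) * (b : GL ι F)⁻¹)) * (a : GL ι F)⁻¹ := by
          rw [Subgroup.coe_mul, hmul]; group
        rw [e1, scalars_comm hb, mul_assoc]
        exact mul_mem hb ha
      one_mem' := by
        change Th ((1 : P) : GL ι F) * ((1 : P) : GL ι F)⁻¹ ∈ scalars ι F
        have e1 : Th ((1 : P) : GL ι F) * ((1 : P) : GL ι F)⁻¹ = 1 := by
          simp only [hTh, Subgroup.coe_one, map_one]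
          group
        rw [e1]
        exact one_mem _
      inv_mem' := by
        intro a ha
        change Th ((a⁻¹ : P) : GL ι F) * ((a⁻¹ : P) : GL ι F)⁻¹ ∈ scalars ι F
        have e1 : Th ((a⁻¹ : P) : GL ι F) * ((a⁻¹ : P) : GL ι F)⁻¹ =
            (Th (a : GL ι F))⁻¹ * ((Th (a : GL ι F) * (a : GL ι F)⁻¹)⁻¹ * Th (a : GL ι F)) := by
          rw [Subgroup.coe_inv, hinv]; group
        rw [e1, ← scalars_comm (inv_mem ha), inv_mul_cancel_left]
        exact inv_mem ha }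
  have hR : R = ⊤ := by
    refine S.eq_top_of ?_ ⟨g, hZs, hg⟩
    intro m hm
    change Th (m : GL ι F) * (m : GL ι F)⁻¹ ∈ scalars ι F
    rw [hMT m hm, mul_inv_cancel]
    exact one_mem _
  let E : Subgroup P :=
    { carrier := {y | Th (y : GL ι F) = y}
      mul_mem' := by
        intro a b (ha : Th (a : GL ι F) = a) (hb : Th (b : GL ι F) = b)
        change Th ((a * b : P) : GL ι F) = ((a * b : P) : GL ι F)
        rw [Subgroup.coe_mul, hmul, ha, hb]
      one_mem' := by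
        change Th ((1 : P) : GL ι F) = ((1 : P) : GL ι F)
        simp only [hTh, Subgroup.coe_one, map_one]
        group
      inv_mem' := by
        intro a (ha : Th (a : GL ι F) = a)
        change Th ((a⁻¹ : P) : GL ι F) = ((a⁻¹ : P) : GL ι F)
        rw [Subgroup.coe_inv, hinv, ha] }
  have hE : E = ⊤ := by
    rw [eq_top_iff, ← hC.commutator_top, commutator_def, Subgroup.commutator_le]
    intro a _ b _
    have ha : a ∈ R := by rw [hR]; trivial
    have hb : b ∈ R := by rw [hR]; trivial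
    change Th ((⁅a, b⁆ : P) : GL ι F) = ((⁅a, b⁆ : P) : GL ι F)
    obtain ⟨z, hz, hza⟩ : ∃ z ∈ scalars ι F, Th (a : GL ι F) = z * a := ⟨_, ha, by group⟩
    obtain ⟨w, hw, hwb⟩ : ∃ w ∈ scalars ι F, Th (b : GL ι F) = w * b := ⟨_, hb, by group⟩
    have e1 : ((⁅a, b⁆ : P) : GL ι F) = (a : GL ι F) * b * (a : GL ι F)⁻¹ * (b : GL ι F)⁻¹ := by
      rw [commutatorElement_def]; rfl
    rw [e1, hmul, hmul, hmul, hinv, hinv, hza, hwb]
    have e2 : z * (a : GL ι F) * (w * b) * (z * (a : GL ι F))⁻¹ * (w * (b : GL ι F))⁻¹ =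
        z * ((a : GL ι F) * w) * b * (a : GL ι F)⁻¹ * (z⁻¹ * (b : GL ι F)⁻¹) * w⁻¹ := by group
    rw [e2, scalars_comm hw, ← scalars_comm (inv_mem hz)]
    have e3 : z * (w * (a : GL ι F)) * b * (a : GL ι F)⁻¹ * ((b : GL ι F)⁻¹ * z⁻¹) * w⁻¹ =
        z * (w * ((a : GL ι F) * b * (a : GL ι F)⁻¹ * (b : GL ι F)⁻¹)) * z⁻¹ * w⁻¹ := by group
    rw [e3, ← scalars_comm hw, ← scalars_comm hz]
    have e4 : (a : GL ι F) * b * (a : GL ι F)⁻¹ * (b : GL ι F)⁻¹ * w * z * z⁻¹ * w⁻¹ =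
        (a : GL ι F) * b * (a : GL ι F)⁻¹ * (b : GL ι F)⁻¹ := by group
    exact e4
  have hy : y ∈ E := by rw [hE]; trivial
  have hy' : C⁻¹ * Sg (y : GL ι F) * C = y := hy
  calc Sg (y : GL ι F) = C * (C⁻¹ * Sg (y : GL ι F) * C) * C⁻¹ := by group
    _ = C * y * C⁻¹ := by rw [hy']

/-- inverse transpose of the Frobenius twist -/
noncomputable def twist (f : F →+* F) : GL ι F →* GL ι F where
  toFun y := ⟨(((Matrix.GeneralLinearGroup.map f y)⁻¹ : GL ι F) : Matrix ι ι F)ᵀ,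
    ((Matrix.GeneralLinearGroup.map f y : GL ι F) : Matrix ι ι F)ᵀ, by
      rw [← Matrix.transpose_mul, ← Units.val_mul, mul_inv_cancel, Units.val_one, Matrix.transpose_one], by
      rw [← Matrix.transpose_mul, ← Units.val_mul, inv_mul_cancel, Units.val_one, Matrix.transpose_one]⟩
  map_one' := by
    apply Units.ext
    change (((Matrix.GeneralLinearGroup.map f 1)⁻¹ : GL ι F) : Matrix ι ι F)ᵀ = 1
    rw [map_one, inv_one, Units.val_one, Matrix.transpose_one]
  map_mul' a b := by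
    apply Units.ext
    change (((Matrix.GeneralLinearGroup.map f (a * b))⁻¹ : GL ι F) : Matrix ι ι F)ᵀ =
      (((Matrix.GeneralLinearGroup.map f a)⁻¹ : GL ι F) : Matrix ι ι F)ᵀ *
      (((Matrix.GeneralLinearGroup.map f b)⁻¹ : GL ι F) : Matrix ι ι F)ᵀ
    rw [map_mul, _root_.mul_inv_rev, Units.val_mul, Matrix.transpose_mul]

/-- **Monomial form.** -/
theorem exists_mono [Finite F] (hC : Core P) (h6 : Fintype.card ι = 6) {D : TD (Soc P)} (S : Sit D F (ι → F) P)
    (hρ : S.ρ = rep P) [Nontrivial (ι → F)] {c : ZMod 3} (H : Hex S.Om c) (hS : S.Scal) :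
    ∃ B : GL ι F, ∀ m : P, m ∈ S.Mh → ∃ (σ : Perm ι) (a : ι → F), (∀ j, a j ^ 6 = 1) ∧
      ((B⁻¹ * (m : GL ι F) * B : GL ι F) : Matrix ι ι F) = Matrix.of fun i j => if i = σ j then a j else 0 := by
  obtain ⟨y, hy, hy0, hact⟩ := S.exists_basis H hS (by
    intro z a hz
    obtain ⟨i⟩ := hC.nonempty
    have h2 : ((z : GL ι F) : Matrix ι ι F) = a • (1 : Matrix ι ι F) := by
      apply Matrix.toLin'.injective
      rw [map_smul, Matrix.toLin'_one]
      rw [hρ] at hz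
      exact hz
    have h3 := hC.scalar_pow z.2 h2
    rwa [h6] at h3)
  have hli := S.linInd hy hy0
  have e : ι ≃ {w // w ∈ S.Om} := Fintype.equivOfCardEq (by rw [h6, H.fcard])
  let B0 : Matrix ι ι F := Matrix.of fun i j => y (e j) i
  have hB0 : IsUnit B0 := by
    rw [← Matrix.linearIndependent_cols_iff_isUnit]
    exact hli.comp e e.injective
  obtain ⟨B, hB⟩ := hB0
  refine ⟨B, fun m hm => ?_⟩
  choose a ha6 ha using fun w => hact ⟨m, hm⟩ w
  refine ⟨(e.trans (S.act ⟨m, hm⟩)).trans e.symm, fun j => a (e j), fun j => ha6 _, ?_⟩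
  set N : Matrix ι ι F := Matrix.of fun i j => if i = ((e.trans (S.act ⟨m, hm⟩)).trans e.symm) j then a (e j) else 0
    with hN
  have h1 : ((m : GL ι F) : Matrix ι ι F) * (B : Matrix ι ι F) = (B : Matrix ι ι F) * N := by
    refine Matrix.ext fun i j => ?_
    have h2 : (((m : GL ι F) : Matrix ι ι F) * (B : Matrix ι ι F)) i j = (((m : GL ι F) : Matrix ι ι F) *ᵥ y (e j)) i := by
      rw [hB]; rfl
    have h3 := ha (e j)
    rw [hρ] at h3
    have h4 : ((m : GL ι F) : Matrix ι ι F) *ᵥ y (e j) = a (e j) • y (S.act ⟨m, hm⟩ (e j)) := by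
      rw [← h3]
      exact (rep_apply m _).symm
    rw [h2, h4, Matrix.mul_apply, Finset.sum_eq_single (e.symm (S.act ⟨m, hm⟩ (e j)))]
    · have e1 : (B : Matrix ι ι F) i (e.symm (S.act ⟨m, hm⟩ (e j))) = y (S.act ⟨m, hm⟩ (e j)) i := by
        rw [hB]
        change y (e (e.symm (S.act ⟨m, hm⟩ (e j)))) i = _
        rw [Equiv.apply_symm_apply]
      have e2 : N (e.symm (S.act ⟨m, hm⟩ (e j))) j = a (e j) := if_pos rfl
      rw [e1, e2, Pi.smul_apply, smul_eq_mul, mul_comm]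
    · intro k _ hk
      have e2 : N k j = 0 := if_neg hk
      rw [e2, mul_zero]
    · intro h; exact absurd (Finset.mem_univ _) h
  rw [Units.val_mul, Units.val_mul, Matrix.mul_assoc, h1, ← Matrix.mul_assoc, ← Units.val_mul, inv_mul_cancel,
    Units.val_one, Matrix.one_mul]

theorem pow_p_one {p : ℕ} [hp : Fact p.Prime] (hm : p % 3 = 1) {a : F} (ha : a ^ 6 = 1) : a ^ p = a := by
  have h2 : p % 2 = 1 := by
    rcases hp.out.eq_two_or_odd with h | h
    · rw [h] at hm; norm_num at hm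
    · exact h
  obtain ⟨k, hk⟩ : ∃ k, p = 6 * k + 1 := ⟨p / 6, by omega⟩
  rw [hk, pow_succ, pow_mul, ha, one_pow, one_mul]

theorem pow_p_two {p : ℕ} [hp : Fact p.Prime] [CharP F p] (hm : p % 3 = 2) {a : F} (ha : a ^ 6 = 1) :
    a ^ p * a = 1 := by
  rcases hp.out.eq_two_or_odd with h | h
  · subst h
    have h1 : (a ^ 3 - 1) ^ 2 = 0 := by
      have h2 : (2 : F) = 0 := by
        have := CharP.cast_eq_zero F 2
        exact_mod_cast this
      linear_combination ha + (1 - a ^ 3) * h2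
    have h3 := pow_eq_zero_iff (two_ne_zero) |>.1 h1
    linear_combination h3
  · obtain ⟨k, hk⟩ : ∃ k, p + 1 = 6 * k := ⟨(p + 1) / 6, by omega⟩
    rw [← pow_succ, hk, pow_mul, ha, one_pow]

/-- **Cores with socle `PSU₄(3)`.** -/
theorem u43_core [Finite F] (hC : Core P) (p : ℕ) [hp : Fact p.Prime] [CharP F p] (hp3 : p ≠ 3) {K : Type v} [Field K]
    [Fintype K] (hK : Fintype.card K = 9) (e : Soc P ≃* Cfsg.PSU 4 K 3) (hn : Fintype.card ι ≤ 12) :
    Fintype.card ι = 6 ∧ (p % 3 = 1 → Fr P p) ∧ (p % 3 = 2 → Cj P p) := by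
  have h3 : (3 : F) ≠ 0 := by
    intro h
    have h1 : ((3 : ℕ) : F) = 0 := by exact_mod_cast h
    rw [CharP.cast_eq_zero_iff F p] at h1
    exact hp3 ((Nat.prime_dvd_prime_iff_eq hp.out Nat.prime_three).1 h1)
  obtain ⟨D, S, hρ⟩ := exists_sit hC h3 hK e hn
  have hnt : Nontrivial (ι → F) := by
    obtain ⟨i⟩ := hC.nonempty
    exact ⟨⟨0, 1, fun h => zero_ne_one (congrFun h i)⟩⟩
  have : Finite P := inferInstance
  have hsimp : IsSimpleGroup (Soc P) := hC.simple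
  obtain ⟨h6, c, H, hW, hS⟩ := S.degree (by rw [Module.finrank_pi]; exact hn) (by
    intro Y hY
    rw [hρ] at hY
    exact irr_of_core hC Y hY)
  rw [Module.finrank_pi] at h6
  obtain ⟨B, hB⟩ := exists_mono hC h6 S hρ H hS
  -- general argument
  have key : ∀ Sg : GL ι F →* GL ι F, (∀ m : P, m ∈ S.Mh → Sg (B⁻¹ * (m : GL ι F) * B) = B⁻¹ * (m : GL ι F) * B) →
      ∀ y ∈ P, tr (Sg y) = tr y := by
    intro Sg hSg y hy
    have h1 := ext_hom hC S hρ H hW Sg (Sg B * B⁻¹) (by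
      intro m hm
      have h2 := hSg m hm
      rw [map_mul, map_mul, map_inv] at h2
      have h3 : Sg (m : GL ι F) = Sg B * ((Sg B)⁻¹ * Sg (m : GL ι F) * Sg B) * (Sg B)⁻¹ := by group
      rw [h3, h2]
      group) ⟨y, hy⟩
    rw [h1]
    exact tr_conj _ _
  refine ⟨h6, fun hm1 y hy => ?_, fun hm2 y hy => ?_⟩
  · have h1 := key (Matrix.GeneralLinearGroup.map (frobenius F p)) (by
      intro m hm
      obtain ⟨σ, a, ha, hN⟩ := hB m hm
      apply Units.ext
      rw [Matrix.GeneralLinearGroup.map]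
      change ((B⁻¹ * (m : GL ι F) * B : GL ι F) : Matrix ι ι F).map (frobenius F p) = _
      rw [hN]
      refine Matrix.ext fun i j => ?_
      rw [Matrix.map_apply, Matrix.of_apply]
      split_ifs with h
      · rw [frobenius_def, pow_p_one hm1 (ha j)]
      · rw [map_zero]) y hy
    have h2 : tr (Matrix.GeneralLinearGroup.map (frobenius F p) y) = tr y ^ p := by
      unfold tr
      rw [← frobenius_def, AddMonoidHom.map_trace (frobenius F p)]
      rfl
    rw [← h2, h1]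
  · have h1 := key (twist (frobenius F p)) (by
      intro m hm
      obtain ⟨σ, a, ha, hN⟩ := hB m hm
      set Nu := B⁻¹ * (m : GL ι F) * B with hNu
      have h2 : (((Matrix.GeneralLinearGroup.map (frobenius F p) Nu : GL ι F) : Matrix ι ι F))ᵀ * (Nu : Matrix ι ι F) = 1 := by
        have h3 : ((Matrix.GeneralLinearGroup.map (frobenius F p) Nu : GL ι F) : Matrix ι ι F) =
            (Nu : Matrix ι ι F).map (frobenius F p) := rfl
        rw [h3, hN]
        refine Matrix.ext fun i j => ?_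
        rw [Matrix.mul_apply, Finset.sum_eq_single (σ j)]
        · rw [Matrix.transpose_apply, Matrix.map_apply, Matrix.of_apply, Matrix.of_apply, if_pos rfl, Matrix.one_apply]
          by_cases hij : i = j
          · rw [if_pos hij, if_pos (by rw [hij]), frobenius_def, hij, pow_p_two hm2 (ha j)]
          · rw [if_neg hij, if_neg (fun h => hij (σ.injective h).symm), map_zero, zero_mul]
        · intro k _ hk
          rw [Matrix.of_apply (i := k), if_neg hk, mul_zero]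
        · intro h; exact absurd (Finset.mem_univ _) h
      apply Units.ext
      change (((Matrix.GeneralLinearGroup.map (frobenius F p) Nu)⁻¹ : GL ι F) : Matrix ι ι F)ᵀ = (Nu : Matrix ι ι F)
      calc (((Matrix.GeneralLinearGroup.map (frobenius F p) Nu)⁻¹ : GL ι F) : Matrix ι ι F)ᵀ =
          (((Matrix.GeneralLinearGroup.map (frobenius F p) Nu)⁻¹ : GL ι F) : Matrix ι ι F)ᵀ *
          ((((Matrix.GeneralLinearGroup.map (frobenius F p) Nu : GL ι F) : Matrix ι ι F))ᵀ * (Nu : Matrix ι ι F)) := by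
            rw [h2, Matrix.mul_one]
        _ = (Nu : Matrix ι ι F) := by
            rw [← Matrix.mul_assoc, ← Matrix.transpose_mul, ← Units.val_mul, mul_inv_cancel, Units.val_one,
              Matrix.transpose_one, Matrix.one_mul]) y⁻¹ (inv_mem hy)
    have h2 : tr (twist (frobenius F p) y⁻¹) = tr y ^ p := by
      have h3 : tr (twist (frobenius F p) y⁻¹) = tr (Matrix.GeneralLinearGroup.map (frobenius F p) y) := by
        unfold tr
        change ((((Matrix.GeneralLinearGroup.map (frobenius F p) y⁻¹)⁻¹ : GL ι F) : Matrix ι ι F)ᵀ).trace = _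
        rw [Matrix.trace_transpose, map_inv, inv_inv]
      rw [h3]
      unfold tr
      rw [← frobenius_def, AddMonoidHom.map_trace (frobenius F p)]
      rfl
    rw [← h2, h1]

end Cfsg.Agent.H918.U43
end

private theorem dce_3c663e5adb8d : _root_.True := by
  try have : _root_.True := by simp only [_root_.Cfsg.Agent.H918.U43.Sit.prt.eq_1]
  try have : _root_.True := by simp only [_root_.Cfsg.Agent.H918.U43.vc.eq_1]
  exact _root_.True.intro
end
end
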